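import Mathlib
import Cfsg.Agent.Base
import Cfsg.Agent.Lib.StdW.Basic

/-! Standard subgroups of type `J4`: the finite facts used, and the frames of the proof. -/

set_option autoImplicit false

namespace H59.SJ

open Subgroup H69
open scoped commutatorElement

/-- perfect and generated by involutions -/
def Pf {G : Type*} [Group G] (N : Subgroup G) : Prop :=
  N ≤ ⁅N, N⁆ ∧ N ≤ closure {i | i ∈ N ∧ i * i = 1}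

/-- The data in `J4`. -/
structure Dt (X : Type) [Group X] where
  T : Subgroup X
  V : Subgroup X
  H0 : Subgroup X
  z : X
  b : X
  q1 : X
  q2 : X
  q3 : X
  g0 : X
  d : X
  d' : X
  v0 : X
  x0 : X
  τ : X
  vs : List X
  S0 : List X
  S1 : List X

namespace Dt
variable {X : Type} [Group X] (D : Dt X)

/-- class `2A` -/
def A (a : X) : Prop := ∃ g, g * D.z * g⁻¹ = a
/-- class `2B` -/
def B (a : X) : Prop := ∃ g, g * D.b * g⁻¹ = a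
/-- the pair `(a, a')` is conjugate to `(z, q)` -/
def Ty (q a a' : X) : Prop := ∃ g, g * D.z * g⁻¹ = a ∧ g * q * g⁻¹ = a'
/-- `v` centralises `C(z, q)` -/
def CC (q v : X) : Prop := ∀ g, g * D.z = D.z * g → g * q = q * g → g * v = v * g
/-- the commutator of `v` and `d` -/
def cc (v : X) : X := v * D.d * v * D.d
def Yf (p : X × X) : X × X := (p.1 * D.cc p.2, p.2 * D.cc p.1 * D.cc p.2)
def Bf (p : X × X) : X × X := (D.d' * p.1 * D.d'⁻¹, D.d' * p.2 * D.d'⁻¹)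
def Y1 (p : X × X) : X × X := D.Yf (D.Bf p)
def Y2 (p : X × X) : X × X := (D.Yf (D.Bf p).swap).swap
def wf (p : X × X) : X × X := D.Y1 (D.Y1 (D.Y1 (D.Y2 (D.Y2 (D.Y2 p)))))
/-- the pair `(s, s')` is conjugate to a pair `(v, v')` or `(v, d)` -/
def BR (s s' : X) : Prop := ∃ j, j * s * j⁻¹ ∈ D.V ∧ (j * s' * j⁻¹ ∈ D.V ∨ j * s' * j⁻¹ = D.d)
/-- a homomorphism `C(a) → X` kills `V`, or the centraliser of its image has no subgroup of order four -/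
def N4 (a : X) : Prop := ∀ f : X → X,
  (∀ g h, g * a = a * g → h * a = a * h → f (g * h) = f g * f h) →
  (∀ v ∈ D.V, f v = 1) ∨ ∀ u w : X, (∀ g, g * a = a * g → f g * u = u * f g) →
    (∀ g, g * a = a * g → f g * w = w * f g) → u * w = w * u → u ^ 4 = 1 → w ^ 4 = 1 → u ≠ 1 → w ≠ 1 → u = w

end Dt

variable {X : Type} [Group X] {G : Type*} [Group G]

/-- global facts, the Sylow subgroup, the `E_{2^11}` -/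
structure Fa (D : Dt X) : Prop where
  simple : IsSimpleGroup X
  aut : ∀ φ : X ≃* X, ∃ x : X, ∀ j, φ j = x * j * x⁻¹
  schur : ∀ (Γ : Type) [Group Γ] [Finite Γ] (σ : Γ →* X), Function.Surjective σ → σ.ker ≤ center Γ →
    σ.ker ≤ commutator Γ → Function.Injective σ
  syl : IsSylowIn 2 D.T ⊤
  z2 : D.z * D.z = 1
  z1 : D.z ≠ 1
  b2 : D.b * D.b = 1
  b1 : D.b ≠ 1
  inv : ∀ a, a * a = 1 → a ≠ 1 → D.A a ∨ D.B a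
  nAB : ∀ a, D.A a → ¬ D.B a
  zc : ∀ y ∈ D.T, y * D.z = D.z * y
  cT : ∀ a ∈ D.T, (∀ y ∈ D.T, a * y = y * a) → a = 1 ∨ a = D.z
  VT : D.V ≤ D.T
  nV : D.T ≤ 𝐍(D.V)
  zV : D.z ∈ D.V
  bV : D.b ∈ D.V
  sqV : ∀ v ∈ D.V, v * v = 1
  cV : Nat.card D.V = 2048
  ceV : ∀ g, (∀ v ∈ D.V, g * v = v * g) → g ∈ D.V
  ea0 : ∀ E : Subgroup X, (∀ x ∈ E, x * x = 1) → Nat.card E = 2048 → ∃ j, E ^ᶜ j = D.V
  eaN : ∀ j, D.V ^ᶜ j ≤ 𝐍(D.V) → D.V ^ᶜ j = D.V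
  cb : ∀ g, g * D.b = D.b * g → g ∈ 𝐍(D.V)
  genC : ∀ P : Subgroup X, (∀ v ∈ D.V, v ≠ 1 → ∀ g, g * v = v * g → g ∈ P) → P = ⊤
  nA : {v | v ∈ D.V ∧ D.A v}.ncard = 1771
  nB : {v | v ∈ D.V ∧ D.B v}.ncard = 276
  trA : ∀ v ∈ D.V, D.A v → ∃ n ∈ 𝐍(D.V), n * D.z * n⁻¹ = v
  trB : ∀ v ∈ D.V, D.B v → ∃ n ∈ 𝐍(D.V), n * D.b * n⁻¹ = v
  vsV : ∀ v ∈ D.vs, v ∈ D.V ∧ D.A v ∧ D.A (D.z * v)
  vsG : D.V ≤ closure {v | v ∈ D.vs}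
  sqA : ∃ r, D.A (r * r)
  sqB : ∃ r, D.B (r * r)

/-- the subgroup `H0` of index two in `C(z)`, homomorphisms from involution centralisers -/
structure Fh (D : Dt X) : Prop where
  H0z : ∀ u ∈ D.H0, u * D.z = D.z * u
  idx : ∀ h h', h * D.z = D.z * h → h' * D.z = D.z * h' → h ∉ D.H0 → h' ∉ D.H0 → h * h' ∈ D.H0
  VH0 : D.V ≤ D.H0
  pf : Pf D.H0
  cH0 : ∀ x, (∀ u ∈ D.H0, u * x = x * u) → x = 1 ∨ x = D.z
  cb0 : Nat.card (centralizer {D.b}) < Nat.card D.H0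
  autH : ∀ f : X → X, (∀ u ∈ D.H0, f u * D.z = D.z * f u) →
    (∀ u ∈ D.H0, ∀ v ∈ D.H0, f (u * v) = f u * f v) → (∀ u ∈ D.H0, f u = 1 → u = 1) →
    ∃ k, k * D.z = D.z * k ∧ ∀ u ∈ D.H0, f u = k * u * k⁻¹

/-- facts on the action of `N(V)` on `V` -/
structure Fv (D : Dt X) : Prop where
  qV : ∀ q ∈ [D.q1, D.q2, D.q3], q ∈ D.V ∧ q ≠ D.z
  cls : ∀ a ∈ D.V, D.A a → a = D.z ∨ D.Ty D.q1 D.z a ∨ D.Ty D.q2 D.z a ∨ D.Ty D.q3 D.z a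
  k : ∀ q ∈ [D.q1, D.q2, D.q3], ∀ v ∈ D.V, D.CC q v → v = 1 ∨ v = D.z ∨ v = q ∨ v = D.z * q
  sw : ∀ q ∈ [D.q1, D.q2, D.q3], D.Ty q q D.z
  rot : ∀ q ∈ [D.q1, D.q3], D.Ty q q (D.z * q)
  b2q : D.B (D.z * D.q2)
  bi : ∀ q ∈ [D.q2, D.q3], ∃ u ∈ D.V, D.Ty D.q1 D.z u ∧ D.Ty D.q1 u q ∧ D.Ty D.q1 u (u * q) ∧
    D.Ty D.q1 q (u * q) ∧ D.Ty q D.z (u * q)
  g0N : D.g0 ∈ 𝐍(D.V)
  g02 : D.g0 * D.g0 = 1
  g0z : D.g0 * D.z = D.z * D.g0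
  g0V : ∀ δ ∈ D.V, D.g0 * δ * D.g0⁻¹ ≠ δ * D.z
  sg : ∃ v ∈ D.V, ∃ a r, D.A v ∧ D.A a ∧ a = D.z * v * (D.g0 * v * D.g0⁻¹) ∧ r * r = D.g0 ∧ r * a = a * r
  pl : ∃ u ∈ D.V, ∃ w ∈ D.V, D.A u ∧ D.A w ∧ D.A (D.z * u) ∧ D.A (u * w) ∧ D.A (D.z * u * w) ∧ w ≠ D.z
  vsI : ∀ s : List X, s.Sublist D.vs → s.prod = 1 → s = []
  vsL : ∀ P : X → Prop, (∀ v ∈ D.vs, P v) →
    (∀ a ∈ D.V, ∀ a' ∈ D.V, D.A a → D.A a' → D.A (a * a') → P a → P a' → P (a * a')) →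
    ∀ a ∈ D.V, D.A a → P a
  dN : D.d ∈ 𝐍(D.V)
  dN' : D.d' ∈ 𝐍(D.V)
  v0V : D.v0 ∈ D.V
  kd : ∀ v ∈ D.V, (∀ g ∈ 𝐍(D.V), g * D.v0 = D.v0 * g → g * D.d = D.d * g → g * v = v * g) →
    v = 1 ∨ v = D.v0 ∨ v = D.cc D.v0 ∨ v = D.v0 * D.cc D.v0
  gd : D.V ≤ closure {v | ∃ g ∈ 𝐍(D.V), g * D.d = D.d * g ∧ g * D.v0 * g⁻¹ = v}
  x0V : D.x0 ∈ D.V
  x0A : D.A (D.cc D.x0)
  bd : ∃ β ∈ D.V, D.B β ∧ D.d * β = β * D.d
  wd : ∀ v ∈ D.vs, D.wf (1, v) = (D.wf (v, 1)).swap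
  wb : ∃ α, ∃ β ∈ D.V, D.A α ∧ D.B β ∧ D.wf (β, β) = (α, α)
  S0d : ∀ s ∈ D.S0, ∃ m, s = m * D.d * m⁻¹
  gS1 : ∀ s ∈ D.S1, ∃ m ∈ closure {s | s ∈ D.S0}, ∃ s0 ∈ D.S0, s = m * s0 * m⁻¹

/-- relations outside `N(V)` -/
structure Fj (D : Dt X) : Prop where
  g0H : D.g0 ∉ D.H0
  j0 : ∃ j, j * D.d * j⁻¹ = D.z ∧ j * D.cc D.x0 * j⁻¹ ∈ D.V
  τA : D.A D.τ
  r0 : ∀ s ∈ D.S0, ∀ s' ∈ D.S0, s = s' ∨ D.BR s s' ∨ D.BR s' s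
  r1 : ∀ s ∈ D.S1, D.BR D.τ s ∨ D.BR s D.τ
  gen : closure (insert D.τ {s | s ∈ D.S1}) = ⊤

/-- all the finite facts -/
structure Fx (D : Dt X) : Prop extends Fa D, Fh D, Fv D, Fj D where
  redz : D.N4 D.z
  redb : D.N4 D.b

/-- `C(t) = ⟨t⟩ × O × ι X` -/
structure W0 (t : G) (O : Subgroup G) (ι : X →* G) : Prop where
  inj : Function.Injective ι
  t2 : t * t = 1
  t1 : t ≠ 1
  tL : ∀ x, ι x * t = t * ι x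
  OL : ∀ o ∈ O, ∀ x, ι x * o = o * ι x
  Ot : ∀ o ∈ O, o * t = t * o
  oddO : ∀ o ∈ O, Odd (orderOf o)
  cen : ∀ g, g * t = t * g → ∃ o ∈ O, ∃ x, g = o * ι x ∨ g = o * t * ι x

/-- a half `z0` of `z`, up to sign -/
structure W2 (D : Dt X) (t : G) (O : Subgroup G) (ι : X →* G) (z0 : G) : Prop extends W0 t O ι where
  zt : z0 * t * z0⁻¹ = t * ι D.z
  zH : ∀ u ∈ D.H0, ι u * z0 = z0 * ι u
  zO : ∀ o ∈ O, o * z0 = z0 * o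
  zz : z0 * z0 = 1 ∨ z0 * z0 = ι D.z

/-- `x` is a half of `a` -/
def Hf (D : Dt X) (ι : X →* G) (z0 : G) (a : X) (x : G) : Prop :=
  ∃ j, j * D.z * j⁻¹ = a ∧ x = ι j * z0 * (ι j)⁻¹

/-- the halves of the elements of `V` commute -/
structure Wc (D : Dt X) (t : G) (O : Subgroup G) (ι : X →* G) (z0 : G) : Prop extends W2 D t O ι z0 where
  cm : ∀ a ∈ D.V, ∀ a' ∈ D.V, ∀ x x', Hf D ι z0 a x → Hf D ι z0 a' x' → x * x' = x' * x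

/-- the equivariant halving `e` of class `2A`, additive on `V` -/
structure Wa (D : Dt X) (t : G) (O : Subgroup G) (ι : X →* G) (e : X → G) : Prop extends W0 t O ι where
  e2 : ∀ a, D.A a → e a * e a = 1
  et : ∀ a, D.A a → e a * t * e a = t * ι a
  ec : ∀ a, D.A a → ∀ l, e (l * a * l⁻¹) = ι l * e a * (ι l)⁻¹
  eO : ∀ a, D.A a → ∀ o ∈ O, o * e a = e a * o
  R0 : ∀ a ∈ D.V, ∀ a' ∈ D.V, D.A a → D.A a' → e a * e a' = e a' * e a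
  add : ∀ a ∈ D.V, ∀ a' ∈ D.V, D.A a → D.A a' → D.A (a * a') → e (a * a') = e a * e a'

/-- the halving `θ` of `V` -/
structure Th (D : Dt X) (t : G) (O : Subgroup G) (ι : X →* G) (e θ : X → G) : Prop extends Wa D t O ι e where
  mul : ∀ u ∈ D.V, ∀ v ∈ D.V, θ (u * v) = θ u * θ v
  tθ : ∀ v ∈ D.V, t * θ v * t = θ v * ι v
  eq : ∀ a ∈ D.V, D.A a → θ a = e a
  cjθ : ∀ l ∈ 𝐍(D.V), ∀ v ∈ D.V, θ (l * v * l⁻¹) = ι l * θ v * (ι l)⁻¹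
  θO : ∀ v ∈ D.V, ∀ o ∈ O, o * θ v = θ v * o

/-- `g` acts on `θ V × t (θ V) t` as `f` -/
def Cj (D : Dt X) (t : G) (θ : X → G) (g : G) (f : X × X → X × X) : Prop :=
  ∀ p : X × X, p.1 ∈ D.V → p.2 ∈ D.V → (f p).1 ∈ D.V ∧ (f p).2 ∈ D.V ∧
    g * (θ p.1 * (t * θ p.2 * t)) * g⁻¹ = θ (f p).1 * (t * θ (f p).2 * t)

/-- the wreath frame: `ι` is the diagonal of `ψ X × t (ψ X) t` -/
structure W3 (t : G) (O : Subgroup G) (ι ψ : X →* G) : Prop extends W0 t O ι where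
  comm : ∀ x y, ψ x * (t * ψ y * t) = t * ψ y * t * ψ x
  diag : ∀ x, ψ x * (t * ψ x * t) = ι x

/-- `t` swaps the factors of `Ψ (X × X) ≤ G0`, and `Ψ (T × T)` is a Sylow subgroup of `G0` -/
structure En (D : Dt X) (t : G) (Ψ : X × X →* G) (G0 : Subgroup G) : Prop where
  inj : Function.Injective Ψ
  t2 : t * t = 1
  sw : ∀ x y, t * Ψ (x, y) * t = Ψ (y, x)
  cen : ∀ g, g * t = t * g → ∃ k x, g = k * Ψ (x, x) ∧ ∀ y, Ψ (y, y) * k = k * Ψ (y, y)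
  n0 : G0.Normal
  idx : ∀ g, g ∈ G0 ∨ g * t ∈ G0
  le : ∀ p, Ψ p ∈ G0
  syl : IsSylowIn 2 ((D.T.prod D.T).map Ψ) G0

/-- conjugates in `T × T` of elements of the first factor satisfying `P` lie in the first factor -/
def Cl (D : Dt X) (Ψ : X × X →* G) (G0 : Subgroup G) (P : X → Prop) : Prop :=
  ∀ x ∈ D.T, P x → ∀ g ∈ G0, ∀ y1 ∈ D.T, ∀ y2 ∈ D.T, g * Ψ (x, 1) * g⁻¹ = Ψ (y1, y2) → y2 = 1

theorem eqns_Defs : True := by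
  have := @Pf.eq_1.{0}
  have := @Dt.A.eq_1
  have := @Dt.B.eq_1
  have := @Dt.Ty.eq_1
  have := @Dt.CC.eq_1
  have := @Dt.cc.eq_1
  have := @Dt.Yf.eq_1
  have := @Dt.Bf.eq_1
  have := @Dt.Y1.eq_1
  have := @Dt.Y2.eq_1
  have := @Dt.wf.eq_1
  have := @Dt.BR.eq_1
  have := @Dt.N4.eq_1
  have := @Hf.eq_1.{0}
  have := @Cj.eq_1.{0}
  have := @Cl.eq_1.{0}
  trivial

end H59.SJ
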