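import Mathlib
import Cfsg.Agent.Base
import Cfsg.Agent.Lib.StdJ.Defs
import Cfsg.Agent.Lib.Transfer.Control

/-! Consequences of `Fa` and `W0`. -/

set_option autoImplicit false

namespace H59.SJ

open Subgroup H69 H36.SW
open scoped commutatorElement

variable {X : Type} [Group X] {G : Type*} [Group G]

theorem isv {x : G} (h : x * x = 1) : x⁻¹ = x := inv_eq_of_mul_eq_one_right h

theorem Pf.map {H : Type*} [Group H] {N : Subgroup G} (h : Pf N) (f : G →* H) : Pf (N.map f) := by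
  refine ⟨by rw [← map_commutator]; exact map_mono h.1, (map_mono h.2).trans ?_⟩
  rw [MonoidHom.map_closure]
  refine closure_mono ?_
  rintro _ ⟨i, ⟨h1, h2⟩, rfl⟩
  exact ⟨mem_map_of_mem f h1, by rw [← map_mul, h2, map_one]⟩

theorem Pf.cj {N : Subgroup G} (h : Pf N) (g : G) : Pf (N ^ᶜ g) := h.map _

/-- `o w = 1`, `o` of odd order commuting with the `2`-element `w` -/
theorem odd_mul_eq_one {o w : G} (ho : Odd (orderOf o)) (hw : P2 w) (e : o * w = 1) : o = 1 ∧ w = 1 := by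
  have : o = w⁻¹ := eq_inv_of_mul_eq_one_left e
  have h1 : o = 1 := (this ▸ hw.inv : P2 o).eq_one ho
  exact ⟨h1, by rwa [h1, one_mul] at e⟩

namespace Dt
variable {D : Dt X}

theorem A.cj {a : X} (h : D.A a) (g : X) : D.A (g * a * g⁻¹) :=
  let ⟨k, e⟩ := h; ⟨g * k, by rw [← e]; group⟩
theorem B.cj {a : X} (h : D.B a) (g : X) : D.B (g * a * g⁻¹) :=
  let ⟨k, e⟩ := h; ⟨g * k, by rw [← e]; group⟩
theorem Az : D.A D.z := ⟨1, by group⟩
theorem Bb : D.B D.b := ⟨1, by group⟩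
theorem Ty.cj {q a a' : X} (h : D.Ty q a a') (g : X) : D.Ty q (g * a * g⁻¹) (g * a' * g⁻¹) :=
  let ⟨k, e, e'⟩ := h; ⟨g * k, by rw [← e]; group, by rw [← e']; group⟩
theorem Ty.A {q a a' : X} (h : D.Ty q a a') : D.A a := let ⟨k, e, _⟩ := h; ⟨k, e⟩
theorem Ty.base (q : X) : D.Ty q D.z q := ⟨1, by group, by group⟩

end Dt

namespace Fa
variable {D : Dt X} (F : Fa D)
include F

theorem A2 {a : X} (h : D.A a) : a * a = 1 := let ⟨g, e⟩ := h; e ▸ cjsq F.z2 g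
theorem A1 {a : X} (h : D.A a) : a ≠ 1 := let ⟨g, e⟩ := h; e ▸ cjne F.z1 g
theorem B2 {a : X} (h : D.B a) : a * a = 1 := let ⟨g, e⟩ := h; e ▸ cjsq F.b2 g
theorem B1 {a : X} (h : D.B a) : a ≠ 1 := let ⟨g, e⟩ := h; e ▸ cjne F.b1 g
theorem zT : D.z ∈ D.T := F.VT F.zV
theorem bT : D.b ∈ D.T := F.VT F.bV
theorem bz : D.b ≠ D.z := fun e => F.nAB _ Dt.Az (e ▸ Dt.Bb)
theorem cm {a b : X} (ha : a ∈ D.V) (hb : b ∈ D.V) : a * b = b * a := comm_of_sq F.sqV ha hb
theorem P2T {a : X} (ha : a ∈ D.T) : P2 a := P2.of_mem F.syl.isP ha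
omit F in
theorem cjV {n v : X} (hn : n ∈ 𝐍(D.V)) (hv : v ∈ D.V) : n * v * n⁻¹ ∈ D.V := conj_mem_of_mem_normalizer hn hv

/-- an element `v` of `V` with `v` and `z v` in class `2A` -/
theorem exA : ∃ v ∈ D.V, D.A v ∧ D.A (D.z * v) := by
  rcases h : D.vs with _ | ⟨v, l⟩
  · have := F.vsG F.zV
    rw [h] at this
    exact absurd (by simpa using this) F.z1
  · exact ⟨v, F.vsV v (h ▸ List.mem_cons_self)⟩

/-- the centre is trivial -/
theorem cen1 {x : X} (h : ∀ y, y * x = x * y) : x = 1 := by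
  refine (F.cT x (F.VT (F.ceV x fun v _ => (h v).symm)) fun y _ => (h y).symm).resolve_right fun e => ?_
  obtain ⟨v, -, ⟨g, hg⟩, h2⟩ := F.exA
  rw [← e, h, mul_inv_cancel_right, e] at hg
  exact F.A1 h2 (by rw [← hg, F.z2])

theorem perf : commutator X = ⊤ := by
  have := F.simple
  refine (IsSimpleGroup.eq_bot_or_eq_top_of_normal (commutator X) inferInstance).resolve_left fun e => ?_
  refine F.z1 (F.cen1 fun y => ?_)
  have : ⁅y, D.z⁆ ∈ commutator X := commutator_mem_commutator (mem_top _) (mem_top _)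
  rwa [e, mem_bot, commutatorElement_eq_one_iff_mul_comm] at this

theorem quasi : Cfsg.IsQuasisimple X := by
  have := F.simple
  have e : center X = ⊥ := eq_bot_iff.2 fun x hx => mem_bot.2 (F.cen1 (mem_center_iff.1 hx))
  exact ⟨⟨F.perf⟩, ((QuotientGroup.quotientMulEquivOfEq e).trans QuotientGroup.quotientBot).isSimpleGroup⟩

/-- every involution is a square -/
theorem sq {a : X} (h : a * a = 1) : ∃ r, r * r = a := by
  have k : ∀ {c r g g' : X}, g * c * g⁻¹ = r * r → g' * c * g'⁻¹ = a → ∃ r, r * r = a := fun {c r g g'} e e' =>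
    ⟨g' * g⁻¹ * r * (g' * g⁻¹)⁻¹, by
      calc _ = g' * g⁻¹ * (r * r) * (g' * g⁻¹)⁻¹ := by group
        _ = _ := by rw [← e, ← e']; group⟩
  by_cases h1 : a = 1
  · exact ⟨1, by simp [h1]⟩
  rcases F.inv a h h1 with ⟨g', e'⟩ | ⟨g', e'⟩
  · obtain ⟨r, g, e⟩ := F.sqA; exact k e e'
  · obtain ⟨r, g, e⟩ := F.sqB; exact k e e'

theorem eaX [Finite X] {E : Subgroup X} (h2 : ∀ x ∈ E, x * x = 1) (h : 2048 ≤ Nat.card E) :
    ∃ j, E ^ᶜ j = D.V := by
  obtain ⟨k, hk⟩ := (isP_of_P2 fun x hx => P2.of_sq (h2 x hx)).exists_card_eq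
  obtain ⟨E1, c1⟩ := Sylow.exists_subgroup_card_pow_prime (G := E) 2 (n := 11) (by
    rw [hk]; exact pow_dvd_pow 2 ((Nat.pow_le_pow_iff_right (a := 2) (by norm_num)).1 (by rw [← hk]; exact h)))
  obtain ⟨j, hj⟩ := F.ea0 (E1.map E.subtype) (fun x hx => h2 x (map_subtype_le _ hx))
    (by rw [card_map_of_injective E.subtype_injective, c1]; norm_num)
  have l : D.V ≤ E ^ᶜ j := hj ▸ cj_mono j (map_subtype_le _)
  refine ⟨j, le_antisymm (fun x hx => F.ceV x fun v hv => comm_of_sq (fun y hy => ?_) hx (l hv)) l⟩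
  obtain ⟨a, ha, rfl⟩ := mem_cj'.1 hy
  exact cjsq (h2 a ha) j

theorem eaN' [Finite X] {E : Subgroup X} (hE : E ≤ 𝐍(D.V)) (h2 : ∀ x ∈ E, x * x = 1) (h : 2048 ≤ Nat.card E) :
    E = D.V := by
  obtain ⟨j, hj⟩ := F.eaX h2 h
  have e : D.V ^ᶜ j⁻¹ = E := by rw [← hj, cj_cj, inv_mul_cancel, cj_one]
  rw [← e]
  exact F.eaN _ (e ▸ hE)

theorem ea [Finite X] {E : Subgroup X} (hE : E ≤ D.T) (h2 : ∀ x ∈ E, x * x = 1) (h : 2048 ≤ Nat.card E) :
    E = D.V := F.eaN' (hE.trans F.nV) h2 h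

theorem eaT [Finite X] {E : Subgroup X} (h2 : ∀ x ∈ E, x * x = 1) : Nat.card E ≤ 2048 := by
  by_contra hc
  obtain ⟨j, hj⟩ := F.eaX h2 (by omega)
  exact hc (by rw [← card_cj E j, hj, F.cV])

theorem cb' {β g : X} (hβ : β ∈ D.V) (hB : D.B β) (h : g * β = β * g) : g ∈ 𝐍(D.V) := by
  obtain ⟨n, hn, rfl⟩ := F.trB β hβ hB
  have := F.cb (n⁻¹ * g * n) (by
    calc _ = n⁻¹ * (g * (n * D.b * n⁻¹)) * n := by group
      _ = _ := by rw [h]; group)
  simpa [mul_assoc] using mul_mem (mul_mem hn this) (inv_mem hn)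

/-- every element of order at most two is conjugate into `V` -/
theorem toV {a : X} (h : a * a = 1) : ∃ j, j * a * j⁻¹ ∈ D.V := by
  by_cases h1 : a = 1
  · exact ⟨1, by simp [h1]⟩
  rcases F.inv a h h1 with ⟨g, e⟩ | ⟨g, e⟩
  · exact ⟨g⁻¹, by rw [← e]; simpa [mul_assoc] using F.zV⟩
  · exact ⟨g⁻¹, by rw [← e]; simpa [mul_assoc] using F.bV⟩

/-- stem extensions in any universe -/
theorem schur' {Γ : Type*} [Group Γ] [Finite Γ] (σ : Γ →* X) (h : Function.Surjective σ)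
    (h1 : σ.ker ≤ center Γ) (h2 : σ.ker ≤ commutator Γ) : Function.Injective σ := by
  let e : Shrink.{0} Γ ≃* Γ := Shrink.mulEquiv
  have : Finite (Shrink.{0} Γ) := Finite.of_equiv _ e.toEquiv.symm
  have := F.schur (Shrink.{0} Γ) (σ.comp e.toMonoidHom) (h.comp e.surjective)
    (fun x hx => mem_center_iff.2 fun y => e.injective (by
      rw [map_mul, map_mul]; exact mem_center_iff.1 (h1 hx) _))
    (fun x hx => by
      have := mem_map_of_mem e.symm.toMonoidHom (h2 hx)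
      rw [commutator_def, map_commutator, map_top_of_surjective _ e.symm.surjective] at this
      simpa [commutator_def] using this)
  intro a b hab
  obtain ⟨a, rfl⟩ := e.surjective a
  obtain ⟨b, rfl⟩ := e.surjective b
  exact congrArg e (this hab)

end Fa

namespace W0
variable {t : G} {O : Subgroup G} {ι : X →* G} (w : W0 t O ι)
include w

theorem ti : t⁻¹ = t := isv w.t2
theorem tt (x : G) : t * (t * x) = x := by rw [← mul_assoc, w.t2, one_mul]
theorem tt' (x : G) : x * t * t = x := by rw [mul_assoc, w.t2, mul_one]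
theorem tit (x : X) : t * ι x * t = ι x := by rw [← w.tL, w.tt']

theorem cj (g : G) : W0 (g * t * g⁻¹) (O ^ᶜ g) ((MulAut.conj g).toMonoidHom.comp ι) where
  inj := (MulAut.conj g).injective.comp w.inj
  t2 := cjsq w.t2 g
  t1 := cjne w.t1 g
  tL x := by
    show g * ι x * g⁻¹ * _ = _ * (g * ι x * g⁻¹)
    calc _ = g * (ι x * t) * g⁻¹ := by group
      _ = _ := by rw [w.tL]; group
  OL o h x := by
    obtain ⟨o, ho, rfl⟩ := mem_cj'.1 h
    show g * ι x * g⁻¹ * _ = _ * (g * ι x * g⁻¹)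
    calc _ = g * (ι x * o) * g⁻¹ := by group
      _ = _ := by rw [w.OL o ho]; group
  Ot o h := by
    obtain ⟨o, ho, rfl⟩ := mem_cj'.1 h
    calc _ = g * (o * t) * g⁻¹ := by group
      _ = _ := by rw [w.Ot o ho]; group
  oddO o h := by
    obtain ⟨o, ho, rfl⟩ := mem_cj'.1 h
    rw [show orderOf (g * o * g⁻¹) = orderOf o from (MulAut.conj g).orderOf_eq o]
    exact w.oddO o ho
  cen k hk := by
    obtain ⟨o, ho, x, h⟩ := w.cen (g⁻¹ * k * g) (by
      calc _ = g⁻¹ * (k * (g * t * g⁻¹)) * g := by group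
        _ = _ := by rw [hk]; group)
    refine ⟨_, cj_mem g ho, x, h.imp (fun h => ?_) fun h => ?_⟩
    · show k = _ * (g * ι x * g⁻¹)
      calc k = g * (g⁻¹ * k * g) * g⁻¹ := by group
        _ = _ := by rw [h]; group
    · show k = _ * (g * ι x * g⁻¹)
      calc k = g * (g⁻¹ * k * g) * g⁻¹ := by group
        _ = _ := by rw [h]; group

/-- an element of `C(t)` and its component in `X` -/
theorem cen' {g : G} (h : g * t = t * g) : ∃ k x, g = k * ι x ∧ (∀ y, ι y * k = k * ι y) ∧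
    (k ∈ O ∨ ∃ o ∈ O, k = o * t) := by
  obtain ⟨o, ho, x, e | e⟩ := w.cen g h
  · exact ⟨o, x, e, w.OL o ho, .inl ho⟩
  · exact ⟨o * t, x, e, fun y => by rw [← mul_assoc, w.OL o ho, mul_assoc, w.tL, mul_assoc], .inr ⟨o, ho, rfl⟩⟩

/-- if `k ι x` commutes with `ι y` then `x` commutes with `y` -/
theorem comm_of {k : G} {x y : X} (hk : ∀ y, ι y * k = k * ι y) (h : ι y * (k * ι x) = k * ι x * ι y) :
    y * x = x * y := by
  apply w.inj
  rw [← mul_assoc, hk, mul_assoc, mul_assoc] at h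
  rw [map_mul, map_mul]
  exact mul_left_cancel h

variable {D : Dt X} (F : Fa D)
include F

theorem eq1 {x : X} (h : ∀ y, ι y * ι x = ι x * ι y) : x = 1 :=
  F.cen1 fun y => w.inj (by rw [map_mul, map_mul, h])

theorem Oi {o : G} (ho : o ∈ O) {x : X} (h : o = ι x) : o = 1 := by
  rw [h, w.eq1 F (x := x) fun y => h ▸ w.OL o ho y, map_one]

theorem tO {o : G} (ho : o ∈ O) (x : X) : t ≠ o * ι x := by
  intro e
  have : x = 1 := F.cen1 fun y => w.comm_of (w.OL o ho) (by rw [← e, w.tL])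
  rw [this, map_one, mul_one] at e
  exact w.t1 ((P2.of_sq w.t2).eq_one (e ▸ w.oddO o ho))

theorem tι (x : X) : t ≠ ι x := fun e => w.tO F O.one_mem x (by rwa [one_mul])

/-- `2`-elements of `C(t)` -/
theorem cen2 {g : G} (h : g * t = t * g) (h2 : P2 g) : ∃ x, P2 x ∧ (g = ι x ∨ g = t * ι x) := by
  have key : ∀ o ∈ O, ∀ (u : G) (x : X), u * u = 1 → u * o = o * u → (∀ y, ι y * u = u * ι y) →
      P2 (o * u * ι x) → o = 1 ∧ P2 x := by
    intro o ho u x u2 uo uy ⟨k, hk⟩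
    have c : Commute (o * u) (ι x) := by
      show _ = _
      rw [← mul_assoc, w.OL o ho, mul_assoc, mul_assoc, uy]
    have e : (o * u * ι x) ^ 2 ^ (k + 1) = 1 := by rw [pow_succ, pow_mul, hk, one_pow]
    rw [c.mul_pow, (show Commute o u from uo.symm).mul_pow, pow_succ' 2 k, pow_mul u, pow_two u, u2, one_pow,
      mul_one, ← map_pow] at e
    have e1 := w.Oi F (O.pow_mem ho (2 * 2 ^ k)) (x := (x ^ (2 * 2 ^ k))⁻¹)
      (by rw [map_inv]; exact eq_inv_of_mul_eq_one_left e)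
    rw [e1, one_mul, ← map_one ι] at e
    exact ⟨P2.eq_one ⟨k + 1, by rwa [pow_succ']⟩ (w.oddO o ho), ⟨k + 1, by rw [pow_succ']; exact w.inj e⟩⟩
  obtain ⟨o, ho, x, e | e⟩ := w.cen g h
  · obtain ⟨h1, h3⟩ := key o ho 1 x (by simp) (by simp) (by simp) (by rwa [mul_one, ← e])
    exact ⟨x, h3, .inl (by rw [e, h1, one_mul])⟩
  · obtain ⟨h1, h3⟩ := key o ho t x w.t2 (w.Ot o ho).symm w.tL (e ▸ h2)
    exact ⟨x, h3, .inr (by rw [e, h1, one_mul])⟩

/-- a perfect subgroup of `C(t)` generated by involutions lies in `ι X` -/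
theorem pf_le {N : Subgroup G} (h : Pf N) (c : ∀ g ∈ N, g * t = t * g) : N ≤ ι.range := by
  let K : Subgroup G :=
    { carrier := {g | ∃ o ∈ O, ∃ x, g = o * ι x}
      one_mem' := ⟨1, O.one_mem, 1, by simp⟩
      mul_mem' := by
        rintro _ _ ⟨o, ho, x, rfl⟩ ⟨o', ho', x', rfl⟩
        exact ⟨_, O.mul_mem ho ho', x * x', by
          rw [map_mul, mul_assoc, ← mul_assoc (ι x), w.OL o' ho']; group⟩
      inv_mem' := by
        rintro _ ⟨o, ho, x, rfl⟩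
        exact ⟨_, O.inv_mem ho, x⁻¹, by rw [mul_inv_rev, ← map_inv, w.OL _ (O.inv_mem ho)]⟩ }
  have tK : ∀ g, g * t = t * g → ∃ k ∈ K, k * t = t * k ∧ (g = k ∨ g = k * t) := by
    intro g hg
    obtain ⟨o, ho, x, e | e⟩ := w.cen g hg
    · exact ⟨g, ⟨o, ho, x, e⟩, hg, .inl rfl⟩
    · exact ⟨_, ⟨o, ho, x, rfl⟩, by rw [mul_assoc, w.tL, ← mul_assoc, w.Ot o ho, mul_assoc],
        .inr (by rw [e, mul_assoc, mul_assoc, w.tL])⟩
  have hK : N ≤ K := h.1.trans (commutator_le.2 fun a ha b hb => by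
    obtain ⟨k, hk, kt, e⟩ := tK a (c a ha)
    obtain ⟨l, hl, lt, e'⟩ := tK b (c b hb)
    have : ⁅a, b⁆ = ⁅k, l⁆ := by
      have ck : Commute t k := kt.symm
      have cl : Commute t l := lt.symm
      have A : ∀ x y : G, Commute t y → ⁅x * t, y⁆ = ⁅x, y⁆ := fun x y h => by
        rw [commutatorElement_def, commutatorElement_def, mul_assoc x t, h.eq]; group
      have B : ∀ x y : G, Commute t x → ⁅x, y * t⁆ = ⁅x, y⁆ := fun x y h => by
        rw [← commutatorElement_inv, A y x h, commutatorElement_inv]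
      rcases e with rfl | rfl <;> rcases e' with rfl | rfl
      · rfl
      · exact B _ _ ck
      · exact A _ _ cl
      · rw [A _ _ (cl.mul_right (Commute.refl t)), B _ _ ck]
    rw [this, commutatorElement_def]
    exact K.mul_mem (K.mul_mem (K.mul_mem hk hl) (K.inv_mem hk)) (K.inv_mem hl))
  refine h.2.trans ((closure_le _).2 fun i ⟨hi, i2⟩ => ?_)
  obtain ⟨x, -, e | e⟩ := w.cen2 F (c i hi) (P2.of_sq i2)
  · exact ⟨x, e.symm⟩
  · obtain ⟨o, ho, y, e'⟩ := hK hi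
    exact absurd (by rw [map_mul, map_inv, ← mul_assoc, ← e', e, mul_inv_cancel_right]) (w.tO F ho (y * x⁻¹))

/-- the image of a subgroup with `Pf` centralising `g t g⁻¹` lies in `g (ι X) g⁻¹` -/
theorem pf_cj {N : Subgroup X} (h : Pf N) (f : X →* G) {g : G}
    (c : ∀ n ∈ N, f n * (g * t * g⁻¹) = g * t * g⁻¹ * f n) {n : X} (hn : n ∈ N) : ∃ x, g⁻¹ * f n * g = ι x := by
  obtain ⟨x, e⟩ := (w.cj g).pf_le F (h.map f) (by rintro _ ⟨n, hn, rfl⟩; exact c n hn) (mem_map_of_mem f hn)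
  exact ⟨x, by rw [← e]; show g⁻¹ * (g * ι x * g⁻¹) * g = _; group⟩

/-- `t` is not a square -/
theorem nsq (r : G) : r * r ≠ t := by
  intro e
  obtain ⟨x, -, h | h⟩ := w.cen2 F (g := r) (by rw [← e, mul_assoc]) (P2.of_mul_self (e ▸ P2.of_sq w.t2))
  · exact w.tι F (x * x) (by rw [map_mul, ← h, e])
  · exact w.tι F (x * x) (by rw [map_mul, ← e, h, ← mul_assoc, w.tit])

/-- no conjugate of `t` is a square -/
theorem nsq' (g r : G) : r * r ≠ g * t * g⁻¹ := fun e => w.nsq F (g⁻¹ * r * g) (by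
  calc _ = g⁻¹ * (r * r) * g := by group
    _ = _ := by rw [e]; group)

/-- no conjugate of `t` lies in `ι X` -/
theorem not_conj (g : G) (x : X) : g * t * g⁻¹ ≠ ι x := by
  intro e
  obtain ⟨r, hr⟩ := F.sq (a := x) (w.inj (by rw [map_mul, ← e, cjsq w.t2, map_one]))
  exact w.nsq' F g (ι r) (by rw [← map_mul, hr, e])

/-- a `2`-element centralising `t`, `ι V` and an element moving `t` lies in `ι V` -/
theorem inV {y x : G} {a : X} (y2 : P2 y) (yt : y * t = t * y) (yV : ∀ v ∈ D.V, ι v * y = y * ι v)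
    (xt : x * t * x⁻¹ = t * ι a) (a1 : a ≠ 1) (xV : ∀ v ∈ D.V, ι v * x = x * ι v) (c : x * y = y * x) :
    ∃ δ ∈ D.V, y = ι δ := by
  obtain ⟨δ, -, h | h⟩ := w.cen2 F yt y2
  · exact ⟨δ, F.ceV δ fun v hv => (w.inj (by rw [map_mul, map_mul, ← h, yV v hv])).symm, h⟩
  · have hδ : δ ∈ D.V := F.ceV δ fun v hv => (w.comm_of w.tL (h ▸ yV v hv)).symm
    refine absurd (w.inj ?_) a1
    have e : x * y * x⁻¹ = y := by rw [c, mul_inv_cancel_right]
    rw [h, ← mul_assoc, mul_assoc _ (ι δ), ← mul_inv_eq_iff_eq_mul, mul_assoc (x * t), mul_assoc (ι δ),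
      show ι δ * (x⁻¹ * (ι δ)⁻¹) = x⁻¹ by rw [← mul_assoc, (show Commute (ι δ) x from xV δ hδ).inv_right.eq]; group,
      xt] at e
    rw [map_one]
    exact mul_left_cancel (a := t) (by rw [e, mul_one])

end W0

/-- the normaliser of a weakly closed subgroup controls fusion in its centraliser -/
theorem wc_fus [Finite G] {S G0 W : Subgroup G} (hS : IsSylowIn 2 S G0) (hW : W ≤ S)
    (wc : ∀ h ∈ G0, W ^ᶜ h ≤ S → W ^ᶜ h = W) {u g : G} (hg : g ∈ G0) (c : ∀ x ∈ W, x * u = u * x)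
    (c' : ∀ x ∈ W, x * (g * u * g⁻¹) = g * u * g⁻¹ * x) :
    ∃ h ∈ G0, h ∈ 𝐍(W) ∧ h * u * h⁻¹ = g * u * g⁻¹ := by
  have p2 : IsPGroup 2 W := hS.isP.to_le hW
  obtain ⟨P, hP, hWP⟩ := exists_isSylowIn_le (L := G0 ⊓ centralizer {g * u * g⁻¹}) p2
    (le_inf (hW.trans hS.le) fun x hx => mem_centralizer_singleton_iff.2 (c' x hx))
  obtain ⟨k, ⟨hk, kc⟩, h1⟩ := hP.exists_cj_le (isPGroup_cj p2 g) (le_inf (cj_le_of_mem (hW.trans hS.le) hg) (by
    rw [← cj_centralizer_singleton]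
    exact cj_mono g fun x hx => mem_centralizer_singleton_iff.2 (c x hx)))
  obtain ⟨l, hl, h2⟩ := hS.exists_cj_le hP.isP (hP.le.trans inf_le_left)
  have e1 := wc l hl ((cj_mono l hWP).trans h2)
  have e2 := wc (l * (k * g)) (G0.mul_mem hl (G0.mul_mem hk hg)) (by
    rw [← cj_cj, ← cj_cj]; exact (cj_mono l h1).trans h2)
  rw [← cj_cj, ← e1, cj_inj, e1] at e2
  refine ⟨k * g, G0.mul_mem hk hg, cj_eq_self_iff.1 e2, ?_⟩
  calc _ = k * (g * u * g⁻¹) * k⁻¹ := by group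
    _ = _ := by rw [mem_centralizer_singleton_iff.1 kc]; group

namespace En
variable {D : Dt X} {t : G} {Ψ : X × X →* G} {G0 : Subgroup G} (e : En D t Ψ G0)
include e

theorem ti : t⁻¹ = t := isv e.t2

theorem tG {g : G} (h : g ∈ G0) : t * g * t ∈ G0 := by
  have := e.n0.conj_mem g h t
  rwa [e.ti] at this

omit e in
theorem memT {g : G} : g ∈ (D.T.prod D.T).map Ψ ↔ ∃ x ∈ D.T, ∃ y ∈ D.T, g = Ψ (x, y) :=
  ⟨fun ⟨p, h, e⟩ => ⟨p.1, h.1, p.2, h.2, e.symm⟩, fun ⟨_, h, _, h', e⟩ => ⟨(_, _), ⟨h, h'⟩, e.symm⟩⟩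

/-- the statement `Cl` for the second factor -/
theorem cl2 {P : X → Prop} (h : Cl D Ψ G0 P) {x : X} (hx : x ∈ D.T) (px : P x) {g : G} (hg : g ∈ G0) {y1 y2 : X}
    (h1 : y1 ∈ D.T) (h2 : y2 ∈ D.T) (c : g * Ψ (1, x) * g⁻¹ = Ψ (y1, y2)) : y1 = 1 := by
  refine h x hx px _ (e.tG hg) y2 h2 y1 h1 ?_
  rw [← e.sw y1, ← c, ← e.sw x, mul_inv_rev, mul_inv_rev, e.ti]
  simp only [mul_assoc]

end En

/-- an odd prime dividing the length of an orbit on a group of order `2 ^ n` -/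
theorem prime_orbit [Finite G] {W N : Subgroup G} {n p : ℕ} (hW : Nat.card W = 2 ^ n) (hN : N ≤ 𝐍(W)) {u : G}
    (hu : u ∈ W) (hp : p.Prime) (h2 : p ≠ 2) (hd : p ∣ {x | ∃ g ∈ N, g * u * g⁻¹ = x}.ncard) :
    ∃ j, 0 < j ∧ j ≤ n ∧ p ∣ 2 ^ j - 1 := by
  have := Fact.mk hp
  have e : {x | ∃ g ∈ N, g * u * g⁻¹ = x}.ncard = (centralizer {u}).relIndex N := by
    have a : (centralizer {u}).subgroupOf N = (MulAction.stabilizer (N.map (MulAut.conj (G := G))) u).comap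
        ((MulAut.conj (G := G)).subgroupMap N) := by
      ext g
      rw [mem_subgroupOf, mem_centralizer_singleton_iff, mem_comap, MulAction.mem_stabilizer_iff]
      exact mul_inv_eq_iff_eq_mul.symm
    rw [relIndex, a, index_comap_of_surjective _ (MonoidHom.subgroupMap_surjective _ _), MulAction.index_stabilizer]
    congr 1
    ext x
    exact ⟨fun ⟨g, hg, e⟩ => ⟨⟨_, g, hg, rfl⟩, e⟩, fun ⟨⟨_, g, hg, rfl⟩, e⟩ => ⟨g, hg, e⟩⟩
  obtain ⟨P, hP⟩ := exists_isSylowIn p N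
  obtain ⟨g, hg, c⟩ : ∃ g ∈ P, g ∉ centralizer {u} := by
    by_contra! h
    refine hP.not_dvd_relIndex_of_le (le_inf h hP.le) inf_le_right ?_
    rwa [inf_relIndex_right, ← e]
  obtain ⟨k, hk⟩ := hP.isP ⟨g, hg⟩
  have h1 := H4.card_modEq_card_inf_centralizer (q := p) (hN (hP.le hg)) (congrArg Subtype.val hk)
  have hle : W ⊓ centralizer {g} ≤ W := inf_le_left
  obtain ⟨i, hi, e'⟩ := (Nat.dvd_prime_pow Nat.prime_two).1 (hW ▸ card_dvd_of_le hle)
  have lt : i < n := lt_of_le_of_ne hi fun h => c (mem_centralizer_singleton_iff.2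
    (mem_centralizer_singleton_iff.1 ((inf_eq_left.1 (eq_of_le_of_card_ge hle (by rw [e', hW, h]))) hu)).symm)
  refine ⟨n - i, by omega, by omega, ?_⟩
  rw [hW, e'] at h1
  have h3 := (Nat.modEq_iff_dvd' (Nat.pow_le_pow_right (by norm_num) hi)).1 h1.symm
  rw [show 2 ^ n - 2 ^ i = 2 ^ i * (2 ^ (n - i) - 1) by
    rw [Nat.mul_sub, ← pow_add, Nat.add_sub_cancel' hi, mul_one]] at h3
  exact (hp.dvd_mul.1 h3).resolve_left fun h =>
    h2 ((Nat.prime_dvd_prime_iff_eq hp Nat.prime_two).1 (hp.dvd_of_dvd_pow h))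

namespace Fh
variable {D : Dt X} (H : Fh D)
include H

theorem nH0 {h u : X} (hz : h * D.z = D.z * h) (hu : u ∈ D.H0) : h * u * h⁻¹ ∈ D.H0 := by
  by_cases c : h ∈ D.H0
  · exact mul_mem (mul_mem c hu) (inv_mem c)
  · exact H.idx _ _ (Commute.mul_left hz (H.H0z u hu)) (Commute.inv_left hz)
      (fun e => c ((mul_mem_cancel_right hu).1 e)) fun e => c (inv_mem_iff.1 e)

theorem sqH0 {h : X} (hz : h * D.z = D.z * h) : h * h ∈ D.H0 := by
  by_cases c : h ∈ D.H0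
  exacts [mul_mem c c, H.idx _ _ hz hz c c]

end Fh

namespace Fv
variable {D : Dt X} (F' : Fv D)
include F'

theorem qA {q : X} (h : q ∈ [D.q1, D.q2, D.q3]) : D.A q := (F'.sw q h).A

/-- the pairs of elements of class `2A` in `V` -/
theorem cls' (F : Fa D) {a a' : X} (ha : a ∈ D.V) (ha' : a' ∈ D.V) (h : D.A a) (h' : D.A a') :
    a = a' ∨ D.Ty D.q1 a a' ∨ D.Ty D.q2 a a' ∨ D.Ty D.q3 a a' := by
  obtain ⟨n, hn, rfl⟩ := F.trA a ha h
  have e : n * (n⁻¹ * a' * n⁻¹⁻¹) * n⁻¹ = a' := by group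
  rcases F'.cls _ (Fa.cjV (inv_mem hn) ha') (h'.cj _) with c | c | c | c
  exacts [.inl (by rw [← c, e]), .inr (.inl (e ▸ c.cj n)), .inr (.inr (.inl (e ▸ c.cj n))),
    .inr (.inr (.inr (e ▸ c.cj n)))]

end Fv

theorem Fj.dA {D : Dt X} (J : Fj D) : D.A D.d := let ⟨j, e, _⟩ := J.j0; ⟨j⁻¹, by rw [← e]; group⟩

section Half
variable {D : Dt X} {t : G} {O : Subgroup G} {ι : X →* G} {z0 : G}

theorem Hf.base : Hf D ι z0 D.z z0 := ⟨1, by group, by simp⟩
theorem Hf.A {a : X} {x : G} (h : Hf D ι z0 a x) : D.A a := let ⟨j, e, _⟩ := h; ⟨j, e⟩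
theorem Hf.ex {a : X} (h : D.A a) : ∃ x, Hf D ι z0 a x := let ⟨j, e⟩ := h; ⟨_, j, e, rfl⟩
theorem Hf.cj {a : X} {x : G} (h : Hf D ι z0 a x) (l : X) : Hf D ι z0 (l * a * l⁻¹) (ι l * x * (ι l)⁻¹) :=
  let ⟨j, e, e'⟩ := h; ⟨l * j, by rw [← e]; group, by rw [e', map_mul]; group⟩

namespace W2
variable (w : W2 D t O ι z0)
include w

theorem hf_t {a : X} {x : G} (h : Hf D ι z0 a x) : x * t * x⁻¹ = t * ι a := by
  obtain ⟨j, rfl, rfl⟩ := h
  have c : Commute (ι j) t := w.tL j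
  calc _ = ι j * (z0 * ((ι j)⁻¹ * t * ι j) * z0⁻¹) * (ι j)⁻¹ := by group
    _ = _ := by rw [c.inv_left.eq, inv_mul_cancel_right, w.zt, ← mul_assoc, c.eq, map_mul, map_mul, map_inv]; group

theorem hf_O {a : X} {x : G} (h : Hf D ι z0 a x) {o : G} (ho : o ∈ O) : o * x = x * o := by
  obtain ⟨j, -, rfl⟩ := h
  have c : Commute o (ι j) := (w.OL o ho j).symm
  exact ((c.mul_right (w.zO o ho)).mul_right c.inv_right).eq

theorem hf_sq {a : X} {x : G} (h : Hf D ι z0 a x) :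
    (z0 * z0 = 1 ∧ x * x = 1) ∨ (z0 * z0 = ι D.z ∧ x * x = ι a) := by
  obtain ⟨j, rfl, rfl⟩ := h
  refine w.zz.imp (fun e => ⟨e, cjsq e _⟩) fun e => ⟨e, ?_⟩
  rw [map_mul, map_mul, map_inv, ← e]; group

variable (F : Fa D) (H : Fh D)
include F H

/-- `C(z)` fixes `z0` up to sign -/
theorem two {h : X} (hz : h * D.z = D.z * h) : ι h * z0 * (ι h)⁻¹ = z0 ∨ ι h * z0 * (ι h)⁻¹ = z0 * ι D.z := by
  have hf : Hf D ι z0 D.z (ι h * z0 * (ι h)⁻¹) := ⟨h, by rw [hz]; group, rfl⟩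
  obtain ⟨y, hy⟩ : ∃ y, y = ι h * z0 * (ι h)⁻¹ := ⟨_, rfl⟩
  rw [← hy] at hf ⊢
  have zc : Commute (ι D.z) z0 := w.zH _ (H.VH0 F.zV)
  have yH : ∀ u ∈ D.H0, Commute (ι u) y := fun u hu => by
    have := w.zH _ (H.nH0 (Commute.inv_left hz) hu)
    rw [map_mul, map_mul, map_inv, map_inv, map_inv] at this
    show _ = _
    calc _ = ι h * ((ι h)⁻¹ * ι u * (ι h)⁻¹⁻¹ * z0) * (ι h)⁻¹ := by rw [hy]; group
      _ = _ := by rw [this, hy]; group
  have zi : z0⁻¹ * t * z0 = t * ι D.z := by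
    have : z0 * (t * ι D.z) * z0⁻¹ = t := by
      rw [← mul_assoc, mul_assoc _ _ z0⁻¹, zc.inv_right.eq, ← mul_assoc, w.zt, mul_assoc, ← map_mul, F.z2, map_one,
        mul_one]
    conv_lhs => rw [← this]
    group
  have ct : z0⁻¹ * y * t = t * (z0⁻¹ * y) := by
    calc _ = z0⁻¹ * (y * t * y⁻¹) * y := by group
      _ = z0 ⁻¹ * (z0 * t * z0⁻¹) * y := by rw [w.hf_t hf, w.zt]
      _ = _ := by group
  have sq : y * y = z0 * z0 := by
    rcases w.hf_sq hf with ⟨a, b⟩ | ⟨a, b⟩ <;> rw [a, b]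
  obtain ⟨k, x, e, kL, hk⟩ := w.cen' ct
  have xz : x = 1 ∨ x = D.z := H.cH0 x fun u hu => w.comm_of kL (by
    rw [← e]; exact ((show Commute (ι u) z0 from w.zH u hu).inv_right.mul_right (yH u hu)).eq)
  have x2 : ι x * ι x = 1 := by rcases xz with rfl | rfl <;> simp [← map_mul, F.z2]
  have xc : Commute (ι x) z0 := by
    rcases xz with rfl | rfl
    exacts [by simp, zc]
  have e1 : y = z0 * (k * ι x) := by rw [← e]; group
  have e2 : z0⁻¹ * k * z0 * k = 1 := by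
    have : z0 * z0 * (z0⁻¹ * k * z0 * k * (ι x * ι x)) = z0 * z0 := by
      conv_rhs => rw [← sq, e1, mul_assoc z0 (k * ι x), mul_assoc k, ← mul_assoc (ι x), xc.eq, mul_assoc z0 (ι x),
        ← mul_assoc (ι x), kL]
      group
    rwa [x2, mul_one, mul_eq_left] at this
  have k1 : k = 1 := by
    rcases hk with hk | ⟨o, ho, rfl⟩
    · rw [mul_assoc z0⁻¹, w.zO k hk, inv_mul_cancel_left] at e2
      exact (P2.of_sq e2).eq_one (w.oddO k hk)
    · have c : Commute o z0 := w.zO o ho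
      have e3 : o * o * ι D.z = 1 := by
        rw [← e2, ← mul_assoc z0⁻¹, ← c.inv_right.eq, mul_assoc o z0⁻¹, mul_assoc o (z0⁻¹ * t), zi, mul_assoc o (t * _),
          ← w.tL, w.Ot o ho, mul_assoc (ι D.z), w.tt, w.OL o ho, mul_assoc]
      have := (odd_mul_eq_one (w.oddO _ (O.mul_mem ho ho)) (P2.of_sq (by rw [← map_mul, F.z2, map_one])) e3).2
      exact absurd (w.inj (this.trans (map_one ι).symm)) F.z1
  rw [e1, k1, one_mul]
  exact xz.imp (fun h => by rw [h, map_one, mul_one]) fun h => by rw [h]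

theorem hf_two {a : X} {x x' : G} (h : Hf D ι z0 a x) (h' : Hf D ι z0 a x') : x' = x ∨ x' = x * ι a := by
  obtain ⟨j, e, rfl⟩ := h
  obtain ⟨j', e', rfl⟩ := h'
  have := w.two F H (h := j⁻¹ * j') (by
    calc _ = j⁻¹ * (j' * D.z * j'⁻¹) * j' := by group
      _ = _ := by rw [e', ← e]; group)
  rw [map_mul, map_inv] at this
  refine this.imp (fun c => ?_) fun c => ?_
  · conv_rhs => rw [← c]
    group
  · rw [← e, map_mul, map_mul, map_inv, show ι j * z0 * (ι j)⁻¹ * (ι j * ι D.z * (ι j)⁻¹) =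
      ι j * (z0 * ι D.z) * (ι j)⁻¹ by group, ← c]
    group

theorem hf_V {a : X} {x : G} (h : Hf D ι z0 a x) (ha : a ∈ D.V) {v : X} (hv : v ∈ D.V) : ι v * x = x * ι v := by
  obtain ⟨n, hn, e⟩ := F.trA a ha h.A
  have c : Commute (ι v) (ι n * z0 * (ι n)⁻¹) := by
    have := w.zH _ (H.VH0 (Fa.cjV (inv_mem hn) hv))
    rw [map_mul, map_mul, map_inv, map_inv, map_inv] at this
    show _ = _
    calc _ = ι n * ((ι n)⁻¹ * ι v * (ι n)⁻¹⁻¹ * z0) * (ι n)⁻¹ := by group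
      _ = _ := by rw [this]; group
  rcases w.hf_two F H ⟨n, e, rfl⟩ h with rfl | rfl
  exacts [c.eq, (c.mul_right (show Commute _ _ by show _ = _; rw [← map_mul, F.cm hv ha, map_mul])).eq]

omit H in
theorem hf_P2 {a : X} {x : G} (h : Hf D ι z0 a x) : x ^ 4 = 1 := by
  rw [show x ^ 4 = x * x * (x * x) by simp [pow_succ, mul_assoc]]
  rcases w.hf_sq h with ⟨-, b⟩ | ⟨-, b⟩ <;> rw [b]
  exacts [mul_one _, by rw [← map_mul, F.A2 h.A, map_one]]

/-- the square of an element centralising `a` centralises its halves -/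
theorem hf_sq_fix {a r : X} {x : G} (h : Hf D ι z0 a x) (c : r * a = a * r) : ι (r * r) * x = x * ι (r * r) := by
  obtain ⟨j, rfl, rfl⟩ := h
  have := w.zH _ (H.sqH0 (h := j⁻¹ * r * j) (by
    calc _ = j⁻¹ * (r * (j * D.z * j⁻¹)) * j := by group
      _ = _ := by rw [c]; group))
  simp only [map_mul, map_inv] at this ⊢
  calc _ = ι j * ((ι j)⁻¹ * ι r * ι j * ((ι j)⁻¹ * ι r * ι j) * z0) * (ι j)⁻¹ := by group
    _ = _ := by rw [this]; group

end W2
end Half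

end H59.SJ
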