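import Mathlib
import Cfsg.Agent.Base
import Cfsg.Agent.Lib.StdJ.Basic

/-! The halving `θ` of `V` (ported from the `M24` case). -/

set_option autoImplicit false
set_option linter.unusedSectionVars false

namespace H59.SJ

open Subgroup H69 H36.SW

variable {X : Type} [Group X] [Finite X] {G : Type*} [Group G] [Finite G] {D : Dt X}

theorem toggle {H : Type*} [Group H] (f : X → H) {s L : List X} (h : s.Sublist L)
    (h2 : ∀ a ∈ L, f a * f a = 1) (hc : ∀ a ∈ L, ∀ b ∈ L, f a * f b = f b * f a) {b : X} (hb : b ∈ L) :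
    ∃ s' : List X, s'.Sublist L ∧ f b * (s.map f).prod = (s'.map f).prod := by
  induction h with
  | slnil => simp at hb
  | cons a h ih =>
    rcases List.mem_cons.1 hb with rfl | hb
    · exact ⟨_, h.cons_cons b, by simp⟩
    · obtain ⟨s', h1, e⟩ := ih (fun x hx => h2 x (by simp [hx]))
        (fun x hx y hy => hc x (by simp [hx]) y (by simp [hy])) hb
      exact ⟨s', h1.cons a, e⟩
  | cons_cons a h ih =>
    rcases List.mem_cons.1 hb with rfl | hb
    · exact ⟨_, h.cons b, by rw [List.map_cons, List.prod_cons, ← mul_assoc, h2 b hb, one_mul]⟩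
    · obtain ⟨s', h1, e⟩ := ih (fun x hx => h2 x (by simp [hx]))
        (fun x hx y hy => hc x (by simp [hx]) y (by simp [hy])) hb
      refine ⟨a :: s', h1.cons_cons a, ?_⟩
      rw [List.map_cons, List.prod_cons, List.map_cons, List.prod_cons, ← e, ← mul_assoc, ← mul_assoc,
        hc b (by simp [hb]) a (by simp)]

theorem exists_sublist {H : Type*} [Group H] (f : X → H) {L : List X}
    (h2 : ∀ a ∈ L, f a * f a = 1) (hc : ∀ a ∈ L, ∀ b ∈ L, f a * f b = f b * f a) {x : H}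
    (hx : x ∈ closure (f '' {v | v ∈ L})) : ∃ s : List X, s.Sublist L ∧ x = (s.map f).prod := by
  induction hx using closure_induction_left with
  | one => exact ⟨[], List.nil_sublist _, rfl⟩
  | mul_left x hx y _ ih =>
    obtain ⟨b, hb, rfl⟩ := hx
    obtain ⟨s, hs, rfl⟩ := ih
    exact toggle f hs h2 hc hb
  | inv_mul_cancel x hx y _ ih =>
    obtain ⟨b, hb, rfl⟩ := hx
    obtain ⟨s, hs, rfl⟩ := ih
    rw [isv (h2 b hb)]
    exact toggle f hs h2 hc hb

variable {t : G} {O : Subgroup G} {ι : X →* G} {e θ : X → G}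

theorem Wa.ιe (w : Wa D t O ι e) {a l : X} (ha : D.A a) (h : l * a = a * l) : ι l * e a = e a * ι l := by
  have := w.ec a ha l
  rw [h, mul_inv_cancel_right] at this
  exact mul_inv_eq_iff_eq_mul.1 this.symm

theorem Wa.tet (w : Wa D t O ι e) {a : X} (ha : D.A a) : t * e a * t = e a * ι a := by
  rw [← w.ιe ha rfl, ← w.tt (ι a), ← w.et a ha]
  simp only [mul_assoc, w.e2 a ha, mul_one]

theorem W0.ct (w : W0 t O ι) {x : G} (h : t * x * t = x) : x * t = t * x := by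
  nth_rw 1 [← h]
  exact w.tt' _

theorem Wa.exists_th (F : Fa D) (F' : Fv D) {e : X → G} (w : Wa D t O ι e) : ∃ θ, Th D t O ι e θ := by
  let f : X → G × X := fun a => (e a, a)
  let Γ := closure (f '' {a | a ∈ D.V ∧ D.A a})
  have h1 : ∀ p ∈ Γ, p.2 ∈ D.V ∧ (∀ u ∈ D.V, ι u * p.1 = p.1 * ι u) ∧ t * p.1 * t = p.1 * ι p.2 := by
    intro p hp
    induction hp using closure_induction_left with
    | one => exact ⟨one_mem _, by simp, by simp [w.t2]⟩
    | mul_left x hx y _ ih =>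
      obtain ⟨a, ⟨ha, hA⟩, rfl⟩ := hx
      refine ⟨mul_mem ha ih.1, fun u hu => ?_, ?_⟩
      · change ι u * (e a * y.1) = e a * y.1 * ι u
        rw [← mul_assoc, w.ιe hA (F.cm hu ha), mul_assoc, ih.2.1 u hu, mul_assoc]
      · change t * (e a * y.1) * t = e a * y.1 * ι (a * y.2)
        calc _ = t * e a * t * (t * y.1 * t) := by simp only [mul_assoc, w.tt]
          _ = _ := by
            rw [w.tet hA, ih.2.2, map_mul, mul_assoc, ← mul_assoc (ι a), ih.2.1 a ha]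
            simp only [mul_assoc]
    | inv_mul_cancel x hx y _ ih =>
      obtain ⟨a, ⟨ha, hA⟩, rfl⟩ := hx
      rw [isv (x := f a) (Prod.ext (w.e2 a hA) (F.A2 hA))]
      refine ⟨mul_mem ha ih.1, fun u hu => ?_, ?_⟩
      · change ι u * (e a * y.1) = e a * y.1 * ι u
        rw [← mul_assoc, w.ιe hA (F.cm hu ha), mul_assoc, ih.2.1 u hu, mul_assoc]
      · change t * (e a * y.1) * t = e a * y.1 * ι (a * y.2)
        calc _ = t * e a * t * (t * y.1 * t) := by simp only [mul_assoc, w.tt]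
          _ = _ := by
            rw [w.tet hA, ih.2.2, map_mul, mul_assoc, ← mul_assoc (ι a), ih.2.1 a ha]
            simp only [mul_assoc]
  have h2 : Γ ≤ closure (f '' {v | v ∈ D.vs}) := (closure_le _).2 (by
    rintro _ ⟨a, ⟨ha, hA⟩, rfl⟩
    refine F'.vsL (fun a => f a ∈ closure (f '' {v | v ∈ D.vs}))
      (fun v hv => subset_closure ⟨v, hv, rfl⟩) (fun a ha a' ha' h h' h'' p p' => ?_) a ha hA
    have : f (a * a') = f a * f a' := Prod.ext (w.add a ha a' ha' h h' h'') rfl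
    exact this ▸ mul_mem p p')
  have h3 : ∀ x, (x, 1) ∈ Γ → x = 1 := fun x hx => by
    obtain ⟨s, hs, e⟩ := exists_sublist f
      (fun a ha => Prod.ext (w.e2 a (F.vsV a ha).2.1) (F.A2 (F.vsV a ha).2.1))
      (fun a ha b hb => have c := F.cm (F.vsV a ha).1 (F.vsV b hb).1
        Prod.ext (w.R0 a (F.vsV a ha).1 b (F.vsV b hb).1 (F.vsV a ha).2.1 (F.vsV b hb).2.1) c) (h2 hx)
    have e2 := congrArg (MonoidHom.snd G X) e
    rw [map_list_prod, List.map_map] at e2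
    have : s = [] := F'.vsI s hs (by
      have e3 : (MonoidHom.snd G X) ∘ f = id := rfl
      rw [e3, List.map_id] at e2
      exact e2.symm)
    rw [this] at e
    exact congrArg Prod.fst e
  have h4 : ∀ x x' v, (x, v) ∈ Γ → (x', v) ∈ Γ → x = x' := fun x x' v h h' =>
    inv_mul_eq_one.1 (h3 _ (by simpa using mul_mem (inv_mem h) h'))
  have h5 : ∀ v ∈ D.V, ∃ x, (x, v) ∈ Γ := fun v hv => by
    have : closure {v | v ∈ D.vs} ≤ Γ.map (MonoidHom.snd G X) := (closure_le _).2 fun a ha =>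
      ⟨f a, subset_closure ⟨a, ⟨(F.vsV a ha).1, (F.vsV a ha).2.1⟩, rfl⟩, rfl⟩
    obtain ⟨p, hp, rfl⟩ := this (F.vsG hv)
    exact ⟨p.1, hp⟩
  have h6 : ∀ l ∈ 𝐍(D.V), ∀ p ∈ Γ, (ι l, l) * p * (ι l, l)⁻¹ ∈ Γ := fun l hl p hp => by
    induction hp using closure_induction with
    | mem x hx =>
      obtain ⟨a, ⟨ha, hA⟩, rfl⟩ := hx
      exact subset_closure ⟨l * a * l⁻¹, ⟨(mem_normalizer_iff.1 hl a).1 ha, hA.cj l⟩,
        Prod.ext (w.ec a hA l) rfl⟩
    | one => rw [mul_one, mul_inv_cancel]; exact one_mem _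
    | mul x y _ _ hx hy => exact conj_mul (b := ((ι l, l) : G × X)) ▸ mul_mem hx hy
    | inv x _ hx => exact conj_inv (b := ((ι l, l) : G × X)) ▸ inv_mem hx
  have h7 : ∀ o ∈ O, ∀ p ∈ Γ, Commute o p.1 := fun o ho p hp => by
    induction hp using closure_induction with
    | mem x hx =>
      obtain ⟨a, ⟨-, hA⟩, rfl⟩ := hx
      exact w.eO a hA o ho
    | one => exact Commute.one_right _
    | mul x y _ _ hx hy => exact hx.mul_right hy
    | inv x _ hx => exact hx.inv_right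
  choose! θ hθ using h5
  exact ⟨θ, w, fun u hu v hv => h4 _ _ _ (hθ _ (mul_mem hu hv)) (mul_mem (hθ u hu) (hθ v hv)),
    fun v hv => (h1 _ (hθ v hv)).2.2, fun a ha hA => h4 _ _ _ (hθ a ha) (subset_closure ⟨a, ⟨ha, hA⟩, rfl⟩),
    fun l hl v hv => h4 _ _ _ (hθ _ ((mem_normalizer_iff.1 hl v).1 hv)) (h6 l hl _ (hθ v hv)),
    fun v hv o ho => h7 o ho _ (hθ v hv)⟩

section
variable (F : Fa D) (F' : Fv D) (hd : D.A D.d)
include F F' hd

theorem dvd {v : X} : D.d * v * D.d⁻¹ = D.d * v * D.d := by rw [isv (F.A2 hd)]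

theorem ccV {v : X} (hv : v ∈ D.V) : D.cc v ∈ D.V := by
  have := mul_mem hv ((mem_normalizer_iff.1 F'.dN v).1 hv)
  rwa [dvd F F' hd, ← mul_assoc, ← mul_assoc] at this

theorem ccd' (v : X) : D.cc v * D.d = v * D.d * v := by
  rw [Dt.cc, mul_assoc, F.A2 hd, mul_one]

theorem dvd' {v : X} (hv : v ∈ D.V) : D.d * v * D.d⁻¹ = v * D.cc v := by
  rw [dvd F F' hd, Dt.cc, ← mul_assoc, ← mul_assoc, ← mul_assoc, F.sqV v hv, one_mul]

theorem ccd {v : X} (hv : v ∈ D.V) : D.cc v * D.d = D.d * D.cc v := by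
  have h := F.cm hv ((mem_normalizer_iff.1 F'.dN v).1 hv)
  rw [dvd F F' hd] at h
  rw [ccd' F F' hd, show D.cc v = v * (D.d * v * D.d) by simp only [Dt.cc, mul_assoc], h]
  simp only [← mul_assoc, F.A2 hd, one_mul]

theorem cc_mul {u v : X} (hu : u ∈ D.V) (hv : v ∈ D.V) : D.cc (u * v) = D.cc u * D.cc v := by
  have h := dvd' F F' hd (mul_mem hu hv)
  rw [← conj_mul, dvd' F F' hd hu, dvd' F F' hd hv, mul_assoc, ← mul_assoc (D.cc u),
    F.cm (ccV F F' hd hu) hv] at h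
  simp only [mul_assoc, mul_right_inj] at h
  exact h.symm

end

namespace Th
variable (w : Th D t O ι e θ) (F : Fa D)
include w

theorem one : θ 1 = 1 := by
  have := w.mul 1 (one_mem _) 1 (one_mem _)
  rwa [mul_one, left_eq_mul] at this

include F

theorem sq {v : X} (hv : v ∈ D.V) : θ v * θ v = 1 := by rw [← w.mul v hv v hv, F.sqV v hv, w.one]

theorem ι2 {v : X} (hv : v ∈ D.V) : ι v * ι v = 1 := by rw [← map_mul, F.sqV v hv, map_one]

theorem cθθ {u v : X} (hu : u ∈ D.V) (hv : v ∈ D.V) : Commute (θ u) (θ v) := by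
  change _ = _
  rw [← w.mul u hu v hv, ← w.mul v hv u hu, F.cm hu hv]

theorem cιθ {u v : X} (hu : u ∈ D.V) (hv : v ∈ D.V) : Commute (ι u) (θ v) := by
  have := w.cjθ u (le_normalizer hu) v hv
  rw [F.cm hu hv, mul_inv_cancel_right] at this
  exact mul_inv_eq_iff_eq_mul.1 this.symm

theorem cιι {u v : X} (hu : u ∈ D.V) (hv : v ∈ D.V) : Commute (ι u) (ι v) :=
  Commute.map (F.cm hu hv) ι

theorem cθτ {u v : X} (hu : u ∈ D.V) (hv : v ∈ D.V) : Commute (θ u) (t * θ v * t) := by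
  rw [w.tθ v hv]
  exact (w.cθθ F hu hv).mul_right (w.cιθ F hv hu).symm

theorem cττ {u v : X} (hu : u ∈ D.V) (hv : v ∈ D.V) : Commute (t * θ u * t) (t * θ v * t) := by
  have := (w.cθθ F hu hv).conj t
  rwa [w.ti] at this

theorem θτ {v : X} (hv : v ∈ D.V) : θ v * (t * θ v * t) = ι v := by
  rw [w.tθ v hv, ← mul_assoc, w.sq F hv, one_mul]

/-- 2-elements centralising the frame and inverted by `t` -/
theorem inv_mem (k : ℕ) : ∀ ε : G, ε ^ 2 ^ k = 1 → (∀ v ∈ D.V, Commute ε (θ v)) →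
    (∀ v ∈ D.V, Commute ε (ι v)) → t * ε * t = ε⁻¹ → ∃ v ∈ D.V, ε = ι v := by
  induction k with
  | zero => exact fun ε h _ _ _ => ⟨1, one_mem _, by simpa using h⟩
  | succ k ih =>
    intro ε h h1 h2 h3
    obtain ⟨v, hv, e⟩ := ih (ε * ε) (by rw [← pow_two, ← pow_mul, ← pow_succ', h])
      (fun v hv => (h1 v hv).mul_left (h1 v hv)) (fun v hv => (h2 v hv).mul_left (h2 v hv))
      (by rw [mul_inv_rev, ← h3]; simp only [mul_assoc, w.tt])
    have h4 : t * (ε * θ v) * t = ε * θ v := by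
      calc _ = t * ε * t * (t * θ v * t) := by simp only [mul_assoc, w.tt]
        _ = _ := by rw [h3, w.tθ v hv, ← (w.cιθ F hv hv).eq, ← e]; group
    have h5 := w.ct h4
    have h6 : ∀ u ∈ D.V, ι u * (ε * θ v) = ε * θ v * ι u := fun u hu =>
      ((h2 u hu).symm.mul_right (w.cιθ F hu hv)).eq
    obtain ⟨x, -, e' | e'⟩ := w.cen2 F h5 (P2.mul ⟨_, h⟩ (P2.of_sq (w.sq F hv)) (h1 v hv))
    · have hx : x ∈ D.V := F.ceV x fun u hu => (w.inj (by rw [map_mul, map_mul, ← e', h6 u hu])).symm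
      have e1 : ε = ι x * θ v := by rw [← e', mul_assoc, w.sq F hv, mul_one]
      have e2 : v = 1 := w.inj (by
        rw [← e, e1, (w.cιθ F hx hv).symm.mul_mul_mul_comm, w.sq F hv, w.ι2 F hx, one_mul, map_one])
      exact ⟨x, hx, by rw [e1, e2, w.one, mul_one]⟩
    · have hx : x ∈ D.V := F.ceV x fun u hu => (w.comm_of w.tL (e' ▸ h6 u hu)).symm
      have e1 : Commute (t * ι x) (θ D.z) := e' ▸ (h1 _ F.zV).mul_left (w.cθθ F hv F.zV)
      have e2 : Commute t (θ D.z) := by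
        have := e1.mul_left (w.cιθ F hx F.zV).inv_left
        rwa [mul_inv_cancel_right] at this
      have e3 := w.tθ _ F.zV
      rw [e2.eq, w.tt', left_eq_mul, ← map_one ι] at e3
      exact absurd (w.inj e3) F.z1

/-- no element normalising the frame compatibly with `t` fuses `B` to `A` -/
theorem fin {ω : G} (h : ∀ v ∈ D.V, ω * (t * θ v * t) * ω⁻¹ = t * (ω * θ v * ω⁻¹) * t) {α β : X}
    (hβ : β ∈ D.V) (hA : D.A α) (hB : D.B β) (e : ω * ι β * ω⁻¹ = ι α) : False := by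
  set δ := t * ω⁻¹ * t * ω with hδ
  have h1 : ∀ v ∈ D.V, Commute δ (θ v) := fun v hv => by
    change _ = _
    calc _ = t * ω⁻¹ * (t * (ω * θ v * ω⁻¹) * t) * (t * ω) := by
          simp only [hδ, mul_assoc, w.tt, inv_mul_cancel, mul_one]
      _ = _ := by rw [← h v hv]; simp only [hδ, mul_assoc, w.tt, inv_mul_cancel_left]
  have h2 : t * δ * t = δ⁻¹ := by simp only [hδ, mul_assoc, w.tt, mul_inv_rev, w.ti, inv_inv]
  have h3 : ∀ v ∈ D.V, Commute δ (ι v) := fun v hv => by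
    have := (h1 v hv).inv_left.conj t
    rw [← h2, w.ti, ← mul_assoc, ← mul_assoc, w.t2, one_mul, w.tt'] at this
    exact w.θτ F hv ▸ (h1 v hv).mul_right this
  obtain ⟨m, ⟨j, rfl⟩, k, hk⟩ := exists_odd_P2 δ
  have hp : ∀ x : G, t * x * t = x⁻¹ → ∀ n : ℕ, t * x ^ n * t = (x ^ n)⁻¹ := fun x hx n => by
    rw [← inv_pow, ← hx]
    nth_rw 2 [← w.ti]
    nth_rw 4 [← w.ti]
    rw [conj_pow]
  obtain ⟨v, hv, ev⟩ := w.inv_mem F k _ hk (fun v hv => (h1 v hv).pow_left _)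
    (fun v hv => (h3 v hv).pow_left _) (hp δ h2 _)
  set δ' := δ * ι v with hδ'
  have h4 : δ' ^ (2 * j + 1) = 1 := by
    rw [(h3 v hv).mul_pow, ev, pow_odd_of_sq (w.ι2 F hv) ⟨j, rfl⟩, w.ι2 F hv]
  have h5 : t * δ' * t = δ'⁻¹ := by
    rw [mul_inv_rev, isv (w.ι2 F hv), ← (h3 v hv).inv_left.eq, ← h2]
    simp only [hδ', mul_assoc, w.tL]
  have c1 : ∀ u ∈ D.V, Commute (δ' ^ (j + 1)) (ι u) := fun u hu =>
    ((h3 u hu).mul_left (w.cιι F hv hu)).pow_left _
  set u := θ v * δ' ^ (j + 1) with hu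
  have h6 : u⁻¹ * t * u = ω⁻¹ * t * ω := by
    have a1 : θ v * t * θ v = t * ι v := by
      rw [← w.θτ F hv, (w.cθτ F hv hv).eq]; simp only [mul_assoc, w.tt]
    have a2 : δ' ^ (j + 1) * δ' ^ (j + 1) = δ' := by
      rw [← pow_add, show j + 1 + (j + 1) = 2 * j + 1 + 1 by ring, pow_succ, h4, one_mul]
    calc _ = (δ' ^ (j + 1))⁻¹ * (θ v * t * θ v) * δ' ^ (j + 1) := by
          rw [hu, mul_inv_rev, isv (w.sq F hv)]; simp only [mul_assoc]
      _ = t * (δ' ^ (j + 1) * δ' ^ (j + 1) * ι v) := by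
          rw [a1, ← hp δ' h5, mul_assoc (δ' ^ (j + 1)), (c1 v hv).eq]; simp only [mul_assoc, w.tt]
      _ = _ := by rw [a2, hδ', mul_assoc δ, w.ι2 F hv, mul_one, hδ]; simp only [mul_assoc, w.tt]
  obtain ⟨k', l, e1, e2, -⟩ := w.cen' (g := ω * u⁻¹) (by
    calc _ = ω * (u⁻¹ * t * u) * u⁻¹ := by group
      _ = _ := by rw [h6]; group)
  have c2 : Commute u (ι β) := (w.cιθ F hβ hv).symm.mul_left (c1 β hβ)
  have h7 : ι (l * β * l⁻¹) = ι α := by
    calc _ = k' * ι (l * β * l⁻¹) * k'⁻¹ := by rw [← e2, mul_inv_cancel_right]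
      _ = k' * ι l * ι β * (k' * ι l)⁻¹ := by simp only [map_mul, map_inv]; group
      _ = ω * (u⁻¹ * ι β * u) * ω⁻¹ := by rw [← e1]; group
      _ = _ := by rw [c2.inv_left.eq, inv_mul_cancel_right, e]
  exact F.nAB α hA (w.inj h7 ▸ hB.cj l)

/-- the coordinates are unique -/
theorem φ_inj {a c a' c' : X} (ha : a ∈ D.V) (hc : c ∈ D.V) (ha' : a' ∈ D.V) (hc' : c' ∈ D.V)
    (h : θ a * (t * θ c * t) = θ a' * (t * θ c' * t)) : a = a' ∧ c = c' := by
  have k : ∀ {a c : X}, a ∈ D.V → c ∈ D.V → θ a * (t * θ c * t) = θ (a * c) * ι c := fun ha hc => by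
    rw [w.tθ _ hc, w.mul _ ha _ hc, mul_assoc]
  rw [k ha hc, k ha' hc'] at h
  have m := mul_mem ha hc
  have m' := mul_mem ha' hc'
  have e1 : θ (a' * c' * (a * c)) = ι (c' * c) := by
    rw [w.mul _ m' _ m, map_mul, eq_mul_inv_of_mul_eq h, isv (w.ι2 F hc), ← mul_assoc, ← mul_assoc, w.sq F m', one_mul]
  have e2 := w.tθ _ (mul_mem m' m)
  rw [e1, w.tit, left_eq_mul, ← map_one ι] at e2
  have e3 := w.inj e2
  rw [e3, w.one, ← map_one ι] at e1
  have e4 : c = c' := by rw [← isv (F.sqV c hc), ← eq_inv_of_mul_eq_one_left (w.inj e1).symm]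
  subst e4
  exact ⟨mul_right_cancel (b := c) (by rw [← isv (F.sqV _ m), ← eq_inv_of_mul_eq_one_left e3]), rfl⟩

theorem θt {v : X} (hv : v ∈ D.V) : θ v * t * θ v = t * ι v := by
  rw [← w.θτ F hv, (w.cθτ F hv hv).eq]; simp only [mul_assoc, w.tt]

end Th

theorem Cj.comp {g g' : G} {f f' : X × X → X × X} (h : Cj D t θ g f) (h' : Cj D t θ g' f') :
    Cj D t θ (g * g') fun p => f (f' p) := fun p h1 h2 => by
  obtain ⟨a, b, c⟩ := h' p h1 h2
  obtain ⟨a', b', c'⟩ := h _ a b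
  exact ⟨a', b', by rw [← c', ← c]; group⟩

namespace Th
variable (w : Th D t O ι e θ) (F : Fa D)
include w F

theorem cj_t : Cj D t θ t Prod.swap := fun p h1 h2 => ⟨h2, h1, by
  rw [Prod.fst_swap, Prod.snd_swap, (w.cθτ F h2 h1).eq, w.ti]
  simp only [mul_assoc, w.t2, mul_one]⟩

theorem cj_B (F' : Fv D) : Cj D t θ (ι D.d') D.Bf := fun p h1 h2 =>
  ⟨conj_mem_of_mem_normalizer F'.dN' h1, conj_mem_of_mem_normalizer F'.dN' h2, by
    rw [Dt.Bf, w.cjθ _ F'.dN' _ h1, w.cjθ _ F'.dN' _ h2]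
    have c : ι D.d' * t * (ι D.d')⁻¹ = t := by rw [w.tL, mul_inv_cancel_right]
    rw [← conj_mul, ← conj_mul, ← conj_mul, c]⟩

end Th

theorem Th.not_Y (F : Fa D) (F' : Fv D) {e θ : X → G} (w : Th D t O ι e θ) {y : G} (hY : Cj D t θ y D.Yf) :
    False := by
  have h1 : Cj D t θ _ D.Y1 := hY.comp (w.cj_B F F')
  have h2 : Cj D t θ _ D.Y2 := (w.cj_t F).comp (hY.comp ((w.cj_t F).comp (w.cj_B F F')))
  have h3 : Cj D t θ _ D.wf := h1.comp (h1.comp (h1.comp (h2.comp (h2.comp h2))))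
  generalize y * ι D.d' * _ = ω at h3
  obtain ⟨α, β, hβ, hA, hB, e1⟩ := F'.wb
  obtain ⟨hα, -, e2⟩ := h3 (β, β) hβ hβ
  rw [e1] at hα e2
  rw [w.θτ F hβ, w.θτ F hα] at e2
  refine w.fin F (fun v hv => ?_) hβ hA hB e2
  suffices v ∈ D.V ∧ ω * (t * θ v * t) * ω⁻¹ = t * (ω * θ v * ω⁻¹) * t from this.2
  have hv' := F.vsG hv
  clear hv
  induction hv' using closure_induction with
  | mem x hx =>
    have hx' := (F.vsV x hx).1
    obtain ⟨-, -, a1⟩ := h3 (1, x) (one_mem _) hx'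
    obtain ⟨b1, b2, a2⟩ := h3 (x, 1) hx' (one_mem _)
    obtain ⟨-, -, a3⟩ := w.cj_t F _ b1 b2
    rw [F'.wd x hx, ← a3, ← a2, w.ti] at a1
    simp only [w.one, one_mul, mul_one, w.t2] at a1
    exact ⟨hx', a1⟩
  | one => exact ⟨one_mem _, by simp [w.one, w.t2]⟩
  | mul x y _ _ hx hy =>
    refine ⟨mul_mem hx.1 hy.1, ?_⟩
    rw [w.mul _ hx.1 _ hy.1]
    calc _ = ω * (t * θ x * t) * ω⁻¹ * (ω * (t * θ y * t) * ω⁻¹) := by
          simp only [mul_assoc, w.tt, inv_mul_cancel_left]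
      _ = _ := by rw [hx.2, hy.2]; simp only [mul_assoc, w.tt, inv_mul_cancel_left]
  | inv x _ hx => rwa [isv (F.sqV x hx.1)]

end H59.SJ
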