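import Mathlib
import Cfsg.Agent.Base
import Cfsg.Agent.Lib.StdJ.Th

/-! The half of `d` normalises `θ V × t (θ V) t`. -/

set_option autoImplicit false

namespace H59.SJ

open Subgroup H69 H36.SW

variable {X : Type} [Group X] [Finite X] {G : Type*} [Group G] [Finite G] {D : Dt X}

variable {t : G} {O : Subgroup G} {ι : X →* G}

theorem Th.norm (F : Fa D) (F' : Fv D) (hd : D.A D.d) {e θ : X → G} (w : Th D t O ι e θ) :
    ∀ v ∈ D.V, ∃ α ∈ D.V, ∃ γ ∈ D.V, e D.d * θ v * e D.d = θ α * (t * θ γ * t) := by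
  have w0 := w.toWa.toW0
  have u2 := w.e2 _ hd
  have ut := w.et _ hd
  have uO := w.eO _ hd
  have uι : ∀ l, l * D.d = D.d * l → ι l * e D.d = e D.d * ι l := fun l => w.toWa.ιe hd
  generalize e D.d = u at u2 ut uO uι ⊢
  have uu : ∀ x, u * (u * x) = x := fun x => by rw [← mul_assoc, u2, one_mul]
  have d2 : ι D.d * ι D.d = 1 := by rw [← map_mul, F.A2 hd, map_one]
  have dV : ∀ {v}, v ∈ D.V → D.d * v * D.d⁻¹ ∈ D.V := fun hv => Fa.cjV F'.dN hv
  obtain ⟨ε, hε⟩ : ∃ ε : X → G, ∀ v, ε v = θ v * (t * θ (D.d * v * D.d⁻¹) * t) := ⟨_, fun _ => rfl⟩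
  have εq : ∀ v ∈ D.V, ε v = θ v * (u * t * u) * (θ v * (u * t * u)) := fun v hv => by
    rw [hε, ut, w.cjθ _ F'.dN v hv, isv d2]
    simp only [mul_assoc, w.tL]
  have εm : ∀ a ∈ D.V, ∀ b ∈ D.V, ε (a * b) = ε a * ε b := fun a ha b hb => by
    rw [hε, hε, hε, ← conj_mul, w.mul a ha b hb, w.mul _ (dV ha) _ (dV hb), mul_assoc (θ a),
      mul_assoc (θ a), ← mul_assoc (t * _ * t) (θ b), ← (w.cθτ F hb (dV ha)).eq]
    simp only [mul_assoc, w0.tt]
  have ε1 : ε 1 = 1 := by simp only [hε, mul_one, mul_inv_cancel, w.one, w.t2]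
  have ε2 : ∀ a ∈ D.V, ε a * ε a = 1 := fun a ha => by rw [← εm a ha a ha, F.sqV a ha, ε1]
  have εi : ∀ a ∈ D.V, ε a = 1 → a = 1 := fun a ha h =>
    (w.φ_inj F ha (dV ha) (one_mem _) (one_mem _) (by
      rw [← hε, h, w.one, mul_one, w.t2, mul_one])).1
  have εθ : ∀ a ∈ D.V, ∀ b ∈ D.V, Commute (θ a) (ε b) := fun a ha b hb =>
    hε b ▸ (w.cθθ F ha hb).mul_right (w.cθτ F ha (dV hb))
  have key : ∀ a ∈ D.V, u * θ a * u * t * (u * θ a * u) = u * ε a * u * t := fun a ha => by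
    rw [εq a ha]
    simp only [mul_assoc, u2, w.t2, mul_one]
  have st : ∀ a ∈ D.V, u * ε a * u * t = t * (u * ε a * u) := fun a ha => by
    have h1 : (u * ε a * u * t)⁻¹ = u * ε a * u * t := by
      refine isv ?_
      rw [← key a ha]
      simp only [mul_assoc, uu, ← mul_assoc (θ a) (θ a), w.sq F ha, one_mul, w0.tt, u2]
    rw [← h1, mul_inv_rev, w0.ti, isv]
    simp only [mul_assoc, uu, ← mul_assoc (ε a) (ε a), ε2 a ha, one_mul, u2]
  have sm : ∀ a ∈ D.V, ∀ b ∈ D.V, u * ε a * u * (u * ε b * u) = u * ε (a * b) * u :=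
    fun a ha b hb => by rw [εm a ha b hb]; simp only [mul_assoc, uu]
  have s2 : ∀ a ∈ D.V, u * ε a * u * (u * ε a * u) = 1 := fun a ha => by
    rw [sm a ha a ha, F.sqV a ha, ε1, mul_one, u2]
  have nq : ∀ a ∈ D.V, ∀ g : G, u * ε a * u ≠ g * t * g⁻¹ := fun a ha g h =>
    w0.nsq' F g (u * (θ a * (u * t * u)) * u) (by
      rw [← h, εq a ha]; simp only [mul_assoc, uu])
  have tsq : ∀ a b, t * ι a * (t * ι b) = ι (a * b) := fun a b => by
    rw [mul_assoc, ← mul_assoc (ι a), w.tL, mul_assoc, w0.tt, map_mul]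
  let E : Subgroup X :=
    { carrier := {x | ∃ a ∈ D.V, u * ε a * u = ι x ∨ u * ε a * u = t * ι x}
      one_mem' := ⟨1, one_mem _, .inl (by rw [ε1, mul_one, u2, map_one])⟩
      mul_mem' := by
        rintro x y ⟨a, ha, h⟩ ⟨b, hb, h'⟩
        refine ⟨a * b, mul_mem ha hb, ?_⟩
        rw [← sm a ha b hb]
        rcases h with h | h <;> rcases h' with h' | h' <;> rw [h, h']
        · exact .inl (map_mul ..).symm
        · exact .inr (by rw [← mul_assoc, w.tL, mul_assoc, map_mul])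
        · exact .inr (by rw [mul_assoc, map_mul])
        · exact .inl (tsq _ _)
      inv_mem' := by
        rintro x ⟨a, ha, h⟩
        refine ⟨a, ha, ?_⟩
        rw [← isv (s2 a ha)]
        rcases h with h | h <;> rw [h]
        · exact .inl (map_inv ..).symm
        · exact .inr (by rw [mul_inv_rev, w0.ti, ← map_inv, w.tL]) }
  have E2 : ∀ x ∈ E, x * x = 1 := by
    rintro x ⟨a, ha, h⟩
    have := s2 a ha
    rcases h with h | h <;> rw [h] at this
    · exact w.inj (by rw [map_mul, this, map_one])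
    · exact w.inj (by rw [← tsq, this, map_one])
  have ex : ∀ a : D.V, ∃ x, u * ε a * u = ι x ∨ u * ε a * u = t * ι x := fun a =>
    (w0.cen2 F (st a a.2) (P2.of_sq (s2 a a.2))).imp fun _ h => h.2
  choose f hf using ex
  have fE : ∀ a, f a ∈ E := fun a => ⟨a, a.2, hf a⟩
  have si : ∀ a ∈ D.V, ∀ b ∈ D.V, u * ε a * u = u * ε b * u → a = b := fun a ha b hb h => by
    have := εi _ (mul_mem ha hb) (by
      rw [εm a ha b hb, mul_left_cancel (mul_right_cancel h), ε2 b hb])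
    rw [eq_inv_of_mul_eq_one_left this, isv (F.sqV b hb)]
  have fi : Function.Injective f := fun a b h => by
    have k : ∀ {a b : D.V}, f a = f b → u * ε a * u = ι (f a) → u * ε b * u = t * ι (f b) →
        False := fun {a b} h h1 h2 => nq _ (mul_mem b.2 a.2) 1 (by
      rw [← sm _ b.2 _ a.2, h1, h2, h, mul_assoc, ← map_mul, E2 _ (fE b), map_one]; group)
    rcases hf a with h1 | h1 <;> rcases hf b with h2 | h2
    · exact Subtype.ext (si _ a.2 _ b.2 (by rw [h1, h2, h]))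
    · exact (k h h1 h2).elim
    · exact (k h.symm h2 h1).elim
    · exact Subtype.ext (si _ a.2 _ b.2 (by rw [h1, h2, h]))
  have cE : 2048 ≤ Nat.card E := F.cV ▸ Nat.card_le_card_of_injective
    (fun v : D.V => (⟨f v, fE v⟩ : E)) fun u v h => fi (congrArg Subtype.val h)
  obtain ⟨β, βV, βB, βd⟩ := F'.bd
  have βE : β ∈ E := ⟨β, βV, .inl (by
    rw [hε, βd, mul_inv_cancel_right, w.θτ F βV, ← uι β βd.symm, mul_assoc, u2, mul_one])⟩
  have EV : E = D.V := F.eaN' (fun x hx => F.cb' βV βB (comm_of_sq E2 hx βE)) E2 cE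
  have nt : ∀ a ∈ D.V, ∀ x ∈ D.V, u * ε a * u ≠ t * ι x := fun a ha x hx h =>
    nq a ha (θ x) (by rw [h, isv (w.sq F hx), w.θt F hx])
  intro v hv
  by_cases v1 : v = 1
  · exact ⟨1, one_mem _, 1, one_mem _, by simp only [v1, w.one, mul_one, u2, w.t2]⟩
  have xV : f ⟨v, hv⟩ ∈ D.V := EV.le (fE _)
  have hx : u * ε v * u = ι (f ⟨v, hv⟩) := (hf ⟨v, hv⟩).resolve_right (nt v hv _ xV)
  generalize f ⟨v, hv⟩ = x at xV hx
  have pt := key v hv
  rw [hx] at pt
  have p2 : u * θ v * u * (u * θ v * u) = 1 := by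
    simp only [mul_assoc, uu, ← mul_assoc (θ v) (θ v), w.sq F hv, one_mul, u2]
  have pV : ∀ a ∈ D.V, Commute (ι a) (u * θ v * u) := fun a ha => by
    obtain ⟨b, hb, h⟩ : a ∈ E := EV.ge ha
    rw [← h.resolve_right (nt b hb a ha), Commute, SemiconjBy]
    simp only [mul_assoc, uu, ← mul_assoc (ε b), ← (εθ v hv b hb).eq]
  have pO : ∀ o ∈ O, Commute o (u * θ v * u) := fun o ho =>
    (Commute.mul_right (uO o ho) (w.θO v hv o ho)).mul_right (uO o ho)
  have x1 : ι x ≠ 1 := fun h => v1 (si v hv 1 (one_mem _) (by rw [hx, h, ε1, mul_one, u2]))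
  generalize u * θ v * u = p at pt p2 pV pO ⊢
  have pp : ∀ y, p * (p * y) = y := fun y => by rw [← mul_assoc, p2, one_mul]
  have ct : p * θ x * t = t * (p * θ x) := by
    have h1 : θ x * t = t * ι x * θ x := by
      rw [← w.θt F xV, mul_assoc, w.sq F xV, mul_one]
    have h2 : p * t = ι x * t * p := by rw [← pt, mul_assoc, p2, mul_one]
    rw [mul_assoc, h1, ← mul_assoc, ← mul_assoc, h2, mul_assoc _ p, ← (pV x xV).eq, w.tL]
    simp only [mul_assoc, ← mul_assoc (ι x) (ι x), w.ι2 F xV, one_mul]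
  obtain ⟨k, y, hc, kι, hk⟩ := w0.cen' ct
  have yV : y ∈ D.V := F.ceV y fun a ha => (w0.comm_of kι
    (hc ▸ ((pV a ha).mul_right (w.cιθ F ha xV)).eq)).symm
  have iv : p * (k * ι y) * p * (k * ι y) = 1 := by
    rw [← hc]
    simp only [mul_assoc, pp, w.sq F xV]
  have kk : p * k * p * k = 1 := by
    rw [← iv, mul_assoc p (k * ι y), mul_assoc k, (pV y yV).eq]
    simp only [mul_assoc]
    rw [← mul_assoc (ι y), kι, mul_assoc, w.ι2 F yV, mul_one]
  have k1 : k = 1 := by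
    rcases hk with hk | ⟨o, ho, rfl⟩
    · rw [← (pO k hk).eq, mul_assoc k, p2, mul_one] at kk
      exact (P2.of_sq kk).eq_one (w.oddO k hk)
    · exfalso
      have h1 : o * o * ι x = 1 := by
        rw [← kk, ← mul_assoc p, ← (pO o ho).eq, mul_assoc o p, mul_assoc o (p * t), pt]
        simp only [mul_assoc]
        rw [← mul_assoc t, ← w.Ot o ho, mul_assoc, w.t2, mul_one, w.OL o ho]
      exact x1 (odd_mul_eq_one (w.oddO _ (mul_mem ho ho)) (P2.of_sq (w.ι2 F xV)) h1).2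
  rw [k1, one_mul] at hc
  refine ⟨_, mul_mem yV xV, y, yV, ?_⟩
  rw [eq_mul_inv_of_mul_eq hc, isv (w.sq F xV), ← w.θτ F yV, w.mul y yV x xV, mul_assoc,
    ← (w.cθτ F xV yV).eq, ← mul_assoc]

end H59.SJ
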