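import Mathlib
import Cfsg.Agent.Base
import Cfsg.Agent.Lib.StdJ.Th

/-! The two possible actions of the half of `d`. -/

set_option autoImplicit false

namespace H59.SJ

open Subgroup H69 H36.SW

variable {X : Type} [Group X] [Finite X] {G : Type*} [Group G] [Finite G] {D : Dt X}

variable {t : G} {O : Subgroup G} {ι : X →* G}

namespace Act2

/-- multiplicative and equivariant maps on `V` -/
structure Eqv (D : Dt X) (φ : X → X) : Prop where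
  mul : ∀ a ∈ D.V, ∀ b ∈ D.V, φ (a * b) = φ a * φ b
  cj : ∀ g ∈ 𝐍(D.V), g * D.d = D.d * g → ∀ a ∈ D.V, φ (g * a * g⁻¹) = g * φ a * g⁻¹

omit [Finite X] in
theorem Eqv.ext (F : Fa D) (F' : Fv D) {φ ψ : X → X} (h : Eqv D φ) (h' : Eqv D ψ)
    (e : φ D.v0 = ψ D.v0) : ∀ v ∈ D.V, φ v = ψ v := by
  let P : Subgroup X :=
    { carrier := {v | v ∈ D.V ∧ φ v = ψ v}
      one_mem' := ⟨one_mem _, by
        have h1 := h.mul 1 (one_mem _) 1 (one_mem _)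
        have h2 := h'.mul 1 (one_mem _) 1 (one_mem _)
        rw [mul_one, left_eq_mul] at h1 h2
        rw [h1, h2]⟩
      mul_mem' := fun ha hb => ⟨mul_mem ha.1 hb.1, by
        rw [h.mul _ ha.1 _ hb.1, h'.mul _ ha.1 _ hb.1, ha.2, hb.2]⟩
      inv_mem' := fun ha => by rwa [isv (F.sqV _ ha.1)] }
  have : D.V ≤ P := F'.gd.trans ((closure_le _).2 (by
    rintro _ ⟨g, hg, c, rfl⟩
    exact ⟨Fa.cjV hg F'.v0V, by rw [h.cj g hg c _ F'.v0V, h'.cj g hg c _ F'.v0V, e]⟩))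
  exact fun v hv => (this hv).2

theorem four (F : Fa D) (F' : Fv D) (hd : D.A D.d) {φ : X → X} (h : Eqv D φ) (hV : φ D.v0 ∈ D.V) :
    (∀ v ∈ D.V, φ v = 1) ∨ (∀ v ∈ D.V, φ v = v) ∨ (∀ v ∈ D.V, φ v = D.cc v) ∨
      ∀ v ∈ D.V, φ v = v * D.cc v := by
  have cj : ∀ g, g * D.d = D.d * g → ∀ a, D.cc (g * a * g⁻¹) = g * D.cc a * g⁻¹ := fun g c a => by
    rw [Dt.cc, Dt.cc, ← conj_mul, ← conj_mul, ← conj_mul, c, mul_inv_cancel_right]
  refine (F'.kd _ hV fun g hg c c' => ?_).imp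
    (h.ext F F' (ψ := fun _ => 1) ⟨fun _ _ _ _ => (mul_one _).symm, fun _ _ _ _ _ => by group⟩)
    (Or.imp (h.ext F F' (ψ := fun v => v) ⟨fun _ _ _ _ => rfl, fun _ _ _ _ _ => rfl⟩)
    (Or.imp (h.ext F F' ⟨fun _ ha _ hb => cc_mul F F' hd ha hb, fun g _ c a _ => cj g c a⟩)
    (h.ext F F' (ψ := fun v => v * D.cc v) ⟨fun a ha b hb => ?_, fun g _ c a _ => ?_⟩)))
  · have := h.cj g hg c' _ F'.v0V
    rw [c, mul_inv_cancel_right] at this
    exact (eq_mul_inv_iff_mul_eq.1 this).symm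
  · rw [← dvd' F F' hd ha, ← dvd' F F' hd hb, ← dvd' F F' hd (mul_mem ha hb), conj_mul]
  · rw [cj g c, conj_mul]

end Act2

open Act2 in
theorem Th.cases (F : Fa D) (F' : Fv D) (J : Fj D) {e θ : X → G} (w : Th D t O ι e θ)
    (h : ∀ v ∈ D.V, ∃ α ∈ D.V, ∃ γ ∈ D.V, e D.d * θ v * e D.d = θ α * (t * θ γ * t)) :
    (∀ v ∈ D.V, θ v * (t * e D.d * t) = t * e D.d * t * θ v) ∨ Cj D t θ (e D.d) D.Yf := by
  have hd := J.dA
  have w0 := w.toWa.toW0
  choose! α αV γ γV h using h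
  have u2 := w.e2 _ hd
  have ut := w.et _ hd
  have tu := w.toWa.tet hd
  have uι : ∀ l, l * D.d = D.d * l → ι l * e D.d = e D.d * ι l := fun l => w.toWa.ιe hd
  have x2 := F.sqV _ F'.x0V
  have zV := ccV F F' hd F'.x0V
  have z1 := F.A1 F'.x0A
  have zd : D.x0 * D.d * D.x0⁻¹ = D.cc D.x0 * D.d := by rw [ccd' F F' hd, isv x2]
  obtain ⟨j, j1, j2⟩ := J.j0
  have jA := F'.x0A.cj j
  have uz : e D.d * θ (D.cc D.x0) = θ (D.cc D.x0) * e D.d := by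
    have := w.R0 _ F.zV _ j2 Dt.Az jA
    rw [← j1, w.ec _ hd, w.ec _ F'.x0A, conj_mul, conj_mul] at this
    rw [w.eq _ zV F'.x0A, mul_left_cancel (mul_right_cancel this)]
  have ux : ι D.x0 * e D.d * (ι D.x0)⁻¹ = θ (D.cc D.x0) * e D.d := by
    have hA : D.A (D.cc D.x0 * D.d) := zd ▸ hd.cj _
    have := w.add _ j2 _ F.zV jA Dt.Az (by rw [← j1, conj_mul]; exact hA.cj j)
    rw [← j1, conj_mul, w.ec _ hA, w.ec _ hd, w.ec _ F'.x0A, conj_mul] at this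
    rw [← w.ec _ hd, zd, mul_left_cancel (mul_right_cancel this), w.eq _ zV F'.x0A]
  generalize e D.d = u at u2 ut tu uι h uz ux ⊢
  have uu : ∀ x, u * (u * x) = x := fun x => by rw [← mul_assoc, u2, one_mul]
  have um : ∀ x y, u * (x * y) * u = u * x * u * (u * y * u) := fun x y => by
    simp only [mul_assoc, uu]
  have pm : ∀ {a c a' c'}, a ∈ D.V → c ∈ D.V → a' ∈ D.V → c' ∈ D.V →
      θ a * (t * θ c * t) * (θ a' * (t * θ c' * t)) = θ (a * a') * (t * θ (c * c') * t) :=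
    fun {a c a' c'} ha hc ha' hc' => by
      rw [w.mul a ha a' ha', w.mul c hc c' hc', mul_assoc (θ a), mul_assoc (θ a),
        ← mul_assoc (t * _ * t) (θ a'), ← (w.cθτ F ha' hc).eq]
      simp only [mul_assoc, w0.tt]
  have pc : ∀ g ∈ 𝐍(D.V), ∀ c ∈ D.V, ι g * (t * θ c * t) * (ι g)⁻¹ = t * θ (g * c * g⁻¹) * t :=
    fun g hg c hc => by
      rw [w.cjθ g hg c hc, ← conj_mul, ← conj_mul, w.tL, mul_inv_cancel_right]
  have mul : ∀ a ∈ D.V, ∀ b ∈ D.V, α (a * b) = α a * α b ∧ γ (a * b) = γ a * γ b :=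
    fun a ha b hb => w.φ_inj F (αV _ (mul_mem ha hb)) (γV _ (mul_mem ha hb))
      (mul_mem (αV a ha) (αV b hb)) (mul_mem (γV a ha) (γV b hb)) (by
        rw [← h _ (mul_mem ha hb), w.mul a ha b hb, um, h a ha, h b hb,
          pm (αV a ha) (γV a ha) (αV b hb) (γV b hb)])
  have cj : ∀ g ∈ 𝐍(D.V), g * D.d = D.d * g → ∀ a ∈ D.V,
      α (g * a * g⁻¹) = g * α a * g⁻¹ ∧ γ (g * a * g⁻¹) = g * γ a * g⁻¹ := fun g hg c a ha =>
    w.φ_inj F (αV _ (Fa.cjV hg ha)) (γV _ (Fa.cjV hg ha)) (Fa.cjV hg (αV a ha))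
      (Fa.cjV hg (γV a ha)) (by
        rw [← h _ (Fa.cjV hg ha), w.cjθ g hg a ha, w.cjθ g hg _ (αV a ha), ← pc g hg _ (γV a ha),
          conj_mul, ← h a ha, ← conj_mul, ← conj_mul, uι g c, mul_inv_cancel_right])
  have dV : ∀ {v}, v ∈ D.V → D.d * v * D.d⁻¹ ∈ D.V := fun hv => Fa.cjV F'.dN hv
  have d2 : ι D.d * ι D.d = 1 := by rw [← map_mul, F.A2 hd, map_one]
  have hτ : ∀ v ∈ D.V, u * (t * θ v * t) * u =
      θ (D.d * γ v * D.d⁻¹) * (t * θ (D.d * α v * D.d⁻¹) * t) := fun v hv => by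
    have k : u * (t * θ v * t) * u = t * (ι D.d * (θ (α v) * (t * θ (γ v) * t)) * (ι D.d)⁻¹) * t := by
      rw [um, um, ut, h v hv, isv d2, ← w.tL]
      simp only [mul_assoc, w.tL]
    rw [k, ← conj_mul, pc _ F'.dN _ (γV v hv), ← w.cjθ _ F'.dN _ (αV v hv),
      (w.cθτ F (dV (γV v hv)) (dV (αV v hv))).eq]
    simp only [mul_assoc, w.t2, mul_one]
  have p1 : ∀ a, θ a * (t * θ 1 * t) = θ a := fun a => by rw [w.one, mul_one, w.t2, mul_one]
  have zz := w.φ_inj F (αV _ zV) (γV _ zV) zV (one_mem _) (by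
    rw [← h _ zV, p1, uz, mul_assoc, u2, mul_one])
  have cz : ∀ v ∈ D.V, D.d * D.cc v * D.d⁻¹ = D.cc v := fun v hv => by
    rw [← ccd F F' hd hv, mul_inv_cancel_right]
  have c1 : D.cc (D.cc D.x0) = 1 := by
    have := dvd' F F' hd zV
    rwa [cz _ F'.x0V, left_eq_mul] at this
  have hx := (w.φ_inj F (mul_mem (mul_mem (αV _ F'.x0V) (dV (γV _ F'.x0V))) F'.x0V)
    (mul_mem (mul_mem (γV _ F'.x0V) (dV (αV _ F'.x0V))) F'.x0V) zV (one_mem _) (by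
      rw [← pm (mul_mem (αV _ F'.x0V) (dV (γV _ F'.x0V))) (mul_mem (γV _ F'.x0V) (dV (αV _ F'.x0V)))
        F'.x0V F'.x0V, ← pm (αV _ F'.x0V) (γV _ F'.x0V) (dV (γV _ F'.x0V)) (dV (αV _ F'.x0V)),
        ← h _ F'.x0V, ← hτ _ F'.x0V, ← um, w.θτ F F'.x0V, p1]
      rw [isv (w.ι2 F F'.x0V), ← uz] at ux
      rw [mul_assoc, mul_assoc, ← mul_assoc (ι _), ux, uu])).1
  have hα : (∀ v ∈ D.V, α v = v) ∨ ∀ v ∈ D.V, α v = v * D.cc v := by
    rcases four F F' hd ⟨fun a ha b hb => (mul a ha b hb).1, fun g hg c a ha => (cj g hg c a ha).1⟩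
      (αV _ F'.v0V) with k | k | k | k
    · exact absurd (zz.1.symm.trans (k _ zV)) z1
    · exact .inl k
    · exact absurd (zz.1.symm.trans ((k _ zV).trans c1)) z1
    · exact .inr k
  have hγ : (∀ v ∈ D.V, γ v = 1) ∨ ∀ v ∈ D.V, γ v = D.cc v := by
    rcases four F F' hd ⟨fun a ha b hb => (mul a ha b hb).2, fun g hg c a ha => (cj g hg c a ha).2⟩
      (γV _ F'.v0V) with k | k | k | k
    · exact .inl k
    · exact absurd ((k _ zV).symm.trans zz.2) z1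
    · exact .inr k
    · exact absurd ((by rw [k _ zV, c1, mul_one] : _ = γ _).trans zz.2) z1
  rcases hα with hα | hα <;> rcases hγ with hγ | hγ <;> rw [hα _ F'.x0V, hγ _ F'.x0V] at hx
  · exact absurd (by rw [← hx, mul_one, mul_inv_cancel, mul_one, x2]) z1
  · refine .inr fun p ha hc => ?_
    have ca := ccV F F' hd ha
    have cc := ccV F F' hd hc
    refine ⟨mul_mem ha cc, mul_mem (mul_mem hc ca) cc, ?_⟩
    rw [isv u2, um, h _ ha, hτ _ hc, hα _ ha, hα _ hc, hγ _ ha, hγ _ hc, cz _ hc, dvd' F F' hd hc,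
      pm ha ca cc (mul_mem hc cc), ← mul_assoc (D.cc p.1), F.cm ca hc]
    rfl
  · refine .inl fun v hv => ?_
    have k := h v hv
    rw [hα v hv, hγ v hv, p1, ← dvd' F F' hd hv, w.cjθ _ F'.dN v hv] at k
    rw [tu, mul_assoc u, eq_mul_inv_iff_mul_eq.1 k.symm.symm |>.symm]
    simp only [mul_assoc, uu]
  · exact absurd (by
      rw [← hx, cz _ F'.x0V, mul_assoc D.x0, F.sqV _ zV, mul_one, x2]) z1

end H59.SJ
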