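import Mathlib
import Cfsg.Agent.Base
import Cfsg.Agent.Lib.StdJ.Basic
import Cfsg.Agent.Lib.J4L.Code
import Cfsg.Agent.Lib.J4L.EA

/-! Coordinates for `2^11 : M24`, words in the generators of the complement. -/

set_option autoImplicit false
set_option maxRecDepth 100000

namespace H59.SJ

open Subgroup H69 H36.SW
open H54 (force force_eq band bor bimp allLt allL anyL tb sel nth cntLt band_eq_true bor_eq_true bimp_eq_true
  allLt_iff allL_iff anyL_iff cntLt_eq sel_eq)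
open H75.J4 (EA mv mm mv_mm mv_xor mv_zero xor_induction)

def FX : ℕ := 0x5bc6e708f10504002a07f03105203b05d
def FY : ℕ := 0x3374e66b70420c060410e0c700f0020c3
def FI : ℕ := 0x5955bc0570c20827de67d04c009002043
def I11 : ℕ := 0x400200100080040020010008004002001
/-- the duads -/
def Dm : ℕ := 0x80080404002211110880404022000000400402020088000004402020880011110201008140014281408042000280000008040042200800001020810004104281400002000080000eb0000d000070000140000200008028400128801414020001080000402000000e070000b0d000000108000040200028402041280108410001140201288014000100804000020028400070b0000d000001008040000200000e000400020008000e000b000d00070001000400020008284082101480412000012100081010408421008440020208000048000240208000000012100801048421000000000000284e000000000000d7b1488442422288284e488442422288284e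
def isD (e : ℕ) : Bool := tb Dm e
noncomputable def isS (e : ℕ) : Bool := sel (tb Dm e) false (Nat.blt 0 e)
noncomputable def lm (l : ℕ) : ℕ := sel (Nat.beq l 0) FX (sel (Nat.beq l 1) FY FI)
/-- the matrix of a word -/
noncomputable def wM (w : List ℕ) : ℕ := List.rec (motive := fun _ => ℕ) I11 (fun l _ ih => mm (lm l) ih) w
/-- the inverse word -/
def wI : List ℕ → List ℕ
  | [] => []
  | l :: w => wI w ++ [if l = 0 then 0 else if l = 1 then 2 else 1]
def dep (T e : ℕ) : ℕ := Nat.land (Nat.shiftRight T (Nat.mul 5 e)) 31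
noncomputable def bfsC (T : ℕ) (c r : ℕ → Bool) (st : ℕ → ℕ → ℕ) (L : List ℕ) : Bool :=
  allLt (fun e => bimp (c e) (bor (r e) (anyL (fun i => force (st i e) fun e' =>
    band (Nat.blt e' 2048) (band (c e') (Nat.blt (dep T e') (dep T e)))) L))) 2048

theorem bfs {T : ℕ} {c r : ℕ → Bool} {st : ℕ → ℕ → ℕ} {L : List ℕ} (h : bfsC T c r st L = true) {P : ℕ → Prop}
    (hr : ∀ e, e < 2048 → r e = true → P e)
    (hs : ∀ i ∈ L, ∀ e, e < 2048 → c e = true → st i e < 2048 → c (st i e) = true → P (st i e) → P e) :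
    ∀ e, e < 2048 → c e = true → P e := by
  simp only [bfsC, allLt_iff, bimp_eq_true, bor_eq_true, anyL_iff, force_eq, band_eq_true, Nat.blt_eq] at h
  intro e
  induction hn : dep T e using Nat.strong_induction_on generalizing e with
  | _ n ih =>
    intro he hc
    rcases h e he hc with c1 | ⟨i, hi, c1, c2, c3⟩
    exacts [hr e he c1, hs i hi e he hc c1 c2 (ih _ (hn ▸ c3) _ rfl c1 c2)]

def wd0 : List ℕ := [0, 1, 0, 1, 0, 2, 0, 1, 0, 1, 0, 2, 0, 1, 0, 1, 0, 2, 0, 1, 0, 1, 0, 2, 0, 1, 0, 1, 0, 2, 0, 1, 0, 1, 0, 2]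
def wg0 : List ℕ := [0, 2, 0, 1, 0, 2, 0, 1, 0, 2, 0, 2, 0, 1, 0, 1, 0, 2, 0, 1, 0, 2, 0, 2, 0, 2, 0]
def vsN : List ℕ := [4, 5, 7, 9, 16, 32, 64, 129, 257, 513, 1025]
def wS0 : List (List ℕ) := [[], [0, 2, 0, 2, 0, 1, 0, 2, 0, 2, 0, 2, 0, 2, 0, 2, 0, 2, 0, 1, 0, 2, 0, 1, 0, 2, 0, 1], [0, 2, 0, 1, 0, 2, 0, 2, 0, 2, 0, 1, 0, 2, 0, 1, 0, 2, 0, 1, 0, 2, 0, 2, 0, 1], [2, 0, 1, 0, 2, 0, 1, 0, 1, 0, 2, 0, 2, 0, 1, 0, 1, 0, 1, 0, 2, 0, 2, 0, 1], [1, 0, 2, 0, 1, 0, 1, 0, 2, 0, 1, 0, 1, 0, 1, 0, 1, 0, 1, 0, 1, 0, 2, 0, 1]]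
def wS1 : List (List ℕ) := [[1], [1, 0, 1], [1, 0, 1, 0, 2, 0, 1, 0, 2, 0, 1, 0, 1]]
def T1 : ℕ := 0x9a22f745af9d20f446548cdd07b23383cd0b4ded5d1b07350a7b9f0a10f79e2a7aa9b2ac5a9ad6ed83e714be4c546763920e9b1d481e7191a377c2ae959b0bd20f6a26f7bab464df6a49f29d58fbca5370eb2a054da36943c29285696b58b5bcaadb35b17be8f9c6ab14a6e74e2a6d22b9ca6cac66c6ca83b526db3e15929afa4e8bbc4c774e71a3d74746ae5ca2c60e7565ad06b672a55b19410994d0b6dde5551f49c61533d756d68c3d2318356fa460e9cdea83655a526a84e52a3a0f8bd579244e6c24f6c6ae9a93264a0d4aa6b6aa34a4292ad209a51ad9cdcca42959297474e93852749d613a49cda5e109594e82ad21aaf3a626c9b5f0a510a6d81090ed384d5474e0f9d6497c6b16ce93a3468646ed535b1b30b374a8f82df06b9338d4ca3b66384dea83a69842d293e73996979b5f074a514b1b37c21753e139d5868bd8e8ba30bbe72b4e5454e13945925c252ab66aaaa517cded7d61184eb3a4e32b4e349b6946bdf28d553856d1bc286a42518c5e8436a888e336b62a83e71ac5f4a3e46a4e95b3e0c9d1d3b5170a4a2f9ca6a8b92e84a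88946525beb463591b41d261eec9528a9c9b05beb373a959d59462a7782d748e2736cdf5955aa6bdad74e3184a6da46ac9466d9369594e117aad46d253845d472e969b230ac697a460f9167572e5684a46a3e54946a8b1eb2a52749ce53b59926ccd28cde5a418baca347568f92a312c211a56109d5ad8c694aca277bdf581a70929518c63323ae9bccaf742aba4acb7ce7295a0f92a15ada6c3ce7273275a4c909ca347ba33942cc741cf94656ac12983d6fc41758c175851cf4ba929cab284e4d945d3b598c9ba31ac8adac932741b264a159c2ae651a93c654bb23383e0cace749be4f93eb295692a3e4db463364a749b94eb3a2c5baab9d11363a511beb54b2b58d664712748d1d314e6ba2e4e95667a46548c9e984a3573a969b1358c1ec345b5a44966c5139548d75642ad1cea39f475e0eb31958cd959d2af9d629b41869ba364d5c9adab07b993a39f6a20322c6248cd0f3a62ea458d8c613a1a2b6364b7d694aba728c2b393a934923783192c3c905622b9cded9508d7a6ce80a544a6107ca5172e2c6b111851907c6d0b5610a21147de4f64df193e4c921d15aeee9c1ef95c6d4428d8c1f68c6f03d9f35424f2c9cf651f6b51a5459abb4e919dace852956a653732074b2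35941f269d8e7b9f394a737d1af725f22d3136562c7c60b90eb6645d49cdf27b6ef8a5d19b64b93d8a84a325ca2ba25506ce328b90ca5a5343a707b191c4d4b8b90b6cdcf5b9f37ba53b42a99b6b4952908cdcaaca7394a919ca949da145d6349456f9d2537ae138c1d2aca954524d8d6cd9d24e9cd689a6ef7a6708bdd682e4e92cb49462bb35ca546669d2513c2b28b1126ca56821b3691d18c95494e758ce8c6d26e8328faba7362eb485210a1dcb71ab5545d58d12f2be35aad94a515561ab69a192899f17428f4d28e64e0a5a273726938a9b25d1538c1e99d6703464ca2cf47616785a8cb4a9295170720957ce42a5671624334d64f83990b4c6ebcd8a94ae494acc8b5b49c693a1e0e7dac57522e5bd96825f35d2afa3674935749153343270821159142eac593abd4cad21484e6bac854a4d8972e36aca0d6d6315568d3ad4ba26b24ba879212d44dc8a3e04a9ad73572d5da6d9c4eb5ae12835b3786f38c14e9ba33a456d55a4f53e2b91cf04cea66a2318942f635f4952d44ce47aa9d174156ad4ee4c1ee8c194b28517c9c65618b7c2368b5915a22f3325004e40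

/-- coordinates -/
structure Cx (X : Type) [Group X] where
  el : ℕ → X
  gx : X
  gy : X
  ea : EA 11 el
  ax : ∀ e, e < 2048 → gx * el e * gx⁻¹ = el (mv FX e)
  ay : ∀ e, e < 2048 → gy * el e * gy⁻¹ = el (mv FY e)
  cV : ∀ g, (∀ v ∈ ea.sub, g * v = v * g) → g ∈ ea.sub
  MV : ∀ g ∈ closure {gx, gy}, g ∈ ea.sub → g = 1
  nc : ∀ g, g * el 1641 * g⁻¹ ≠ el 3

namespace Cx
variable {X : Type} [Group X] (C : Cx X)

abbrev V : Subgroup X := C.ea.sub
def lt (l : ℕ) : X := if l = 0 then C.gx else if l = 1 then C.gy else C.gy⁻¹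
/-- the element of a word -/
def wd : List ℕ → X
  | [] => 1
  | l :: w => C.lt l * wd w
/-- the conjugate of `d` by a word -/
def cd (w : List ℕ) : X := C.wd w * C.wd wd0 * (C.wd w)⁻¹
/-- the data -/
def D (T H0 : Subgroup X) (τ : X) : Dt X where
  T := T
  V := C.V
  H0 := H0
  z := C.el 1641
  b := C.el 3
  q1 := C.el 7
  q2 := C.el 8
  q3 := C.el 4
  g0 := C.wd wg0
  d := C.wd wd0
  d' := C.wd [1, 0, 2]
  v0 := C.el 2
  x0 := C.el 1
  τ := τ
  vs := vsN.map C.el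
  S0 := wS0.map C.cd
  S1 := wS1.map C.cd
/-- `g` acts on `V` by the matrix `F` -/
def Ac (g : X) (F : ℕ) : Prop := ∀ e, e < 2048 → mv F e < 2048 ∧ g * C.el e * g⁻¹ = C.el (mv F e)

theorem mem {e : ℕ} (h : e < 2048) : C.el e ∈ C.V := C.ea.mem h
theorem ex {v : X} (h : v ∈ C.V) : ∃ e, e < 2048 ∧ v = C.el e := h
theorem add {a b : ℕ} (ha : a < 2048) (hb : b < 2048) : C.el a * C.el b = C.el (a ^^^ b) := (C.ea.add a b ha hb).symm
theorem inj {a b : ℕ} (ha : a < 2048) (hb : b < 2048) (h : C.el a = C.el b) : a = b := (C.ea.eq_iff ha hb).1 h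
theorem xlt {a b : ℕ} (ha : a < 2048) (hb : b < 2048) : a ^^^ b < 2048 := Nat.xor_lt_two_pow (n := 11) ha hb

theorem ac_lt (l : ℕ) : C.Ac (C.lt l) (lm l) := by
  have h : allLt (fun e => band (Nat.blt (mv FX e) 2048) (band (Nat.blt (mv FY e) 2048) (band (Nat.blt (mv FI e) 2048)
    (Nat.beq (mv FY (mv FI e)) e)))) 2048 = true := by decide +kernel
  simp only [allLt_iff, band_eq_true, Nat.blt_eq, Nat.beq_eq] at h
  intro e he
  obtain ⟨h1, h2, h3, h4⟩ := h e he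
  simp only [lt, lm, sel_eq, Nat.beq_eq]
  split_ifs
  exacts [⟨h1, C.ax e he⟩, ⟨h2, C.ay e he⟩, ⟨h3, by rw [← h4, ← C.ay _ h3, h4]; group⟩]

theorem ac_wd : ∀ w, C.Ac (C.wd w) (wM w)
  | [] => fun e he => by
    have h : allLt (fun e => Nat.beq (mv I11 e) e) 2048 = true := by decide +kernel
    have := Nat.eq_of_beq_eq_true ((allLt_iff _ _).1 h e he)
    exact ⟨this.symm ▸ he, by rw [wd, show mv (wM []) e = e from this]; group⟩
  | l :: w => fun e he => by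
    obtain ⟨h1, h2⟩ := ac_wd w e he
    obtain ⟨h3, h4⟩ := C.ac_lt l _ h1
    rw [show wM (l :: w) = mm (lm l) (wM w) from rfl, mv_mm _ _ _ (by omega), ← h4, ← h2, wd]
    exact ⟨h3, by group⟩

theorem wd_append : ∀ w w', C.wd (w ++ w') = C.wd w * C.wd w'
  | [], _ => (one_mul _).symm
  | l :: w, w' => by rw [List.cons_append, wd, wd, wd_append w w', mul_assoc]

theorem wd_mem {K : Subgroup X} (hx : C.gx ∈ K) (hy : C.gy ∈ K) : ∀ w, C.wd w ∈ K
  | [] => one_mem _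
  | l :: w => mul_mem (by rw [lt]; split_ifs; exacts [hx, hy, inv_mem hy]) (wd_mem hx hy w)

theorem weq {w w' : List ℕ} (h : Nat.beq (wM w) (wM w') = true) : C.wd w = C.wd w' := by
  have m : ∀ w, C.wd w ∈ closure {C.gx, C.gy} := C.wd_mem (subset_closure (by simp)) (subset_closure (by simp))
  refine (inv_mul_eq_one.1 (C.MV _ (mul_mem (inv_mem (m w')) (m w)) (C.cV _ fun v hv => ?_))).symm
  obtain ⟨e, he, rfl⟩ := C.ex hv
  have := (C.ac_wd w e he).2
  rw [Nat.eq_of_beq_eq_true h, ← (C.ac_wd w' e he).2] at this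
  calc _ = (C.wd w')⁻¹ * (C.wd w * C.el e * (C.wd w)⁻¹) * C.wd w := by group
    _ = _ := by rw [this]; group

theorem wd_wI : ∀ w, C.wd (wI w) = (C.wd w)⁻¹
  | [] => inv_one.symm
  | l :: w => by
    have h : C.gx * (C.gx * 1) = 1 := C.weq (w := [0, 0]) (w' := []) (by decide +kernel)
    rw [wI, wd_append, wd_wI w, wd, wd, wd, mul_one, mul_inv_rev, lt, lt]
    split_ifs <;> simp_all [isv]

theorem cd_eq (w : List ℕ) : C.cd w = C.wd (w ++ (wd0 ++ wI w)) := by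
  rw [wd_append, wd_append, wd_wI, cd, mul_assoc]

theorem cj {w : List ℕ} {a c : ℕ} (ha : a < 2048) (h : Nat.beq (mv (wM w) a) c = true) :
    C.wd w * C.el a * (C.wd w)⁻¹ = C.el c := Nat.eq_of_beq_eq_true h ▸ (C.ac_wd w a ha).2

theorem cm {w : List ℕ} {a : ℕ} (ha : a < 2048) (h : Nat.beq (mv (wM w) a) a = true) :
    C.wd w * C.el a = C.el a * C.wd w := mul_inv_eq_iff_eq_mul.1 (C.cj ha h)

theorem fx {w : List ℕ} {a : ℕ} (ha : a < 2048) (h : C.wd w * C.el a = C.el a * C.wd w) : mv (wM w) a = a :=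
  C.inj (C.ac_wd w a ha).1 ha (by rw [← (C.ac_wd w a ha).2, h, mul_inv_cancel_right])

/-- a spanning set -/
theorem span {K : Subgroup X} {P Q : ℕ} (h : ∀ j, j < 11 → C.el (mv P (2 ^ j)) ∈ K)
    (c : allLt (fun i => band (Nat.blt (mv P (2 ^ i)) 2048) (band (Nat.blt (mv Q (2 ^ i)) 2048)
      (Nat.beq (mv P (mv Q (2 ^ i))) (2 ^ i)))) 11 = true) : C.V ≤ K := by
  simp only [allLt_iff, band_eq_true, Nat.blt_eq, Nat.beq_eq] at c
  have k : ∀ m, m < 2 ^ 11 → mv P m < 2048 ∧ C.el (mv P m) ∈ K := xor_induction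
    (by rw [mv_zero, C.ea.zero]; exact ⟨by norm_num, one_mem _⟩) (fun j hj => ⟨(c j hj).1, h j hj⟩)
    fun a b ha hb p q => by
      rw [mv_xor _ (by omega) (by omega), ← C.add p.1 q.1]
      exact ⟨xlt p.1 q.1, mul_mem p.2 q.2⟩
  rintro _ ⟨e, he, rfl⟩
  exact xor_induction (P := fun e => C.el e ∈ K) (C.ea.zero ▸ one_mem _)
    (fun i hi => (c i hi).2.2 ▸ (k _ (c i hi).2.1).2) (fun a b ha hb p q => C.add ha hb ▸ mul_mem p q) e he

variable [Finite X]

theorem wd_N (w : List ℕ) : C.wd w ∈ 𝐍(C.V) := mem_normalizer_of_cj_le fun x hx => by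
  obtain ⟨_, ⟨e, he, rfl⟩, rfl⟩ := mem_cj'.1 hx
  exact (C.ac_wd w e he).2 ▸ C.mem (C.ac_wd w e he).1

theorem tr {c : ℕ → Bool} {r : ℕ} (h : bfsC T1 c (Nat.beq r) (fun i e => mv (lm i) e) [0, 1, 2] = true) :
    ∀ e, e < 2048 → c e = true → ∃ n ∈ 𝐍(C.V), n * C.el r * n⁻¹ = C.el e :=
  bfs h (fun e _ c => ⟨1, one_mem _, by rw [Nat.eq_of_beq_eq_true c]; group⟩) fun i _ e he _ _ _ ⟨n, hn, c⟩ =>
    ⟨(C.wd [i])⁻¹ * n, mul_mem (inv_mem (C.wd_N _)) hn, by
      rw [← (C.ac_lt i e he).2] at c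
      calc _ = (C.wd [i])⁻¹ * (n * C.el r * n⁻¹) * C.wd [i] := by group
        _ = _ := by rw [c, wd, wd]; group⟩

theorem trS : ∀ e, e < 2048 → isS e = true → ∃ n ∈ 𝐍(C.V), n * C.el 1641 * n⁻¹ = C.el e := C.tr (by decide +kernel)
theorem trD : ∀ e, e < 2048 → isD e = true → ∃ n ∈ 𝐍(C.V), n * C.el 3 * n⁻¹ = C.el e := C.tr (by decide +kernel)

variable (T H0 : Subgroup X) (τ : X)

theorem AS {e : ℕ} (he : e < 2048) (h : isS e = true) : (C.D T H0 τ).A (C.el e) :=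
  let ⟨n, _, c⟩ := C.trS e he h; ⟨n, c⟩
theorem BD {e : ℕ} (he : e < 2048) (h : isD e = true) : (C.D T H0 τ).B (C.el e) :=
  let ⟨n, _, c⟩ := C.trD e he h; ⟨n, c⟩

omit [Finite X] in
theorem nAB (a : X) (h : (C.D T H0 τ).A a) : ¬ (C.D T H0 τ).B a := fun ⟨g', e'⟩ =>
  let ⟨g, e⟩ := h
  C.nc (g'⁻¹ * g) (by
    calc _ = g'⁻¹ * (g * C.el 1641 * g⁻¹) * g' := by group
      _ = _ := by rw [show g * C.el 1641 * g⁻¹ = g' * C.el 3 * g'⁻¹ from e.trans e'.symm]; group)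

omit [Finite X] in
theorem ne0 {r : ℕ} (hr : r < 2048) (h0 : r ≠ 0) (g : X) : g * C.el r * g⁻¹ ≠ C.el 0 :=
  C.ea.zero ▸ cjne (fun c => h0 (C.ea.inj r hr c)) g

theorem SA {e : ℕ} (he : e < 2048) (h : (C.D T H0 τ).A (C.el e)) : isS e = true := by
  rw [isS, sel_eq]
  split_ifs with c
  · exact absurd (C.BD T H0 τ he c) (C.nAB T H0 τ _ h)
  · rw [Nat.blt_eq]
    exact Nat.pos_of_ne_zero fun c => let ⟨g, e⟩ := h; C.ne0 (r := 1641) (by norm_num) (by norm_num) g (c ▸ e)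

theorem DB {e : ℕ} (he : e < 2048) (h : (C.D T H0 τ).B (C.el e)) : isD e = true := by
  by_contra c
  refine C.nAB T H0 τ _ (C.AS T H0 τ he ?_) h
  rw [isS, sel_eq, if_neg (show ¬ tb Dm e = true from c), Nat.blt_eq]
  exact Nat.pos_of_ne_zero fun c => let ⟨g, e⟩ := h; C.ne0 (r := 3) (by norm_num) (by norm_num) g (c ▸ e)

omit [Finite X] in
theorem ty {w : List ℕ} {q a c : ℕ} (hq : q < 2048)
    (h : band (Nat.beq (mv (wM w) 1641) a) (Nat.beq (mv (wM w) q) c) = true) :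
    (C.D T H0 τ).Ty (C.el q) (C.el a) (C.el c) :=
  ⟨C.wd w, C.cj (by norm_num) ((band_eq_true _ _).1 h).1, C.cj hq ((band_eq_true _ _).1 h).2⟩

end Cx

theorem eqns_Cx : True := by
  have := @isD.eq_1
  have := @isS.eq_1
  have := @lm.eq_1
  have := @wM.eq_1
  have := @wI.eq_1
  have := @wI.eq_2
  have := @dep.eq_1
  have := @bfsC.eq_1
  have := @Cx.lt.eq_1
  have := @Cx.wd.eq_1
  have := @Cx.wd.eq_2
  have := @Cx.cd.eq_1
  have := @Cx.D.eq_1
  have := @Cx.Ac.eq_1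
  trivial

end H59.SJ
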