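import Mathlib
import Cfsg.Agent.Base
import Cfsg.Agent.Lib.StdJ.Th
import Cfsg.Agent.S0111
import Cfsg.Prelude.Def_Local

set_option autoImplicit false
set_option linter.unusedSectionVars false

namespace H59.SJ

open Subgroup H69 H36.SW
open scoped commutatorElement

variable {X : Type} [Group X] [Finite X] {G : Type*} [Group G] [Finite G] {D : Dt X}

theorem W3.exists_en {t : G} {O : Subgroup G} {ι : X →* G} (F : Fa D) {ψ : X →* G} (w : W3 t O ι ψ) :
    ∃ (Ψ : X × X →* G) (G0 : Subgroup G), En D t Ψ G0 ∧ ∀ x, Ψ (x, x) = ι x := by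
  have tt := w.toW0.tt
  let Ψ : X × X →* G := MonoidHom.mk' (fun p => ψ p.1 * (t * ψ p.2 * t)) fun p q => by
    calc _ = ψ p.1 * (ψ q.1 * (t * ψ p.2 * t)) * (t * ψ q.2 * t) := by
          simp only [Prod.fst_mul, Prod.snd_mul, map_mul, mul_assoc, tt]
      _ = _ := by rw [w.comm q.1]; simp only [mul_assoc]
  have df : ∀ x y, Ψ (x, y) = ψ x * (t * ψ y * t) := fun _ _ => rfl
  have mu : ∀ a b c d, Ψ (a, b) * Ψ (c, d) = Ψ (a * c, b * d) := fun _ _ _ _ => (map_mul Ψ _ _).symm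
  have dg : ∀ x, Ψ (x, x) = ι x := w.diag
  have sw : ∀ x y, t * Ψ (x, y) * t = Ψ (y, x) := fun x y => by
    rw [df, df, w.comm y]; simp only [mul_assoc, tt, w.t2, mul_one]
  have ψi : Function.Injective ψ := (injective_iff_map_eq_one _).2 fun x hx =>
    w.inj (by rw [← w.diag, hx, map_one, one_mul, mul_one, w.t2])
  have inj : Function.Injective Ψ := (injective_iff_map_eq_one _).2 fun ⟨x, y⟩ c => by
    have k : ∀ x y, Ψ (x, y) = 1 → x = 1 := fun x y c => F.cen1 fun u => ψi (by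
      have : Commute (ψ u) (t * ψ y * t) := w.comm u y
      rw [map_mul, map_mul, eq_inv_of_mul_eq_one_left c]
      exact this.inv_right.eq)
    rw [k x y c, k y x (by rw [← sw, c, mul_one, w.t2])]; rfl
  have nc : ∀ g p, g * t * g⁻¹ ≠ Ψ p := fun g ⟨u1, u2⟩ c => by
    have s := cjsq w.t2 g
    rw [c, mu, ← map_one Ψ] at s
    obtain ⟨r1, h1⟩ := F.sq (a := u1) (congrArg Prod.fst (inj s))
    obtain ⟨r2, h2⟩ := F.sq (a := u2) (congrArg Prod.snd (inj s))
    exact w.toW0.nsq' F g (Ψ (r1, r2)) (by rw [mu, h1, h2, c])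
  let T0 := (D.T.prod D.T).map Ψ
  have tT : ∀ {g}, g ∈ T0 → t * g * t ∈ T0 := fun hg => by
    obtain ⟨x, hx, y, hy, rfl⟩ := En.memT.1 hg
    exact En.memT.2 ⟨y, hy, x, hx, sw x y⟩
  have m2 : ∀ {a b}, a * t ∈ T0 → b * t ∈ T0 → a * b ∈ T0 := fun ha hb => by
    simpa only [mul_assoc, tt, w.t2, mul_one] using mul_mem ha (tT hb)
  let S : Subgroup G :=
    { carrier := {g | g ∈ T0 ∨ g * t ∈ T0}
      one_mem' := .inl (one_mem _)
      mul_mem' := by
        rintro a b (ha | ha) (hb | hb)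
        · exact .inl (mul_mem ha hb)
        · exact .inr (mul_assoc a b t ▸ mul_mem ha hb)
        · exact .inr (by simpa only [mul_assoc, tt] using mul_mem ha (tT hb))
        · exact .inl (m2 ha hb)
      inv_mem' := by
        rintro a (ha | ha)
        · exact .inl (inv_mem ha)
        · exact .inr (by simpa only [mul_inv_rev, w.toW0.ti, tt] using tT (inv_mem ha)) }
  have tS : t ∈ S := .inr (w.t2 ▸ one_mem _)
  have tn : t ∉ T0 := fun ⟨p, _, c⟩ => nc 1 p (by rw [c]; group)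
  have p0 : ∀ g ∈ T0, P2 g := fun g hg => by
    obtain ⟨x, hx, y, hy, rfl⟩ := En.memT.1 hg
    obtain ⟨k, hk⟩ := F.P2T hx
    obtain ⟨l, hl⟩ := F.P2T hy
    refine ⟨k + l, ?_⟩
    rw [← map_pow, Prod.pow_mk, pow_add, pow_mul, hk, one_pow, mul_comm, pow_mul, hl, one_pow]
    exact map_one Ψ
  have sS : IsSylowIn 2 S ⊤ := isSylowIn_of_normalizer le_top ⟨le_inf le_top le_normalizer,
    isP_of_P2 fun g hg => hg.elim (p0 g) fun c => (p0 _ (m2 c c)).of_mul_self, fun R h1 h2 h3 => by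
      refine le_antisymm (fun g hg => ?_) h1
      obtain ⟨x, hx, y, hy, c⟩ := En.memT.1 ((conj_mem_of_mem_normalizer (h2 hg).2 tS).resolve_left
        fun ⟨p, _, c⟩ => nc g p c.symm)
      have c1 : g * t * g⁻¹ = Ψ (x, y) * t := by rw [← c, w.toW0.tt']
      have s := cjsq w.t2 g
      rw [c1, mul_assoc, ← mul_assoc t, sw, mu, ← map_one Ψ] at s
      obtain rfl : y = x⁻¹ := eq_inv_of_mul_eq_one_right (congrArg Prod.fst (inj s))
      have τ : Ψ (x, 1) ∈ S := .inl (En.memT.2 ⟨x, hx, 1, one_mem _, rfl⟩)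
      have g1 := mul_mem (inv_mem (h1 τ)) hg
      have eT := F.syl.max (R.comap ι) (fun x hx => h1 (.inl (En.memT.2 ⟨x, hx, x, hx, (dg x).symm⟩))) le_top
        (h3.comap_of_injective ι w.inj)
      have k : ∀ x, ι x ∈ R → ι x ∈ S := fun x hx => .inl (En.memT.2 ⟨x, eT.le hx, x, eT.le hx, (dg x).symm⟩)
      obtain ⟨x', -, c2⟩ := w.toW0.cen2 F (g := (Ψ (x, 1))⁻¹ * g) (by
        calc _ = (Ψ (x, 1))⁻¹ * (g * t * g⁻¹) * g := by group
          _ = t * (t * ((Ψ (x, 1))⁻¹ * Ψ (x, x⁻¹)) * t) * g := by rw [c1]; simp only [mul_assoc, tt]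
          _ = _ := by rw [← map_inv, Prod.inv_mk, mu, inv_mul_cancel, inv_one, one_mul, sw, mul_assoc])
        (P2.of_mem h3 g1)
      refine (mul_mem_cancel_left (inv_mem τ)).1 ?_
      rcases c2 with c2 | c2
      · exact c2 ▸ k x' (c2 ▸ g1)
      · exact c2 ▸ mul_mem tS (k x' ((mul_mem_cancel_left (h1 tS)).1 (c2 ▸ g1)))⟩
  obtain ⟨P, hP⟩ := sS.exists_sylow_top
  obtain ⟨M, hM, i2, tM⟩ := (Cfsg.Agent.S0111.result P T0 (hP ▸ fun _ => .inl) (hP ▸ relIndex_eq_two_iff.2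
    ⟨t, tS, fun b hb => hb.elim (fun c => .inr ⟨c, fun c' => tn ((mul_mem_cancel_left c).1 c')⟩)
      fun c => .inl ⟨c, fun c' => tn ((mul_mem_cancel_left c').1 c)⟩⟩) t
    (orderOf_eq_prime (by rw [pow_two, w.t2]) w.t1) (hP ▸ tS) tn).resolve_right fun ⟨g, p, _, c⟩ => nc g p c.symm
  have le : ∀ p, Ψ p ∈ M := fun ⟨x, y⟩ => by
    have k : ∀ (f : X →* G) x, f x ∈ M := fun f x => (commutator_le.2 fun a _ b _ => by
      rw [mem_comap, map_commutatorElement, commutatorElement_def]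
      simp only [mul_mem_iff_of_index_two i2, inv_mem_iff]
      tauto : commutator X ≤ M.comap f) (F.perf.ge (mem_top x))
    have : Ψ (x, 1) * Ψ (1, y) ∈ M :=
      mul_mem (k (Ψ.comp (MonoidHom.inl X X)) x) (k (Ψ.comp (MonoidHom.inr X X)) y)
    rwa [mu, mul_one, one_mul] at this
  refine ⟨Ψ, M, ⟨inj, w.t2, sw, fun g hg => ?_, hM, fun g => ?_, le, ?_⟩, dg⟩
  · obtain ⟨k, x, c, c', -⟩ := w.toW0.cen' hg
    exact ⟨k, x, dg x ▸ c, fun y => dg y ▸ c' y⟩
  · rw [mul_mem_iff_of_index_two i2]; tauto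
  · have l : T0 ≤ M := by rintro _ ⟨p, -, rfl⟩; exact le p
    have : S ⊓ M = T0 := le_antisymm (fun g hg => hg.1.elim id fun c =>
      absurd ((mul_mem_cancel_left (mem_inf.1 hg).2).1 (l c)) tM) (le_inf (fun _ => .inl) l)
    have s := sS.inf_normal le_top (normal_iff_top_le_normalizer.1 hM)
    rwa [this] at s

end H59.SJ
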