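import Mathlib
import Cfsg.Agent.Base
import Cfsg.Agent.Lib.StdJ.Th

/-! The end game for `J4 ≀ 2`: conjugates of involutions of the first factor. -/

set_option autoImplicit false
set_option linter.unusedSectionVars false

namespace H59.SJ

open Subgroup H69 H36.SW

variable {X : Type} [Group X] [Finite X] {G : Type*} [Group G] [Finite G] {D : Dt X}

namespace End2

/-- an element of the second centre of `T` -/
theorem exY (F : Fa D) : ∃ y ∈ D.T, y ≠ 1 ∧ y ≠ D.z ∧ ∀ u ∈ D.T, u * y * u⁻¹ = y ∨ u * y * u⁻¹ = y * D.z := by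
  let z : D.T := ⟨D.z, F.zT⟩
  have z2 : z * z = 1 := Subtype.ext F.z2
  have mz : ∀ x : D.T, x ∈ zpowers z → x = 1 ∨ x = z := fun x hx => by
    obtain ⟨k, rfl⟩ := mem_zpowers_iff.1 hx
    have z3 : z ^ (2 : ℤ) = 1 := by rw [zpow_two, z2]
    rcases Int.even_or_odd' k with ⟨m, rfl | rfl⟩ <;> simp [zpow_add, zpow_mul, z3]
  have : (zpowers z).Normal := ⟨fun x hx g => by
    rcases mz x hx with rfl | rfl
    · simp
    · rw [show g * z = z * g from Subtype.ext (F.zc g g.2), mul_inv_cancel_right]; exact mem_zpowers _⟩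
  have : Nontrivial (D.T ⧸ zpowers z) := ⟨QuotientGroup.mk ⟨D.b, F.bT⟩, 1, fun h => by
    rcases mz _ ((QuotientGroup.eq_one_iff _).1 h) with c | c
    exacts [F.b1 (congrArg Subtype.val c), F.bz (congrArg Subtype.val c)]⟩
  have := (F.syl.isP.to_quotient (zpowers z)).center_nontrivial
  obtain ⟨⟨q, hq⟩, q1⟩ := exists_ne (1 : center (D.T ⧸ zpowers z))
  obtain ⟨y, rfl⟩ := QuotientGroup.mk_surjective q
  have y1 : y ∉ zpowers z := fun h => q1 (Subtype.ext ((QuotientGroup.eq_one_iff _).2 h))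
  refine ⟨y, y.2, fun c => y1 (by rw [show y = 1 from Subtype.ext c]; exact one_mem _),
    fun c => y1 (by rw [show y = z from Subtype.ext c]; exact mem_zpowers _), fun u hu => ?_⟩
  have : (y : D.T ⧸ zpowers z) = (⟨u, hu⟩ * y * ⟨u, hu⟩⁻¹ : D.T) := by
    rw [QuotientGroup.mk_mul, QuotientGroup.mk_mul, mem_center_iff.1 hq, QuotientGroup.mk_inv, mul_inv_cancel_right]
  rcases mz _ (QuotientGroup.eq.1 this) with c | c
  · exact .inl (congrArg Subtype.val (inv_mul_eq_one.1 c)).symm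
  · exact .inr (congrArg Subtype.val (inv_mul_eq_iff_eq_mul.1 c))

/-- the size of an `N(V) × N(V)`-invariant subset of `V × V` -/
theorem cnt (F : Fa D) (P : X → X → Prop) [DecidableRel P] (hV : ∀ c c', P c c' → c ∈ D.V ∧ c' ∈ D.V)
    (hP : ∀ c c', ∀ n ∈ 𝐍(D.V), ∀ n' ∈ 𝐍(D.V), P c c' → P (n * c * n⁻¹) (n' * c' * n'⁻¹)) :
    {p : X × X | P p.1 p.2}.ncard = ∑ i : Fin 3, ∑ j : Fin 3,
      if P (![1, D.z, D.b] i) (![1, D.z, D.b] j) then ![1, 1771, 276] i * ![1, 1771, 276] j else 0 := by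
  classical
  have := Fintype.ofFinite X
  let C : Fin 3 → Set X := ![{1}, {v | v ∈ D.V ∧ D.A v}, {v | v ∈ D.V ∧ D.B v}]
  have c1 : ∀ i, (C i).ncard = ![1, 1771, 276] i := fun i => by
    fin_cases i
    exacts [Set.ncard_singleton _, F.nA, F.nB]
  have c2 : ∀ i, ∀ v ∈ C i, ∃ n ∈ 𝐍(D.V), n * ![1, D.z, D.b] i * n⁻¹ = v := fun i v hv => by
    fin_cases i
    exacts [⟨1, one_mem _, by simpa [C, eq_comm] using hv⟩, F.trA v hv.1 hv.2, F.trB v hv.1 hv.2]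
  have c3 : ∀ v ∈ D.V, ∃ i, v ∈ C i := fun v hv => by
    by_cases h : v = 1
    · exact ⟨0, h⟩
    · exact (F.inv v (F.sqV v hv) h).elim (fun c => ⟨1, hv, c⟩) fun c => ⟨2, hv, c⟩
  have c4 : ∀ i j v, v ∈ C i → v ∈ C j → i = j := fun i j v a b => by
    fin_cases i <;> fin_cases j
    exacts [rfl, absurd a (F.A1 b.2), absurd a (F.B1 b.2), absurd b (F.A1 a.2), rfl, absurd b.2 (F.nAB _ a.2),
      absurd b (F.B1 a.2), absurd a.2 (F.nAB _ b.2), rfl]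
  have c5 : ∀ i j c c', c ∈ C i → c' ∈ C j → (P c c' ↔ P (![1, D.z, D.b] i) (![1, D.z, D.b] j)) := by
    intro i j c c' h h'
    obtain ⟨n, hn, rfl⟩ := c2 i c h
    obtain ⟨n', hn', rfl⟩ := c2 j c' h'
    exact ⟨fun p => by simpa [mul_assoc] using hP _ _ _ (inv_mem hn) _ (inv_mem hn') p, hP _ _ _ hn _ hn'⟩
  have e : {p : X × X | P p.1 p.2}.toFinset = (Finset.univ.filter fun q : Fin 3 × Fin 3 =>
      P (![1, D.z, D.b] q.1) (![1, D.z, D.b] q.2)).biUnion fun q => (C q.1).toFinset ×ˢ (C q.2).toFinset := by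
    ext p
    simp only [Set.mem_toFinset, Set.mem_ofPred_eq, Finset.mem_biUnion, Finset.mem_filter, Finset.mem_univ, true_and,
      Finset.mem_product]
    refine ⟨fun h => ?_, fun ⟨q, h, a, b⟩ => (c5 _ _ _ _ a b).2 h⟩
    obtain ⟨i, a⟩ := c3 _ (hV _ _ h).1
    obtain ⟨j, b⟩ := c3 _ (hV _ _ h).2
    exact ⟨(i, j), (c5 _ _ _ _ a b).1 h, a, b⟩
  rw [Set.ncard_eq_toFinset_card', e, Finset.card_biUnion, Finset.sum_filter, ← Finset.sum_product',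
    Finset.univ_product_univ]
  · refine Finset.sum_congr rfl fun q _ => ?_
    rw [Finset.card_product, ← Set.ncard_eq_toFinset_card', ← Set.ncard_eq_toFinset_card', c1, c1]
  · intro q _ q' _ h
    refine Finset.disjoint_left.2 fun p a b => h ?_
    simp only [Finset.mem_product, Set.mem_toFinset] at a b
    exact Prod.ext (c4 _ _ _ a.1 b.1) (c4 _ _ _ a.2 b.2)

variable (F : Fa D) {t : G} {Ψ : X × X →* G} {G0 : Subgroup G} (e : En D t Ψ G0)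

theorem mu (Ψ : X × X →* G) (a b c d : X) : Ψ (a, b) * Ψ (c, d) = Ψ (a * c, b * d) := (map_mul Ψ _ _).symm

theorem cj (Ψ : X × X →* G) (a b c d : X) : Ψ (a, b) * Ψ (c, d) * (Ψ (a, b))⁻¹ = Ψ (a * c * a⁻¹, b * d * b⁻¹) := by
  rw [← map_inv, ← map_mul, ← map_mul]; rfl

include F e

theorem zc {a c : X} (ha : a = 1 ∨ a = D.z) (hc : c = 1 ∨ c = D.z) :
    ∀ x ∈ (D.T.prod D.T).map Ψ, x * Ψ (a, c) = Ψ (a, c) * x := fun x hx => by
  obtain ⟨u, hu, v, hv, rfl⟩ := En.memT.1 hx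
  have k : ∀ {a u}, a = 1 ∨ a = D.z → u ∈ D.T → u * a = a * u := fun h hu =>
    h.elim (fun c => by rw [c, mul_one, one_mul]) fun c => c ▸ F.zc _ hu
  rw [mu, mu, k ha hu, k hc hv]

theorem fus {c d : X} (hc : c = 1 ∨ c = D.z) (hd : d = 1 ∨ d = D.z) {g : G} (hg : g ∈ G0)
    (h : g * Ψ (D.z, 1) * g⁻¹ = Ψ (c, d)) :
    ∃ σ ∈ G0, σ ∈ 𝐍((D.T.prod D.T).map Ψ) ∧ σ * Ψ (D.z, 1) * σ⁻¹ = Ψ (c, d) :=
  h ▸ wc_fus e.syl le_rfl (fun _ _ => cj_eq_of_cj_le) hg (zc F e (.inr rfl) (.inl rfl)) (h ▸ zc F e hc hd)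

theorem za {g : G} (hg : g ∈ G0) : g * Ψ (D.z, 1) * g⁻¹ ≠ Ψ (D.z, D.z) := fun h => by
  obtain ⟨σ, -, hn, h⟩ := fus F e (.inr rfl) (.inr rfl) hg h
  obtain ⟨y, yT, y1', yz, bZ⟩ := exY F
  obtain ⟨y1, -, y2, -, c⟩ := En.memT.1 (conj_mem_of_mem_normalizer hn (En.memT.2 ⟨_, yT, 1, one_mem _, rfl⟩))
  have k : ∀ a ∈ D.T, ∀ d ∈ D.T, (a * y1 * a⁻¹, d * y2 * d⁻¹) = (y1, y2) ∨
      (a * y1 * a⁻¹, d * y2 * d⁻¹) = (y1 * D.z, y2 * D.z) := fun a ha d hd => by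
    obtain ⟨u, hu, v, -, c'⟩ := En.memT.1 (conj_mem_of_mem_normalizer' hn (En.memT.2 ⟨a, ha, d, hd, rfl⟩))
    have : Ψ (a * y1 * a⁻¹, d * y2 * d⁻¹) = σ * Ψ (u * y * u⁻¹, 1) * σ⁻¹ := by
      rw [← cj, ← c, show (1 : X) = v * 1 * v⁻¹ by group, ← cj, ← c', show v * 1 * v⁻¹ = 1 by group]; group
    refine (bZ u hu).imp (fun d => e.inj (by rw [this, d, c])) fun d => e.inj ?_
    rw [this, d, ← mu, ← c, ← h, conj_mul, mu, mul_one]
  have k1 : ∀ a ∈ D.T, a * y1 * a⁻¹ = y1 := fun a ha => (k a ha 1 (one_mem _)).elim (congrArg Prod.fst)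
    fun d => absurd (by simpa using congrArg Prod.snd d) F.z1
  have k2 : ∀ a ∈ D.T, a * y2 * a⁻¹ = y2 := fun a ha => (k 1 (one_mem _) a ha).elim (congrArg Prod.snd)
    fun d => absurd (by simpa using congrArg Prod.fst d) F.z1
  refine (F.cT _ yT fun a ha => ?_).elim y1' yz
  obtain ⟨u, hu, v, hv, c'⟩ := En.memT.1 (conj_mem_of_mem_normalizer hn (En.memT.2 ⟨a, ha, 1, one_mem _, rfl⟩))
  have := cj Ψ u v y1 y2
  rw [k1 u hu, k2 v hv, ← c, ← c', mul_inv_eq_iff_eq_mul, conj_mul, conj_mul, mu, mu, mul_left_inj,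
    mul_right_inj] at this
  exact (congrArg Prod.fst (e.inj this)).symm

omit F in
theorem sw {g : G} {a b c d : X} (h : g * Ψ (a, b) * g⁻¹ = Ψ (c, d)) :
    t * g * t * Ψ (b, a) * (t * g * t)⁻¹ = Ψ (d, c) := by
  rw [← e.sw c, ← h, ← e.sw a, mul_inv_rev, mul_inv_rev, e.ti]
  simp only [mul_assoc, show ∀ x, t * (t * x) = x from fun x => by rw [← mul_assoc, e.t2, one_mul]]

theorem zb {g : G} (hg : g ∈ G0) : g * Ψ (D.z, 1) * g⁻¹ ≠ Ψ (1, D.z) := fun h => by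
  obtain ⟨σ, hσ, hn, h⟩ := fus F e (.inl rfl) (.inr rfl) hg h
  have ne : Ψ (D.z, 1) ≠ Ψ (1, D.z) := fun c => F.z1 (congrArg Prod.fst (e.inj c))
  obtain ⟨a, ha, c, hc, d⟩ := En.memT.1 (conj_mem_of_mem_normalizer hn (En.memT.2 ⟨1, one_mem _, _, F.zT, rfl⟩))
  have k : ∀ u ∈ D.T, ∀ v ∈ D.T, (a * u, c * v) = (u * a, v * c) := fun u hu v hv => e.inj (by
    have := zc F e (.inl rfl) (.inr rfl) _ (conj_mem_of_mem_normalizer' hn (En.memT.2 ⟨u, hu, v, hv, rfl⟩))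
    rw [← mu, ← mu, ← d]
    calc _ = σ * (Ψ (1, D.z) * (σ⁻¹ * Ψ (u, v) * σ)) * σ⁻¹ := by group
      _ = _ := by rw [← this]; group)
  have d' : σ * Ψ (1, D.z) * σ⁻¹ = Ψ (D.z, 1) := by
    rcases F.cT a ha fun u hu => congrArg Prod.fst (k u hu 1 (one_mem _)) with rfl | rfl <;>
      rcases F.cT c hc fun u hu => congrArg Prod.snd (k 1 (one_mem _) u hu) with rfl | rfl
    · rw [show ((1, 1) : X × X) = 1 from rfl, map_one, conj_eq_one_iff, ← map_one Ψ] at d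
      exact absurd (congrArg Prod.snd (e.inj d)) F.z1
    · exact absurd (by simpa using h.trans d.symm) ne
    · exact d
    · exact absurd (sw e d) (za F e (e.tG hσ))
  obtain ⟨_, ⟨m, rfl⟩, p⟩ := exists_odd_P2 σ
  have := zc F e (.inr rfl) (.inl rfl) _ (e.syl.le_of_le_normalizer' p.zpowers (zpowers_le.2 (pow_mem hσ _))
    (zpowers_le.2 (pow_mem hn _)) (mem_zpowers _))
  have c2 : Commute (σ ^ 2) (Ψ (D.z, 1)) := mul_inv_eq_iff_eq_mul.1 (by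
    calc _ = σ * (σ * Ψ (D.z, 1) * σ⁻¹) * σ⁻¹ := by rw [pow_two]; group
      _ = _ := by rw [h, d'])
  rw [pow_succ', pow_mul, mul_assoc, (c2.pow_left m).eq, ← mul_assoc, ← mul_assoc, mul_left_inj] at this
  exact ne ((mul_inv_eq_iff_eq_mul.2 this).symm.trans h)

omit e in
theorem cp (A B : Subgroup X) : Nat.card (A.prod B) = Nat.card A * Nat.card B := by
  rw [Nat.card_congr (prodEquiv A B).toEquiv, Nat.card_prod]

theorem wc {g : G} (l : (D.V.prod D.V).map Ψ ^ᶜ g ≤ (D.T.prod D.T).map Ψ) :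
    (D.V.prod D.V).map Ψ ^ᶜ g = (D.V.prod D.V).map Ψ := by
  refine cj_eq_of_cj_le ?_
  have m := map_comap_eq_self (l.trans (map_le_range _ _))
  have c : Nat.card (((D.V.prod D.V).map Ψ ^ᶜ g).comap Ψ) = 2048 * 2048 := by
    rw [← card_map_of_injective e.inj, m, card_cj, card_map_of_injective e.inj, cp F, F.cV]
  have s : ∀ p ∈ ((D.V.prod D.V).map Ψ ^ᶜ g).comap Ψ, p * p = 1 := fun p hp => e.inj (by
    obtain ⟨_, ⟨v, hv, rfl⟩, d⟩ := mem_cj'.1 hp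
    rw [map_mul, d, map_one]
    exact cjsq (by rw [← map_mul, show v * v = 1 from Prod.ext (F.sqV _ hv.1) (F.sqV _ hv.2), map_one]) g)
  have lT := (comap_mono (f := Ψ) l).trans_eq (comap_map_eq_self_of_injective e.inj _)
  rw [← m]
  generalize ((D.V.prod D.V).map Ψ ^ᶜ g).comap Ψ = E at c s lT
  obtain ⟨l1, l2⟩ := le_prod_iff.1 lT
  have s1 : ∀ x ∈ E.map (MonoidHom.fst X X), x * x = 1 := by
    rintro _ ⟨p, hp, rfl⟩; exact congrArg Prod.fst (s p hp)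
  have s2 : ∀ x ∈ E.map (MonoidHom.snd X X), x * x = 1 := by
    rintro _ ⟨p, hp, rfl⟩; exact congrArg Prod.snd (s p hp)
  have l3 : E ≤ _ := le_prod_iff.2 ⟨le_rfl, le_rfl⟩
  have c3 := card_le_of_le l3
  rw [c, cp F] at c3
  have c1 := F.eaT s1
  have c2 := F.eaT s2
  exact map_mono fun p hp => ⟨(F.ea l1 s1 (by nlinarith)).le (l3 hp).1, (F.ea l2 s2 (by nlinarith)).le (l3 hp).2⟩

omit e in
theorem cm {a c : X} (ha : a ∈ D.V) (hc : c ∈ D.V) : ∀ x ∈ (D.V.prod D.V).map Ψ, x * Ψ (a, c) = Ψ (a, c) * x := by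
  rintro _ ⟨p, hp, rfl⟩
  rw [← map_mul, ← map_mul, show p * (a, c) = (a, c) * p from Prod.ext (F.cm hp.1 ha) (F.cm hp.2 hc)]

theorem key {h : G} (hh : h ∈ G0 ⊓ 𝐍((D.V.prod D.V).map Ψ)) {v : X} (hv : v ∈ D.V) :
    ∃ a, h * Ψ (v, 1) * h⁻¹ = Ψ (a, 1) := by
  classical
  set N := G0 ⊓ 𝐍((D.V.prod D.V).map Ψ)
  let Om : X → X → Prop := fun c c' => ∃ h ∈ N, h * Ψ (D.z, 1) * h⁻¹ = Ψ (c, c')
  have ex : ∀ h ∈ N, ∀ v ∈ D.V, ∃ a ∈ D.V, ∃ a' ∈ D.V, h * Ψ (v, 1) * h⁻¹ = Ψ (a, a') := fun h hh v hv =>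
    let ⟨p, hp, d⟩ := conj_mem_of_mem_normalizer hh.2 (mem_map_of_mem Ψ (show (v, 1) ∈ _ from ⟨hv, one_mem _⟩))
    ⟨p.1, hp.1, p.2, hp.2, d.symm⟩
  have OV : ∀ c c', Om c c' → c ∈ D.V ∧ c' ∈ D.V := fun c c' ⟨h, hh, d⟩ => by
    obtain ⟨a, ha, a', ha', d'⟩ := ex h hh _ F.zV
    obtain ⟨rfl, rfl⟩ := Prod.mk.inj (e.inj (d.symm.trans d'))
    exact ⟨ha, ha'⟩
  have Oc : ∀ h ∈ N, ∀ {c c' a a'}, Om c c' → h * Ψ (c, c') * h⁻¹ = Ψ (a, a') → Om a a' :=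
    fun h hh _ _ _ _ ⟨k, hk, d⟩ c => ⟨h * k, mul_mem hh hk, by rw [← c, ← d]; group⟩
  have On : ∀ c c', ∀ n ∈ 𝐍(D.V), ∀ n' ∈ 𝐍(D.V), Om c c' → Om (n * c * n⁻¹) (n' * c' * n'⁻¹) := by
    intro c c' n hn n' hn' h
    refine Oc (Ψ (n, n')) ⟨e.le _, mem_normalizer_of_cj_le ?_⟩ h (cj ..)
    rw [show (D.V.prod D.V).map Ψ ^ᶜ Ψ (n, n') = _ from (map_cj Ψ _ _).symm]
    refine map_mono fun x hx => ?_
    obtain ⟨v, hv, rfl⟩ := mem_cj'.1 hx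
    exact ⟨Fa.cjV hn hv.1, Fa.cjV hn' hv.2⟩
  have O1 : Om D.z 1 := ⟨1, one_mem _, by group⟩
  have OA : ∀ v ∈ D.V, D.A v → Om v 1 := fun v hv h => by
    obtain ⟨n, hn, rfl⟩ := F.trA v hv h
    simpa using On _ _ n hn 1 (one_mem _) O1
  have as : ∀ i j, Om i j → ¬ Om j i := fun i j ⟨k, hk, d⟩ ⟨l, hl, d'⟩ =>
    zb F e (mul_mem (inv_mem (e.tG hl.1)) hk.1) (by
      have := sw e d'
      calc _ = (t * l * t)⁻¹ * (k * Ψ (D.z, 1) * k⁻¹) * (t * l * t) := by group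
        _ = _ := by rw [d, ← this]; group)
  have O2 : ¬ Om 1 D.z := as _ _ O1
  have dg : ∀ i, ¬ Om i i := fun i c => as i i c c
  have nc : {x | ∃ g ∈ N, g * Ψ (D.z, 1) * g⁻¹ = x}.ncard = {p : X × X | Om p.1 p.2}.ncard := by
    rw [← Set.ncard_image_of_injective _ e.inj]
    congr 1
    ext x
    refine ⟨fun ⟨g, hg, d⟩ => ?_, fun ⟨p, ⟨g, hg, d⟩, d'⟩ => ⟨g, hg, d.trans d'⟩⟩
    obtain ⟨a, -, a', -, d'⟩ := ex g hg _ F.zV
    exact ⟨(a, a'), ⟨g, hg, d'⟩, d'.symm.trans d⟩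
  have po : ∀ p : ℕ, p.Prime → p ≠ 2 → p ∣ {x | ∃ g ∈ N, g * Ψ (D.z, 1) * g⁻¹ = x}.ncard →
      ∃ j, 0 < j ∧ j ≤ 22 ∧ p ∣ 2 ^ j - 1 := fun p hp h2 =>
    prime_orbit (W := (D.V.prod D.V).map Ψ) (by rw [card_map_of_injective e.inj, cp F, F.cV]; norm_num) inf_le_right
      (mem_map_of_mem Ψ (show (D.z, 1) ∈ _ from ⟨F.zV, one_mem _⟩)) hp h2
  have p1 := fun h => po 277 (by norm_num) (by norm_num) h
  have p2 := fun h => po 21341 (by norm_num) (by norm_num) h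
  have q1 : ¬ ∃ j, 0 < j ∧ j ≤ 22 ∧ 277 ∣ 2 ^ j - 1 := fun ⟨j, a, b, c⟩ => by interval_cases j <;> omega
  have q2 : ¬ ∃ j, 0 < j ∧ j ≤ 22 ∧ 21341 ∣ 2 ^ j - 1 := fun ⟨j, a, b, c⟩ => by interval_cases j <;> omega
  rw [nc, cnt F Om OV On] at p1 p2
  simp only [Fin.sum_univ_three, Matrix.cons_val_zero, Matrix.cons_val_one, Matrix.cons_val, O1, O2, dg, if_true,
    if_false, q1, q2, imp_false] at p1 p2
  have O3 : ¬ Om D.z D.b ∧ ¬ Om D.b D.z := by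
    have a1 := as D.z D.b
    have a2 := as D.b 1
    by_cases h1 : Om D.z D.b <;> by_cases h2 : Om D.b D.z <;> by_cases h3 : Om D.b 1 <;> by_cases h4 : Om 1 D.b <;>
      simp [h1, h2, h3, h4] at p1 p2 a1 a2 ⊢
  have rep : ∀ v ∈ D.V, v = 1 ∨ (∃ n ∈ 𝐍(D.V), n * v * n⁻¹ = D.z) ∨ D.B v ∧ ∃ n ∈ 𝐍(D.V), n * v * n⁻¹ = D.b :=
    fun v hv => (em (v = 1)).imp_right fun h => (F.inv v (F.sqV v hv) h).imp
      (fun c => let ⟨n, hn, d⟩ := F.trA v hv c; ⟨n⁻¹, inv_mem hn, by rw [← d]; group⟩)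
      fun c => ⟨c, let ⟨n, hn, d⟩ := F.trB v hv c; ⟨n⁻¹, inv_mem hn, by rw [← d]; group⟩⟩
  have O4 : ∀ c c', Om c c' → c' = 1 ∨ c = 1 ∧ D.B c' := fun c c' h => by
    rcases rep c' (OV _ _ h).2 with d | ⟨n', hn', d⟩ | ⟨hB, n', hn', d⟩
    · exact .inl d
    · rcases rep c (OV _ _ h).1 with d' | ⟨n, hn, d'⟩ | ⟨-, n, hn, d'⟩
      · exact absurd (by simpa [d, d'] using On _ _ 1 (one_mem _) n' hn' h) O2
      · exact absurd (by simpa only [d, d'] using On _ _ n hn n' hn' h) (dg D.z)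
      · exact absurd (d ▸ d' ▸ On _ _ n hn n' hn' h) O3.2
    · rcases rep c (OV _ _ h).1 with d' | ⟨n, hn, d'⟩ | ⟨-, n, hn, d'⟩
      · exact .inr ⟨d', hB⟩
      · exact absurd (d ▸ d' ▸ On _ _ n hn n' hn' h) O3.1
      · exact absurd (by simpa only [d, d'] using On _ _ n hn n' hn' h) (dg D.b)
  have O5 : ∀ c c', Om c c' → c' = 1 := fun c c' hO => by
    refine (O4 _ _ hO).elim id fun ⟨c1, hB⟩ => False.elim ?_
    obtain ⟨k, hk, d⟩ := hO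
    subst c1
    have k1 : ∀ v ∈ D.V, ∃ a, k * Ψ (v, 1) * k⁻¹ = Ψ (1, a) := fun v hv => by
      have hv' := F.vsG hv
      clear hv
      induction hv' using closure_induction with
      | mem v hv =>
        obtain ⟨h1, h2, h3⟩ := F.vsV v hv
        obtain ⟨a, -, a', -, d1⟩ := ex k hk v h1
        have d2 : k * Ψ (D.z * v, 1) * k⁻¹ = Ψ (a, c' * a') := by
          rw [← one_mul a, ← mu, ← d, ← d1, conj_mul, mu, mul_one]
        rcases O4 _ _ (Oc k hk (OA v h1 h2) d1) with r | ⟨r, -⟩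
        · rcases O4 _ _ (Oc k hk (OA _ (mul_mem F.zV h1) h3) d2) with r' | ⟨r', -⟩
          · exact absurd (by rwa [r, mul_one] at r') (F.B1 hB)
          · exact ⟨a', r' ▸ d1⟩
        · exact ⟨a', r ▸ d1⟩
      | one => exact ⟨1, by rw [Prod.mk_one_one, map_one]; group⟩
      | mul x y _ _ hx hy =>
        obtain ⟨a, ha⟩ := hx
        obtain ⟨b, hb⟩ := hy
        exact ⟨a * b, by rw [← one_mul (1 : X), ← mu, ← mu, ← ha, ← hb, conj_mul]⟩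
      | inv x _ hx =>
        obtain ⟨a, ha⟩ := hx
        exact ⟨a⁻¹, by rw [← inv_one, ← Prod.inv_mk, ← Prod.inv_mk, map_inv, map_inv, ← ha]; group⟩
    choose! f hf using k1
    have := Set.ncard_le_ncard_of_injOn (s := {v | v ∈ D.V ∧ D.A v}) (t := {v | v ∈ D.V ∧ D.B v}) f
      (fun v hv => by
        have o := Oc k hk (OA v hv.1 hv.2) (hf v hv.1)
        exact ⟨(OV _ _ o).2, (O4 _ _ o).elim (fun r => absurd (r ▸ o) (dg 1)) And.right⟩)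
      fun v hv w hw r => congrArg Prod.fst (e.inj (a₁ := (v, 1)) (a₂ := (w, 1))
        (mul_left_cancel (mul_right_cancel ((hf v hv.1).trans (r ▸ hf w hw.1).symm))))
    rw [F.nA, F.nB] at this
    omega
  have hv' := F.vsG hv
  clear hv
  induction hv' using closure_induction with
  | mem v hv =>
    obtain ⟨a, -, a', -, d1⟩ := ex h hh v (F.vsV v hv).1
    exact ⟨a, O5 _ _ (Oc h hh (OA v (F.vsV v hv).1 (F.vsV v hv).2.1) d1) ▸ d1⟩
  | one => exact ⟨1, by rw [Prod.mk_one_one, map_one]; group⟩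
  | mul x y _ _ hx hy =>
    obtain ⟨a, ha⟩ := hx
    obtain ⟨b, hb⟩ := hy
    exact ⟨a * b, by rw [← one_mul (1 : X), ← mu, ← mu, ← ha, ← hb, conj_mul]⟩
  | inv x _ hx =>
    obtain ⟨a, ha⟩ := hx
    exact ⟨a⁻¹, by rw [← inv_one, ← Prod.inv_mk, ← Prod.inv_mk, map_inv, map_inv, ← ha]; group⟩

end End2

open End2

theorem En.cl_inv (F : Fa D) {t : G} {Ψ : X × X →* G} {G0 : Subgroup G} (e : En D t Ψ G0) :
    Cl D Ψ G0 fun x => x * x = 1 := by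
  intro x _ hx g hg y1 _ y2 _ c
  have s : (y1 * y1, y2 * y2) = (1, 1) :=
    e.inj (by rw [← mu, ← c, conj_mul, mu, hx, mul_one, Prod.mk_one_one, map_one]; group)
  obtain ⟨j0, h0⟩ := F.toV hx
  obtain ⟨j1, h1⟩ := F.toV (congrArg Prod.fst s)
  obtain ⟨j2, h2⟩ := F.toV (congrArg Prod.snd s)
  have c' : Ψ (j1, j2) * g * (Ψ (j0, 1))⁻¹ * Ψ (j0 * x * j0⁻¹, 1) * (Ψ (j1, j2) * g * (Ψ (j0, 1))⁻¹)⁻¹ =
      Ψ (j1 * y1 * j1⁻¹, j2 * y2 * j2⁻¹) := by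
    rw [← cj, ← c, show Ψ (j0 * x * j0⁻¹, 1) = Ψ (j0, 1) * Ψ (x, 1) * (Ψ (j0, 1))⁻¹ by rw [cj]; simp]
    group
  obtain ⟨h, hh, hn, d⟩ := wc_fus e.syl (map_mono (prod_mono F.VT F.VT)) (fun _ _ => wc F e)
    (mul_mem (mul_mem (e.le _) hg) (inv_mem (e.le _))) (cm F h0 (one_mem _)) (c' ▸ cm F h1 h2)
  rw [c'] at d
  obtain ⟨w, hw⟩ := key F e ⟨hh, hn⟩ h0
  simpa using congrArg Prod.snd (e.inj (d.symm.trans hw))

end H59.SJ
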