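import Mathlib
import Cfsg.Agent.Base
import Cfsg.Agent.Lib.StdJ.Th
import Cfsg.Agent.Lib.Comp.Component
import Cfsg.Agent.Lib.Core.PCore
import Cfsg.Agent.S2767
import Cfsg.Prelude.Def_Local

set_option autoImplicit false
set_option linter.unusedSectionVars false

namespace H59.SJ

open Subgroup H69 H36.SW
open scoped commutatorElement

variable {X : Type} [Group X] [Finite X] {G : Type*} [Group G] [Finite G] {D : Dt X}

/-- a central involution in the derived group lies in the derived group of a Sylow subgroup -/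
theorem End3.tr {Y P J : Subgroup G} (hP : IsSylowIn 2 P Y) {y : G} (hy : y ∈ Y) (hc : ∀ g ∈ Y, y * g = g * y)
    (y2 : y * y = 1) (hJ : ∀ p ∈ P, ∀ q ∈ P, ⁅p, q⁆ ∈ J) (hd : y ∈ ⁅Y, Y⁆) : y ∈ J := by
  let τ := MonoidHom.transfer (Abelianization.of (G := P.subgroupOf Y))
  have h1 : ⁅Y, Y⁆ ≤ τ.ker.map Y.subtype := commutator_le.2 fun a ha b hb => ⟨⁅(⟨a, ha⟩ : Y), ⟨b, hb⟩⁆, by
    rw [SetLike.mem_coe, MonoidHom.mem_ker, map_commutatorElement]
    exact commutatorElement_eq_one_iff_mul_comm.2 (mul_comm _ _), rfl⟩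
  obtain ⟨⟨y, hy'⟩, h2, rfl⟩ := h1 hd
  have h3 := MonoidHom.transfer_eq_pow (Abelianization.of (G := P.subgroupOf Y)) ⟨y, hy'⟩
    fun m g _ => by
      rw [mul_assoc, inv_mul_eq_iff_eq_mul]
      exact (Commute.pow_left (Subtype.ext (hc g g.2)) m).eq
  have h4 := (QuotientGroup.eq_one_iff _).1 (h3.symm.trans h2)
  have h5 : commutator (P.subgroupOf Y) ≤ (J.comap Y.subtype).comap (P.subgroupOf Y).subtype :=
    commutator_le.2 fun p _ q _ => hJ _ p.2 _ q.2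
  obtain ⟨m, hm⟩ := Nat.odd_iff.2 (Nat.two_dvd_ne_zero.1 hP.not_dvd_relIndex)
  have h6 : y ^ (P.subgroupOf Y).index ∈ J := h5 h4
  rw [show (P.subgroupOf Y).index = 2 * m + 1 from hm, pow_succ, pow_mul, pow_two] at h6
  simpa [show y * y = 1 from y2] using h6

theorem En.cl_all {t : G} {Ψ : X × X →* G} {G0 : Subgroup G} (F : Fa D) (e : En D t Ψ G0)
    (h : Cl D Ψ G0 fun x => x * x = 1) : Cl D Ψ G0 fun _ => True := by
  let R := Ψ.comp (MonoidHom.inr X X)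
  let L := Ψ.comp (MonoidHom.inl X X)
  have Ri : Function.Injective R := fun a b c => congrArg Prod.snd (e.inj c)
  have mu : ∀ a b c d, Ψ (a, b) * Ψ (c, d) = Ψ (a * c, b * d) := fun _ _ _ _ => (map_mul Ψ _ _).symm
  let J := (D.V ⊔ D.V).map R
  have JT : J ≤ (D.T.prod D.T).map Ψ := by
    rintro _ ⟨y, hy, rfl⟩
    exact En.memT.2 ⟨1, one_mem _, y, sup_le F.VT F.VT hy, rfl⟩
  have wc1 : ∀ V ≤ D.T, (∀ v ∈ V, v * v = 1) → Nat.card V = 2048 → ∀ g ∈ G0, V.map R ^ᶜ g ≤ (D.T.prod D.T).map Ψ →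
      V.map R ^ᶜ g ≤ J := fun V hV h2 hc g hg l => by
    have k : ∀ x ∈ V.map R ^ᶜ g, x * x = 1 ∧ ∃ y ∈ D.T, R y = x := fun x hx => by
      obtain ⟨y1, h1, y2, h3, c⟩ := En.memT.1 (l hx)
      obtain ⟨_, ⟨v, hv, rfl⟩, rfl⟩ := mem_cj'.1 hx
      exact ⟨cjsq (by rw [← map_mul, h2 v hv, map_one]) g, y2, h3,
        by rw [c, e.cl2 h (hV hv) (h2 v hv) hg h1 h3 c]; rfl⟩
    have m : ((V.map R ^ᶜ g).comap R).map R = V.map R ^ᶜ g :=
      map_comap_eq_self fun x hx => let ⟨y, _, c⟩ := (k x hx).2; ⟨y, c⟩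
    rw [← m]
    refine map_mono ?_
    rw [F.ea (E := (V.map R ^ᶜ g).comap R) (fun y hy => let ⟨_, h', c⟩ := (k _ hy).2; Ri c ▸ h')
      (fun y hy => Ri (by rw [map_mul, (k _ hy).1, map_one]))
      (by rw [← card_map_of_injective Ri, m, card_cj, card_map_of_injective Ri, hc])]
    exact le_sup_left
  have wc : ∀ g ∈ G0, J ^ᶜ g ≤ (D.T.prod D.T).map Ψ → J ^ᶜ g = J := fun g hg l => cj_eq_of_cj_le (by
    have m : J ^ᶜ g = D.V.map R ^ᶜ g ⊔ D.V.map R ^ᶜ g := by rw [← cj_sup, ← Subgroup.map_sup]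
    rw [m] at l ⊢
    exact sup_le (wc1 _ F.VT F.sqV F.cV g hg (le_sup_left.trans l))
      (wc1 _ F.VT F.sqV F.cV g hg (le_sup_right.trans l)))
  let Y := G0 ⊓ 𝐂(J)
  have nY : ∀ g ∈ G0, g ∈ 𝐍(J) → g ∈ 𝐍(Y) := fun g hg hn =>
    le_normalizer_inf (L := G0 ⊓ 𝐍(J)) (le_normalizer_of_le inf_le_left) (le_normalizer_centralizer inf_le_right)
      ⟨hg, hn⟩
  have sY := e.syl.inf_of_le_normalizer (N := Y) inf_le_left fun g hg => nY g (e.syl.le hg) (by
    obtain ⟨a, -, c, hc, rfl⟩ := En.memT.1 hg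
    refine mem_normalizer_of_cj_le fun x hx => ?_
    obtain ⟨_, ⟨y, hy, rfl⟩, rfl⟩ := mem_cj'.1 hx
    exact ⟨_, conj_mem_of_mem_normalizer (le_normalizer_sup F.nV F.nV hc) hy, by
      rw [← map_inv]; show Ψ (1, _) = Ψ (a, c) * Ψ (1, y) * Ψ (a⁻¹, c⁻¹); rw [mu, mu]; simp⟩)
  have cm : ∀ a u, u ∈ D.V → u ∈ D.V → ∀ x ∈ J, x * Ψ (a, u) = Ψ (a, u) * x := by
    rintro a u h1 h2 _ ⟨y, hy, rfl⟩
    have : y ∈ centralizer {u} := sup_le (a := D.V) (b := D.V) (c := centralizer {u})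
      (fun v hv => mem_centralizer_singleton_iff.2 (F.cm hv h1))
      (fun v hv => mem_centralizer_singleton_iff.2 (F.cm hv h2)) hy
    show Ψ (1, y) * _ = _ * Ψ (1, y)
    rw [mu, mu, mem_centralizer_singleton_iff.1 this, one_mul, mul_one]
  have LY : ∀ a, Ψ (a, 1) ∈ ⁅Y, Y⁆ := fun a => by
    have l : (⊤ : Subgroup X).map L ≤ Y := by
      rintro _ ⟨a, -, rfl⟩
      exact ⟨e.le _, cm a 1 (one_mem _) (one_mem _)⟩
    refine commutator_mono l l ?_
    rw [← map_commutator, ← commutator_def, F.perf]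
    exact ⟨a, mem_top a, rfl⟩
  have key : ∀ k, Cl D Ψ G0 fun x => x ^ 2 ^ k = 1 := fun k => by
    induction k with
    | zero =>
      intro x _ hx g _ y1 _ y2 _ c
      rw [show x = 1 by simpa using hx, show ((1, 1) : X × X) = 1 from rfl, map_one, mul_one, mul_inv_cancel,
        ← map_one Ψ] at c
      exact (congrArg Prod.snd (e.inj c)).symm
    | succ k ih =>
      intro x hx hk g hg y1 h1 y2 h2 c
      have s2 : y2 * y2 = 1 := ih (x * x) (mul_mem hx hx) (show _ ^ _ = _ by rw [← pow_two, ← pow_mul, ← pow_succ', hk]) g hg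
        _ (mul_mem h1 h1) _ (mul_mem h2 h2) (by rw [← mu y1, ← c, conj_mul, mu, mul_one])
      by_contra n1
      obtain ⟨u, u1, u2, j, rfl⟩ : ∃ u, u ∈ D.V ∧ u ∈ D.V ∧ ∃ j, j * u * j⁻¹ = y2 :=
        (F.inv y2 s2 n1).elim (fun c => ⟨_, F.zV, F.zV, c⟩) fun c => ⟨_, F.bV, F.bV, c⟩
      have c' : Ψ (1, j⁻¹) * g * Ψ (x, 1) * (Ψ (1, j⁻¹) * g)⁻¹ = Ψ (y1, u) := by
        calc _ = Ψ (1, j⁻¹) * (g * Ψ (x, 1) * g⁻¹) * Ψ (1, j⁻¹)⁻¹ := by rw [map_inv]; group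
          _ = _ := by rw [c, ← map_mul, ← map_mul]; congr 1; ext <;> simp [mul_assoc]
      obtain ⟨l, hl, ln, c2⟩ := wc_fus e.syl JT wc (mul_mem (e.le (1, j⁻¹)) hg) (cm x 1 (one_mem _) (one_mem _))
        (c'.symm ▸ cm y1 u u1 u2)
      have m : Ψ (1, u) ∈ ⁅Y, Y⁆ := by
        have := mul_mem (LY y1⁻¹) (conj_mem_of_mem_normalizer
          (le_normalizer_commutator (L := 𝐍(Y)) le_rfl le_rfl (nY l hl ln)) (LY x))
        rwa [c2, c', mu, inv_mul_cancel, one_mul] at this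
      obtain ⟨a, ha⟩ := End3.tr (J := L.range) sY ⟨e.le _, cm 1 u u1 u2⟩
        (fun g hg => hg.2 _ ⟨u, mem_sup_left u1, rfl⟩) (by rw [mu, F.sqV u u1, one_mul]; exact map_one Ψ)
        (fun p hp q hq => by
          have k : ∀ p ∈ (D.T.prod D.T).map Ψ ⊓ Y, ∃ a, ∃ c ∈ D.V, p = Ψ (a, c) := fun p hp => by
            obtain ⟨a, -, c, -, rfl⟩ := En.memT.1 hp.1
            refine ⟨a, c, F.ceV c fun v hv => ?_, rfl⟩
            have : Ψ (1, v) * _ = _ * Ψ (1, v) := hp.2.2 _ ⟨v, mem_sup_left hv, rfl⟩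
            rw [mu, mu] at this
            exact (congrArg Prod.snd (e.inj this)).symm
          obtain ⟨a, c, hc, rfl⟩ := k p hp
          obtain ⟨a', c', hc', rfl⟩ := k q hq
          refine ⟨⁅a, a'⁆, ?_⟩
          rw [← map_commutatorElement]
          exact congrArg Ψ (Prod.ext rfl (commutatorElement_eq_one_iff_mul_comm.2 (F.cm hc hc')).symm)) m
      exact n1 (by rw [← show 1 = u from congrArg Prod.snd (e.inj ha)]; group)
  intro x hx _
  obtain ⟨k, hk⟩ := F.P2T hx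
  exact key k x hx hk

theorem En.fin {t : G} {Ψ : X × X →* G} {G0 : Subgroup G} (F : Fa D) (hO : Cfsg.oddCore G = ⊥) (e : En D t Ψ G0)
    (h : Cl D Ψ G0 fun _ => True) : normalClosure (Set.range fun x => Ψ (x, x)) = Ψ.range := by
  let R := Ψ.comp (MonoidHom.inr X X)
  let L := Ψ.comp (MonoidHom.inl X X)
  have Ri : Function.Injective R := fun a b c => congrArg Prod.snd (e.inj c)
  have Li : Function.Injective L := fun a b c => congrArg Prod.fst (e.inj c)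
  have mu : ∀ a b c d, Ψ (a, b) * Ψ (c, d) = Ψ (a * c, b * d) := fun _ _ _ _ => (map_mul Ψ _ _).symm
  haveI := e.n0
  have odd : ∀ N : Subgroup G, N.IsSubnormal → (Nat.card N).Coprime 2 → N = ⊥ := fun N hN hc =>
    eq_bot_iff.2 ((H1.le_pPrimeCore_of_isSubnormal hN hc).trans hO.le)
  have bot : ∀ N P : Subgroup G, N.IsSubnormal → IsSylowIn 2 P N → P ≤ ⊥ → N = ⊥ := fun N P hN hP hb =>
    odd N hN (Nat.prime_two.coprime_iff_not_dvd.2 fun c => hP.dvd_card_iff.1 c (eq_bot_iff.2 hb)).symm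
  have sub : ∀ N ≤ G0, G0 ≤ 𝐍(N) → N.IsSubnormal := fun N h1 h2 =>
    H23.isSubnormal_of_le_normalizer e.n0.isSubnormal h1 h2
  have T1 : D.T.map L ≤ G0 := by rintro _ ⟨x, -, rfl⟩; exact e.le _
  have T2 : D.T.map R ≤ G0 := by rintro _ ⟨x, -, rfl⟩; exact e.le _
  let X1 := ncl (D.T.map L) G0
  let X2 := ncl (D.T.map R) G0
  have cc : ⁅X1, X2⁆ = ⊥ := by
    obtain ⟨S, hS⟩ := e.syl.exists_sylow_subgroupOf
    have := Cfsg.Agent.S2767.result S ((D.T.map L).subgroupOf G0) ((D.T.map R).subgroupOf G0)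
      (hS ▸ ⟨by rintro _ ⟨x, hx, c⟩; exact En.memT.2 ⟨x, hx, 1, one_mem _, c.symm⟩, fun x ⟨a, ha, c⟩ g hg => by
        obtain ⟨y1, h1, y2, h2, c'⟩ := En.memT.1 hg
        have c2 : g * Ψ (a, 1) * (g : G)⁻¹ = Ψ (y1, y2) := (congrArg (fun w => g * w * (g : G)⁻¹) c).trans c'
        exact ⟨y1, h1, by rw [c', h a ha trivial g g.2 y1 h1 y2 h2 c2]; rfl⟩⟩)
      (hS ▸ ⟨by rintro _ ⟨x, hx, c⟩; exact En.memT.2 ⟨1, one_mem _, x, hx, c.symm⟩, fun x ⟨a, ha, c⟩ g hg => by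
        obtain ⟨y1, h1, y2, h2, c'⟩ := En.memT.1 hg
        have c2 : g * Ψ (1, a) * (g : G)⁻¹ = Ψ (y1, y2) := (congrArg (fun w => g * w * (g : G)⁻¹) c).trans c'
        exact ⟨y2, h2, by rw [c', e.cl2 h ha trivial g.2 h1 h2 c2]; rfl⟩⟩)
      (fun x ⟨a, _, c⟩ y ⟨b, _, c'⟩ => Subtype.ext (by
        show G0.subtype x * G0.subtype y = G0.subtype y * G0.subtype x
        rw [← c, ← c']; exact (mu a 1 1 b).trans (Eq.trans (by simp) (mu 1 b a 1).symm)))
    have b1 : (D.T.map L).subgroupOf G0 ⊓ (D.T.map R).subgroupOf G0 = ⊥ :=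
      eq_bot_iff.2 fun x ⟨⟨a, _, c⟩, b, _, c'⟩ => Subtype.ext (by
        rw [show a = 1 from congrArg Prod.fst (e.inj (c.trans c'.symm)), map_one] at c
        exact c.symm)
    have b2 : Cfsg.pPrimeCore 2 G0 = ⊥ := map_subtype_eq_bot_iff.1 (odd _
      (sub _ (map_subtype_le _) (normal_iff_le_normalizer_map.1 inferInstance))
      (by rw [card_map_subtype]; exact H1.coprime_card_pPrimeCore))
    rw [b1, b2, coe_bot, sup_bot_eq, normalClosure_eq_bot_iff.2 subset_rfl, le_bot_iff] at this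
    show ⁅ncl _ _, ncl _ _⁆ = ⊥
    rw [← map_normalClosure_subgroupOf T1, ← map_normalClosure_subgroupOf T2, ← map_commutator, this,
      Subgroup.map_bot]
  have cm : ∀ x ∈ X1, ∀ y ∈ X2, x * y = y * x := fun x hx y hy =>
    (le_centralizer_of_commutator_eq_bot cc hx y hy).symm
  have sw : ∀ A : Subgroup X, A.map L ^ᶜ t = A.map R := fun A => by
    rw [Subgroup.map_map]
    congr 1
    exact MonoidHom.ext fun x => by
      show t * Ψ (x, 1) * t⁻¹ = Ψ (1, x)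
      rw [e.ti, e.sw]
  have x12 : X1 ^ᶜ t = X2 := by rw [cj_ncl, sw, cj_eq_of_normal]
  have t12 : ∀ x ∈ X1, t * x * t ∈ X2 := fun x hx => by
    have := cj_mem t hx
    rwa [x12, e.ti] at this
  have LX : ∀ x, Ψ (x, 1) ∈ X1 := fun x => by
    haveI := F.simple
    have n : (X1.comap L).Normal := ⟨fun a ha g => by
      rw [mem_comap, map_mul, map_mul, map_inv]
      exact conj_mem_of_mem_normalizer (le_normalizer_ncl _ _ (e.le _)) ha⟩
    exact (n.eq_bot_or_eq_top.resolve_left fun c => F.z1 (mem_bot.1 (c.le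
      (le_ncl (D.T.map L) G0 ⟨_, F.zT, rfl⟩)))).ge (mem_top x)
  have RX : ∀ x, Ψ (1, x) ∈ X2 := fun x => e.sw x 1 ▸ t12 _ (LX x)
  have s1 : X1.IsSubnormal := sub _ (ncl_le_self T1) (le_normalizer_ncl _ _)
  have tt : ∀ x : G, t * (t * x) = x := fun x => by rw [← mul_assoc, e.t2, one_mul]
  let π : X1 →* G := MonoidHom.mk' (fun x => x * (t * x * t)) fun x y => by
    calc _ = x * (y * (t * x * t)) * (t * y * t) := by simp only [coe_mul, mul_assoc, tt]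
      _ = _ := by rw [cm _ y.2 _ (t12 _ x.2)]; simp only [mul_assoc]
  let Δ := Ψ.comp ((MonoidHom.id X).prod (MonoidHom.id X))
  have pc : ∀ x, ∃ k ∈ 𝐂(Δ.range), ∃ l, π x = k * Ψ (l, l) := fun x => by
    obtain ⟨k, l, c, c'⟩ := e.cen (π x) (by
      show x * (t * x * t) * t = t * (x * (t * x * t))
      rw [cm _ x.2 _ (t12 _ x.2)]
      nth_rewrite 1 [← cm _ x.2 _ (t12 _ x.2)]
      simp only [mul_assoc, tt, e.t2, mul_one])
    exact ⟨k, by rintro _ ⟨y, rfl⟩; exact c' y, l, c⟩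
  have pL : ∀ l, π ⟨_, LX l⟩ = Ψ (l, l) := fun l => by
    show Ψ (l, 1) * (t * Ψ (l, 1) * t) = _
    rw [e.sw, mu, mul_one, one_mul]
  have nY : ((𝐂(Δ.range)).comap π).Normal := ⟨fun w hw x => by
    rw [mem_comap, map_mul, map_mul, map_inv]
    obtain ⟨k, hk, l, c⟩ := pc x
    exact conj_mem_of_mem_normalizer (normalizer_le_normalizer_centralizer _ (c ▸ mul_mem
      (centralizer_le_normalizer _ hk) (le_normalizer ⟨l, rfl⟩))) hw⟩
  have c2 : ∀ a c, (∀ y, Ψ (1, y) * Ψ (a, c) = Ψ (a, c) * Ψ (1, y)) → c = 1 := fun a c k => F.cen1 fun y =>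
    congrArg Prod.snd (e.inj ((mu ..).symm.trans ((k y).trans (mu ..))))
  have yb := bot _ _ (H23.isSubnormal_of_le_normalizer s1 (map_subtype_le _) (normal_iff_le_normalizer_map.1 nY))
    ((e.syl.inf_normal (ncl_le_self T1) (le_normalizer_ncl _ _)).inf_normal (map_subtype_le _)
      (normal_iff_le_normalizer_map.1 nY)) (by
      rintro _ ⟨⟨h1, -⟩, ⟨x, h3⟩, hx, rfl⟩
      obtain ⟨a, -, c, -, rfl : x = _⟩ := En.memT.1 h1
      obtain rfl := c2 a c fun y => (cm _ h3 _ (RX y)).symm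
      have : a = 1 := F.cen1 fun y => by
        have : Ψ (y, y) * π ⟨_, LX a⟩ = π ⟨_, LX a⟩ * Ψ (y, y) := hx _ ⟨y, rfl⟩
        rw [pL, mu, mu] at this
        exact congrArg Prod.fst (e.inj this)
      subst this
      exact map_one Ψ)
  have e1 : X1 = (⊤ : Subgroup X).map L := le_antisymm (fun x hx => by
    obtain ⟨k, hk, l, c⟩ := pc ⟨x, hx⟩
    refine ⟨l, mem_top l, (mul_inv_eq_one.1 (mem_bot.1 (yb.le ⟨⟨x, hx⟩ * ⟨_, LX l⟩⁻¹, ?_, rfl⟩))).symm⟩
    rwa [SetLike.mem_coe, mem_comap, map_mul, map_inv, pL, c, mul_inv_cancel_right])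
    (by rintro _ ⟨x, -, rfl⟩; exact LX x)
  have e2 : X2 = (⊤ : Subgroup X).map R := by rw [← x12, e1, sw]
  have n0 : ∀ g ∈ G0, ∀ x ∈ Ψ.range, g * x * g⁻¹ ∈ Ψ.range := by
    rintro g hg _ ⟨⟨x, y⟩, rfl⟩
    obtain ⟨a, -, ha⟩ := e1.le (conj_mem_of_mem_normalizer (le_normalizer_ncl _ _ hg) (LX x))
    obtain ⟨b, -, hb⟩ := e2.le (conj_mem_of_mem_normalizer (le_normalizer_ncl _ _ hg) (RX y))
    refine ⟨(a, 1) * (1, b), ?_⟩
    rw [map_mul, show Ψ (a, 1) = _ from ha, show Ψ (1, b) = _ from hb, conj_mul, mu, mul_one, one_mul]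
  have nt : ∀ x ∈ Ψ.range, t * x * t ∈ Ψ.range := by
    rintro _ ⟨⟨x, y⟩, rfl⟩
    exact ⟨_, (e.sw x y).symm⟩
  haveI : Ψ.range.Normal := ⟨fun x hx g => (e.idx g).elim (fun c => n0 g c x hx) fun c => by
    have := n0 _ c _ (nt x hx)
    simpa only [mul_inv_rev, e.ti, mul_assoc, tt] using this⟩
  refine le_antisymm (normalClosure_le_normal (by rintro _ ⟨x, rfl⟩; exact ⟨_, rfl⟩)) ?_
  have k : ∀ x, L x ∈ normalClosure (Set.range fun x => Ψ (x, x)) := fun x =>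
    (commutator_le.2 fun a _ b _ => by
      have := mul_mem (normalClosure_normal.conj_mem _ (subset_normalClosure (s := Set.range fun x => Ψ (x, x)) ⟨b, rfl⟩) (Ψ (a, 1)))
        (inv_mem (subset_normalClosure (s := Set.range fun x => Ψ (x, x)) ⟨b, rfl⟩))
      rw [← map_inv, ← map_inv, Prod.inv_mk, Prod.inv_mk, mu, mu, mu] at this
      simpa [L, commutatorElement_def] using this : commutator X ≤ comap L (normalClosure (Set.range fun x => Ψ (x, x)))) (F.perf.ge (mem_top x))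
  rintro _ ⟨⟨x, y⟩, rfl⟩
  have := mul_mem (k (x * y⁻¹)) (subset_normalClosure ⟨y, rfl⟩)
  rwa [show L (x * y⁻¹) = Ψ (x * y⁻¹, 1) from rfl, mu, inv_mul_cancel_right, one_mul] at this

end H59.SJ
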