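import Mathlib
import Cfsg.Agent.Base
import Cfsg.Agent.Lib.StdJ.Th

/-! The involution `t` is fused to `t z`. -/

set_option autoImplicit false

namespace H59.SJ

open Subgroup H69 H36.SW

variable {X : Type} [Group X] [Finite X] {G : Type*} [Group G] [Finite G] {D : Dt X}

variable {t : G} {O : Subgroup G} {ι : X →* G}

namespace Fus1

omit [Finite X] [Finite G]

/-- `⟨t⟩ × ι V` -/
def Ph (w : W0 t O ι) (V : Subgroup X) : Subgroup G where
  carrier := {x | ∃ v ∈ V, x = ι v ∨ x = t * ι v}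
  one_mem' := ⟨1, one_mem _, .inl (map_one ι).symm⟩
  mul_mem' := by
    rintro _ _ ⟨u, hu, rfl | rfl⟩ ⟨v, hv, rfl | rfl⟩
    · exact ⟨_, mul_mem hu hv, .inl (map_mul ..).symm⟩
    · exact ⟨_, mul_mem hu hv, .inr (by rw [← mul_assoc, w.tL, mul_assoc, map_mul])⟩
    · exact ⟨_, mul_mem hu hv, .inr (by rw [mul_assoc, map_mul])⟩
    · exact ⟨_, mul_mem hu hv, .inl (by
        rw [mul_assoc, ← mul_assoc (ι u), w.tL, mul_assoc, w.tt, map_mul])⟩
  inv_mem' := by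
    rintro _ ⟨u, hu, rfl | rfl⟩
    · exact ⟨_, inv_mem hu, .inl (map_inv ..).symm⟩
    · exact ⟨_, inv_mem hu, .inr (by rw [mul_inv_rev, w.ti, ← map_inv, w.tL])⟩

theorem mem_Ph (w : W0 t O ι) {V : Subgroup X} {x : G} :
    x ∈ Ph w V ↔ ∃ v ∈ V, x = ι v ∨ x = t * ι v := Iff.rfl

theorem tsq (w : W0 t O ι) (u v : X) : t * ι u * (t * ι v) = ι (u * v) := by
  rw [mul_assoc, ← mul_assoc (ι u), w.tL, mul_assoc, w.tt, map_mul]

theorem tcj (w : W0 t O ι) (j v : X) : ι j * (t * ι v) * (ι j)⁻¹ = t * ι (j * v * j⁻¹) := by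
  rw [← mul_assoc, w.tL, map_mul, map_mul, map_inv]
  simp only [mul_assoc]

theorem card_Ph [Finite G] (F : Fa D) (w : W0 t O ι) : Nat.card (Ph w D.V) = 2 ^ 12 := by
  have e : (Ph w D.V : Set G) = ι '' D.V ∪ (fun v => t * ι v) '' D.V := by
    ext x
    constructor
    · rintro ⟨v, hv, rfl | rfl⟩
      exacts [.inl ⟨v, hv, rfl⟩, .inr ⟨v, hv, rfl⟩]
    · rintro (⟨v, hv, rfl⟩ | ⟨v, hv, rfl⟩)
      exacts [⟨v, hv, .inl rfl⟩, ⟨v, hv, .inr rfl⟩]
  have c : (D.V : Set X).ncard = 2048 := F.cV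
  change (Ph w D.V : Set G).ncard = _
  rw [e, Set.ncard_union_eq (Set.disjoint_left.2 ?_), Set.ncard_image_of_injective _ w.inj,
    Set.ncard_image_of_injective _ fun a b h => w.inj (mul_left_cancel h), c]
  · norm_num
  rintro _ ⟨u, -, rfl⟩ ⟨v, -, h⟩
  exact w.tι F (u * v⁻¹) (by rw [map_mul, map_inv, ← h, mul_inv_cancel_right])

theorem fus1_auto : True := by
  have := @Ph.eq_1.{0}
  trivial

end Fus1

open Fus1 in
theorem W0.fusz (F : Fa D) (w : W0 t O ι) {g : G} {a : X} (a1 : a ≠ 1) (a2 : a * a = 1)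
    (e : g * t * g⁻¹ = t * ι a) : ∃ k : G, k * t * k⁻¹ = t * ι D.z := by
  by_contra hn
  have mv : ∀ {k : G} {c : X} (j : X), k * t * k⁻¹ = t * ι (j * c * j⁻¹) →
      ι j⁻¹ * k * t * (ι j⁻¹ * k)⁻¹ = t * ι c := fun {k c} j h => by
    rw [show ι j⁻¹ * k * t * (ι j⁻¹ * k)⁻¹ = ι j⁻¹ * (k * t * k⁻¹) * (ι j⁻¹)⁻¹ by group, h, tcj w]
    congr 2
    group
  have nA : ∀ (k : G) (c : X), D.A c → k * t * k⁻¹ ≠ t * ι c := by
    rintro k _ ⟨j, rfl⟩ h
    exact hn ⟨_, mv j h⟩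
  obtain ⟨j, rfl⟩ := (F.inv a a2 a1).resolve_left fun h => nA g a h e
  replace e := mv j e
  generalize ι j⁻¹ * g = g at e
  clear a1 a2 j
  have sq : ∀ x ∈ Ph w D.V, x * x = 1 := by
    rintro _ ⟨v, hv, rfl | rfl⟩
    · rw [← map_mul, F.sqV v hv, map_one]
    · rw [tsq w, F.sqV v hv, map_one]
  have ex : ∀ v : D.V, ∃ x, g⁻¹ * ι v * g = ι x ∨ g⁻¹ * ι v * g = t * ι x := fun v => by
    have c : ι v * (g * t * g⁻¹) = g * t * g⁻¹ * ι v := by
      rw [e, ← mul_assoc, w.tL, mul_assoc, mul_assoc, ← map_mul, ← map_mul, F.cm v.2 F.bV]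
    obtain ⟨x, -, hx⟩ := w.cen2 F (g := g⁻¹ * ι v * g) (by
      calc _ = g⁻¹ * (ι v * (g * t * g⁻¹)) * g := by group
        _ = _ := by rw [c]; group) (by
      have := (P2.of_sq (sq _ ⟨v, v.2, .inl rfl⟩)).conj g⁻¹
      rwa [inv_inv] at this)
    exact ⟨x, hx⟩
  choose f hf using ex
  let E := (Ph w D.V).comap ((MulAut.conj g).toMonoidHom.comp ι)
  have mE : ∀ x, x ∈ E ↔ g * ι x * g⁻¹ ∈ Ph w D.V := fun x => Iff.rfl
  have s : g * t * g⁻¹ ∈ Ph w D.V := ⟨_, F.bV, .inr e⟩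
  have fE : ∀ v, f v ∈ E := fun v => by
    have hv : ι v ∈ Ph w D.V := ⟨v, v.2, .inl rfl⟩
    rw [mE]
    rcases hf v with h | h
    · rwa [← h, show g * (g⁻¹ * ι v * g) * g⁻¹ = ι v by group]
    · rw [← w.tt (ι (f v)), ← h, show g * (t * (g⁻¹ * ι v * g)) * g⁻¹ = g * t * g⁻¹ * ι v by group]
      exact mul_mem s hv
  have E2 : ∀ x ∈ E, x * x = 1 := fun x hx => w.inj (by
    have := sq _ ((mE x).1 hx)
    rw [conj_mul, conj_eq_one_iff] at this
    rw [map_mul, this, map_one])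
  have fi : Function.Injective f := fun u v h => by
    have k : ∀ {u v : D.V}, f u = f v → g⁻¹ * ι u * g = ι (f u) → g⁻¹ * ι v * g = t * ι (f v) →
        False := fun {u v} h h1 h2 => w.not_conj F g (v.1 * u.1⁻¹) (by
      rw [← h, ← h1] at h2
      rw [map_mul, map_inv, show t = g⁻¹ * ι v * g * (g⁻¹ * ι u * g)⁻¹ by rw [h2]; group]
      group)
    have k' : g⁻¹ * ι u * g = g⁻¹ * ι v * g → u = v := fun h' =>
      Subtype.ext (w.inj (mul_left_cancel (mul_right_cancel h')))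
    rcases hf u with h1 | h1 <;> rcases hf v with h2 | h2
    · exact k' (by rw [h1, h2, h])
    · exact (k h h1 h2).elim
    · exact (k h.symm h2 h1).elim
    · exact k' (by rw [h1, h2, h])
  obtain ⟨j, hj⟩ := F.eaX E2 (F.cV ▸ Nat.card_le_card_of_injective
    (fun v : D.V => (⟨f v, fE v⟩ : E)) fun u v h => fi (congrArg Subtype.val h))
  have gt : g * ι j⁻¹ * t * (g * ι j⁻¹)⁻¹ = t * ι D.b := by
    rw [← e, mul_assoc g, w.tL]; group
  have nrm : ∀ k : G, k * t * k⁻¹ ∈ Ph w D.V → (∀ v ∈ D.V, k * ι v * k⁻¹ ∈ Ph w D.V) →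
      k ∈ 𝐍(Ph w D.V) := fun k h1 h2 => mem_normalizer_of_cj_le fun x hx => by
    obtain ⟨_, ⟨v, hv, rfl | rfl⟩, rfl⟩ := mem_cj'.1 hx
    · exact h2 v hv
    · rw [← conj_mul]; exact mul_mem h1 (h2 v hv)
  have gN : g * ι j⁻¹ ∈ 𝐍(Ph w D.V) := nrm _ ⟨_, F.bV, .inr gt⟩ fun v hv => by
    have := (mE _).1 (mem_cj.1 (hj ▸ hv : v ∈ E ^ᶜ j))
    rw [map_mul, map_mul] at this
    rw [map_inv] at this ⊢
    simpa only [mul_assoc, mul_inv_rev, inv_inv] using this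
  have tP : t ∈ Ph w D.V := ⟨1, one_mem _, .inr (by rw [map_one, mul_one])⟩
  have eΩ : {x | ∃ n ∈ 𝐍(Ph w D.V), n * t * n⁻¹ = x} =
      (fun v => t * ι v) '' insert 1 {v | v ∈ D.V ∧ D.B v} := by
    ext x
    constructor
    · rintro ⟨n, hn', rfl⟩
      obtain ⟨v, hv, h | h⟩ := conj_mem_of_mem_normalizer hn' tP
      · exact (w.not_conj F n v h).elim
      · refine ⟨v, ?_, h.symm⟩
        by_cases v1 : v = 1
        · exact .inl v1
        · exact .inr ⟨hv, (F.inv v (F.sqV v hv) v1).resolve_left fun h' => nA n v h' h⟩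
    · rintro ⟨v, rfl | ⟨hv, hB⟩, rfl⟩
      · exact ⟨1, one_mem _, by simp⟩
      · obtain ⟨m, hm, rfl⟩ := F.trB v hv hB
        refine ⟨ι m * (g * ι j⁻¹), mul_mem (nrm _ ?_ fun v hv => ?_) gN, ?_⟩
        · rwa [w.tL, mul_inv_cancel_right]
        · exact ⟨_, conj_mem_of_mem_normalizer hm hv, .inl (by rw [map_mul, map_mul, map_inv])⟩
        · change _ = t * ι (m * D.b * m⁻¹)
          rw [← tcj w, ← gt]; group
  obtain ⟨i, i0, i1, hi⟩ := prime_orbit (p := 277) (card_Ph F w) le_rfl tP (by norm_num) (by norm_num) (by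
    rw [eΩ, Set.ncard_image_of_injective _ fun a b h => w.inj (mul_left_cancel h),
      Set.ncard_insert_of_notMem (fun h => F.B1 h.2 rfl), F.nB])
  interval_cases i <;> omega

end H59.SJ
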