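import Mathlib
import Cfsg.Agent.Base
import Cfsg.Agent.Lib.StdJ.Th

/-! The first half of `z`. -/

set_option autoImplicit false

namespace H59.SJ

open Subgroup H69 H36.SW

variable {X : Type} [Group X] [Finite X] {G : Type*} [Group G] [Finite G] {D : Dt X}

namespace Fus2

/-- `g` moves `t` to `t z` and centralises `ι C(z)` -/
structure Mv (D : Dt X) (t : G) (ι : X →* G) (g : G) : Prop where
  mt : g * t * g⁻¹ = t * ι D.z
  cm : ∀ u ∈ D.H0, ι u * g = g * ι u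

variable {t : G} {O : Subgroup G} {ι : X →* G}

omit [Finite G] in
theorem exists_mv (F : Fa D) (H : Fh D) (w : W0 t O ι)
    {g : G} (e : g * t * g⁻¹ = t * ι D.z) : ∃ g, Mv D t ι g := by
  have key : ∀ g : G, g * t * g⁻¹ = t * ι D.z → ∀ u ∈ D.H0, ∃ x, g⁻¹ * ι u * g = ι x := by
    intro g e u hu
    refine w.pf_cj F H.pf ι (fun n hn => ?_) hu
    rw [e, ← mul_assoc, w.tL, mul_assoc, mul_assoc, ← map_mul, ← map_mul, H.H0z n hn]
  obtain ⟨a, ha⟩ := key g e D.z (H.VH0 F.zV)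
  have a2 : a * a = 1 := w.inj (by
    rw [map_mul, ← ha, map_one]
    calc _ = g⁻¹ * (ι D.z * ι D.z) * g := by group
      _ = 1 := by rw [← map_mul, F.z2, map_one]; group)
  have a1 : a ≠ 1 := fun h => cjne' (fun h' => F.z1 (w.inj (h'.trans (map_one ι).symm))) g
    (by rw [ha, h, map_one])
  obtain ⟨j, hj⟩ : D.A a := by
    refine (F.inv a a2 a1).resolve_right ?_
    rintro ⟨j, hj⟩
    choose! f hf using key g e
    refine absurd (Nat.card_le_card_of_injective (fun u : D.H0 => (⟨j⁻¹ * f u * j,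
      mem_centralizer_singleton_iff.2 ?_⟩ : centralizer {D.b})) fun u v h => ?_) (not_le.2 H.cb0)
    · have c : f u * a = a * f u := w.inj (by
        rw [map_mul, map_mul, ← hf u u.2, ← ha]
        calc _ = g⁻¹ * (ι u * ι D.z) * g := by group
          _ = _ := by rw [← map_mul, H.H0z u u.2, map_mul]; group)
      calc _ = j⁻¹ * (f u * (j * D.b * j⁻¹)) * j := by group
        _ = _ := by rw [hj, c, ← hj]; group
    · have h1 : f u = f v := by simpa using h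
      have h2 := hf u u.2
      rw [h1, ← hf v v.2] at h2
      exact Subtype.ext (w.inj (by simpa using h2))
  have tj : ∀ (g : G) (j : X), g * ι j * t * (g * ι j)⁻¹ = g * t * g⁻¹ := fun g j => by
    rw [mul_assoc g, w.tL]; group
  have e1 : g * ι j * t * (g * ι j)⁻¹ = t * ι D.z := by rw [tj, e]
  have z1 : (g * ι j)⁻¹ * ι D.z * (g * ι j) = ι D.z := by
    calc _ = (ι j)⁻¹ * (g⁻¹ * ι D.z * g) * ι j := by group
      _ = _ := by rw [ha, ← hj, map_mul, map_mul, map_inv]; group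
  generalize g * ι j = g1 at e1 z1
  choose! f hf using key g1 e1
  obtain ⟨k, kz, hk⟩ := H.autH f
    (fun u hu => w.inj (by
      rw [map_mul, map_mul, ← hf u hu]
      nth_rewrite 1 [← z1]
      nth_rewrite 2 [← z1]
      calc _ = g1⁻¹ * (ι u * ι D.z) * g1 := by group
        _ = _ := by rw [← map_mul, H.H0z u hu, map_mul]; group))
    (fun u hu v hv => w.inj (by
      rw [map_mul, ← hf u hu, ← hf v hv, ← hf (u * v) (mul_mem hu hv), map_mul]
      group))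
    (fun u hu h => w.inj (by
      have := hf u hu
      rw [h, map_one] at this
      rw [map_one]
      calc ι u = g1 * (g1⁻¹ * ι u * g1) * g1⁻¹ := by group
        _ = 1 := by rw [this]; group))
  · refine ⟨g1 * ι k, by rw [tj, e1], fun u hu => ?_⟩
    have := hf u hu
    rw [hk u hu, map_mul, map_mul, map_inv] at this
    calc _ = g1 * (g1⁻¹ * ι u * g1) * ι k := by group
      _ = _ := by rw [this]; group

omit [Finite X] in
theorem memO (F : Fa D) (H : Fh D) (w : W0 t O ι) {y : G} (yt : y * t = t * y)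
    (c : ∀ u ∈ D.H0, ι u * y = y * ι u) (od : Odd (orderOf y)) : y ∈ O := by
  obtain ⟨k, x, e, kc, hk⟩ := w.cen' yt
  have x2 : x * x = 1 := by
    rcases H.cH0 x fun u hu => w.comm_of kc (by rw [← e, c u hu]) with rfl | rfl
    · exact mul_one 1
    · exact F.z2
  have y2 : y * y = k * k := by
    rw [e]
    calc _ = k * (ι x * k) * ι x := by group
      _ = k * k * ι (x * x) := by rw [kc, map_mul]; group
      _ = _ := by rw [x2, map_one, mul_one]
  have hy : y * y ∈ O := by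
    rw [y2]
    rcases hk with hk | ⟨o, ho, rfl⟩
    · exact O.mul_mem hk hk
    · rw [mul_assoc, ← mul_assoc t, ← w.Ot o ho, mul_assoc, w.t2, mul_one]
      exact O.mul_mem ho ho
  obtain ⟨j, hj⟩ := od
  have h2 : y = ((y * y) ^ j)⁻¹ := by
    rw [← pow_two, ← pow_mul]
    exact eq_inv_of_mul_eq_one_right (by rw [← pow_succ, ← hj, pow_orderOf_eq_one])
  rw [h2]
  exact inv_mem (pow_mem hy j)

omit [Finite X] in
theorem Mv.nO (F : Fa D) (H : Fh D) (w : W0 t O ι) {g : G} (h : Mv D t ι g) {o : G} (ho : o ∈ O) : g * o * g⁻¹ ∈ O := by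
  have c : ∀ u ∈ D.H0, ι u * (g * o * g⁻¹) = g * o * g⁻¹ * ι u := by
    intro u hu
    have h1 : Commute (ι u) g := h.cm u hu
    have h2 : Commute (ι u) o := w.OL o ho u
    exact ((h1.mul_right h2).mul_right h1.inv_right).eq
  refine memO F H w ?_ c ?_
  · have h1 : g * o * g⁻¹ * (t * ι D.z) = t * ι D.z * (g * o * g⁻¹) := by
      rw [← h.mt]
      calc _ = g * (o * t) * g⁻¹ := by group
        _ = _ := by rw [w.Ot o ho]; group
    rw [mul_assoc t, c _ (H.VH0 F.zV), ← mul_assoc, ← mul_assoc] at h1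
    exact mul_right_cancel h1
  · rw [show orderOf (g * o * g⁻¹) = orderOf o from (MulAut.conj g).orderOf_eq o]
    exact w.oddO o ho

omit [Finite X] [Finite G] in
theorem inner (w : W0 t O ι) {c : G} (h : c * t = t * c) : ∃ o0 ∈ O, ∀ o ∈ O, c * o * c⁻¹ = o0 * o * o0⁻¹ := by
  obtain ⟨o0, h0, x, e | e⟩ := w.cen c h
  · refine ⟨o0, h0, fun o ho => ?_⟩
    rw [e, mul_assoc o0, w.OL o ho]; group
  · refine ⟨o0, h0, fun o ho => ?_⟩
    rw [e, mul_assoc (o0 * t), w.OL o ho, ← mul_assoc, mul_assoc o0, ← w.Ot o ho]; group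

omit [Finite X] [Finite G] in
theorem Mv.sq (F : Fa D) (H : Fh D) {g : G} (h : Mv D t ι g) : g * g * t = t * (g * g) := by
  have h1 := h.cm _ (H.VH0 F.zV)
  calc _ = g * (g * t * g⁻¹) * (g * g) * g⁻¹ := by group
    _ = g * (t * ι D.z) * (g * g) * g⁻¹ := by rw [h.mt]
    _ = g * t * g⁻¹ * (g * ι D.z) * g := by group
    _ = t * ι D.z * (ι D.z * g) * g := by rw [h.mt, ← h1]
    _ = t * (ι D.z * ι D.z) * (g * g) := by group
    _ = _ := by rw [← map_mul, F.z2, map_one, mul_one]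

omit [Finite X] in
theorem Mv.fix (F : Fa D) (H : Fh D) (w : W0 t O ι) {g : G} (h : Mv D t ι g) :
    ∃ g, Mv D t ι g ∧ ∀ o ∈ O, o * g = g * o := by
  have cj : ∀ n ∈ 𝐍(D.V), (ι n * g * (ι n)⁻¹) * t * (ι n * g * (ι n)⁻¹)⁻¹ = t * ι (n * D.z * n⁻¹) ∧
      (∀ u ∈ D.V, ι u * (ι n * g * (ι n)⁻¹) = ι n * g * (ι n)⁻¹ * ι u) ∧
      ∀ o ∈ O, (ι n * g * (ι n)⁻¹) * o * (ι n * g * (ι n)⁻¹)⁻¹ = g * o * g⁻¹ := by
    intro n hn
    refine ⟨?_, fun u hu => ?_, fun o ho => ?_⟩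
    · have h1 : (ι n)⁻¹ * t * ι n = t := by rw [mul_assoc, ← w.tL]; group
      calc _ = ι n * (g * ((ι n)⁻¹ * t * ι n) * g⁻¹) * (ι n)⁻¹ := by group
        _ = _ := by rw [h1, h.mt, ← mul_assoc, w.tL, map_mul, map_mul, map_inv]; group
    · have := h.cm (n⁻¹ * u * n) (H.VH0 (by simpa using Fa.cjV (inv_mem hn) hu))
      rw [map_mul, map_mul, map_inv] at this
      calc _ = ι n * ((ι n)⁻¹ * ι u * ι n * g) * (ι n)⁻¹ := by group
        _ = _ := by rw [this]; group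
    · have h1 : (ι n)⁻¹ * o * ι n = o := by rw [mul_assoc, ← w.OL o ho]; group
      calc _ = ι n * (g * ((ι n)⁻¹ * o * ι n) * g⁻¹) * (ι n)⁻¹ := by group
        _ = _ := by rw [h1, w.OL _ (h.nO F H w ho)]; group
  obtain ⟨v, hv, hA, hA'⟩ := F.exA
  have hv' := mul_mem F.zV hv
  obtain ⟨n, nN, hn⟩ := F.trA v hv hA
  obtain ⟨n', nN', hn'⟩ := F.trA _ hv' hA'
  obtain ⟨a1, a2, a3⟩ := cj n nN
  obtain ⟨b1, -, b3⟩ := cj n' nN'
  rw [hn] at a1
  rw [hn'] at b1
  generalize ι n * g * (ι n)⁻¹ = g' at a1 a2 a3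
  generalize ι n' * g * (ι n')⁻¹ = g'' at b1 b3
  have pt : g * g' * g'' * t = t * (g * g' * g'') := by
    have c1 := a2 _ hv'
    have c2 := h.cm _ (H.VH0 (mul_mem hv hv'))
    have c3 : ι D.z * ι (v * (D.z * v)) = 1 := by
      rw [← map_mul, ← mul_assoc, F.sqV _ hv', map_one]
    calc _ = g * g' * (g'' * t * g''⁻¹) * g'' := by group
      _ = g * (g' * t * g'⁻¹) * (g' * ι (D.z * v)) * g'' := by rw [b1]; group
      _ = (g * t * g⁻¹) * (g * ι (v * (D.z * v))) * g' * g'' := by rw [a1, ← c1, map_mul ι v]; group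
      _ = t * (ι D.z * ι (v * (D.z * v))) * (g * g' * g'') := by rw [h.mt, ← c2]; group
      _ = _ := by rw [c3, mul_one]
  obtain ⟨o0, h0, e0⟩ := inner w pt
  obtain ⟨o1, h1, e1⟩ := inner w (h.sq F H)
  have act : ∀ o ∈ O, g * o * g⁻¹ = o0 * o1⁻¹ * o * (o0 * o1⁻¹)⁻¹ := by
    intro o ho
    have hy : o1⁻¹ * o * o1 ∈ O := O.mul_mem (O.mul_mem (O.inv_mem h1) ho) h1
    have f1 := e1 _ hy
    have f0 := e0 _ hy
    have f2 := b3 _ hy
    have f3 := a3 _ (h.nO F H w hy)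
    calc _ = g * (o1 * (o1⁻¹ * o * o1) * o1⁻¹) * g⁻¹ := by group
      _ = g * (g * (g * (o1⁻¹ * o * o1) * g⁻¹) * g⁻¹) * g⁻¹ := by rw [← f1]; group
      _ = g * g' * g'' * (o1⁻¹ * o * o1) * (g * g' * g'')⁻¹ := by rw [← f3, ← f2]; group
      _ = _ := by rw [f0]; group
  have hO : (o0 * o1⁻¹)⁻¹ ∈ O := O.inv_mem (O.mul_mem h0 (O.inv_mem h1))
  refine ⟨(o0 * o1⁻¹)⁻¹ * g, ⟨?_, fun u hu => ?_⟩, fun o ho => ?_⟩
  · generalize (o0 * o1⁻¹)⁻¹ = p at hO
    calc _ = p * (g * t * g⁻¹) * p⁻¹ := by group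
      _ = p * t * ι D.z * p⁻¹ := by rw [h.mt]; group
      _ = _ := by rw [w.Ot p hO, mul_assoc t, ← w.OL p hO]; group
  · rw [← mul_assoc, w.OL _ hO, mul_assoc, h.cm u hu, mul_assoc]
  · calc _ = (o0 * o1⁻¹)⁻¹ * (o0 * o1⁻¹ * o * (o0 * o1⁻¹)⁻¹) * g * 1 := by group
      _ = _ := by rw [← act o ho]; group

end Fus2

open Fus2

theorem W0.exists_W2 {t : G} {O : Subgroup G} {ι : X →* G} (F : Fa D) (H : Fh D) (w : W0 t O ι) {g : G}
    (e : g * t * g⁻¹ = t * ι D.z) : ∃ z0, W2 D t O ι z0 := by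
  obtain ⟨g2, h2⟩ := exists_mv F H w e
  obtain ⟨g3, h3, c3⟩ := h2.fix F H w
  obtain ⟨m, ⟨j, rfl⟩, hm⟩ := exists_odd_P2 g3
  have h4 : Mv D t ι (g3 ^ (2 * j + 1)) := by
    refine ⟨?_, fun u hu => (Commute.pow_right (h3.cm u hu) _).eq⟩
    have c : Commute (g3 * g3) t := h3.sq F H
    have := (c.pow_left j).eq
    rw [← pow_two, ← pow_mul] at this
    rw [pow_succ', mul_assoc g3, this, ← h3.mt]; group
  have c4 : ∀ o ∈ O, o * g3 ^ (2 * j + 1) = g3 ^ (2 * j + 1) * o := fun o ho =>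
    (Commute.pow_right (c3 o ho) _).eq
  generalize g3 ^ (2 * j + 1) = y at hm h4 c4
  have cy : ∀ u ∈ D.H0, ι u * (y * y) = y * y * ι u := fun u hu =>
    (Commute.mul_right (h4.cm u hu) (h4.cm u hu)).eq
  obtain ⟨x, -, hx | hx⟩ := w.cen2 F (h4.sq F H) (hm.mul hm rfl)
  · exact ⟨y, w, h4.mt, h4.cm, c4, (H.cH0 x fun u hu => w.inj (by rw [map_mul, map_mul, ← hx, cy u hu])).imp
      (fun c => by rw [hx, c, map_one]) fun c => by rw [hx, c]⟩
  · have xz : x ∈ D.H0 := by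
      rcases H.cH0 x fun u hu => w.comm_of w.tL (by rw [← hx, cy u hu]) with rfl | rfl
      exacts [one_mem _, H.VH0 F.zV]
    have h5 : y * t * ι x = t * y * ι x := by
      rw [mul_assoc, ← hx, mul_assoc t, ← h4.cm x xz, ← mul_assoc t, ← hx, mul_assoc]
    have h6 := h4.mt
    rw [mul_right_cancel h5, mul_inv_cancel_right, left_eq_mul, ← map_one ι] at h6
    exact absurd (w.inj h6) F.z1

end H59.SJ
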