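import Mathlib
import Cfsg.Agent.Base
import Cfsg.Agent.Lib.StdJ.Th

/-! The wreath frame from the commuting relations. -/

set_option autoImplicit false

namespace H59.SJ

open Subgroup H69 H36.SW

variable {X : Type} [Group X] [Finite X] {G : Type*} [Group G] [Finite G] {D : Dt X}

namespace Gen

omit [Finite X] [Finite G] in
theorem half {t : G} {O : Subgroup G} {ι : X →* G} {e : X → G} (w : Wa D t O ι e) {a : X} (h : D.A a) :
    e a * (t * e a * t) = ι a := by
  calc _ = e a * t * e a * t := by group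
    _ = _ := by rw [w.et a h, w.toW0.tit]

omit [Finite X] [Finite G] in
theorem half' {t : G} {O : Subgroup G} {ι : X →* G} {e : X → G} (w : Wa D t O ι e) {a : X} (h : D.A a) :
    t * e a * t * e a = ι a := by
  calc _ = t * (e a * t * e a) := by group
    _ = _ := by rw [w.et a h, w.toW0.tt]

omit [Finite X] [Finite G] in
theorem cjc {t : G} {O : Subgroup G} {ι : X →* G} {e : X → G} (w : Wa D t O ι e) {a a' : X} (h : D.A a)
    (h' : D.A a') (c : e a * (t * e a' * t) = t * e a' * t * e a) (g : X) :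
    e (g * a * g⁻¹) * (t * e (g * a' * g⁻¹) * t) = t * e (g * a' * g⁻¹) * t * e (g * a * g⁻¹) := by
  rw [w.ec a h, w.ec a' h']
  have e1 : t * (ι g * e a' * (ι g)⁻¹) * t = ι g * (t * e a' * t) * (ι g)⁻¹ := by
    have h1 := w.tL g
    have h2 := w.tL g⁻¹
    rw [map_inv] at h2
    calc _ = (t * ι g) * e a' * ((ι g)⁻¹ * t) := by group
      _ = _ := by rw [← h1, h2]; group
  rw [e1]
  calc _ = ι g * (e a * (t * e a' * t)) * (ι g)⁻¹ := by group
    _ = _ := by rw [c]; group

omit [Finite X] [Finite G] in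
theorem swp {t x y : G} (t2 : t * t = 1) (c : x * (t * y * t) = t * y * t * x) :
    y * (t * x * t) = t * x * t * y := by
  have ti : t⁻¹ = t := isv t2
  calc y * (t * x * t) = t * (t * y * t * x) * t := by
        rw [show t * (t * y * t * x) * t = (t * t) * y * (t * x * t) by group, t2, one_mul]
    _ = t * (x * (t * y * t)) * t := by rw [c]
    _ = t * x * t * y * (t * t) := by group
    _ = _ := by rw [t2, mul_one]

end Gen

open Gen

theorem Wa.w3_of {t : G} {O : Subgroup G} {ι : X →* G} (F : Fa D) {e : X → G} (w : Wa D t O ι e) {S : Set X}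
    (SA : ∀ s ∈ S, D.A s) (genS : closure S = ⊤)
    (c0 : ∀ s ∈ S, ∀ s' ∈ S, e s * (t * e s' * t) = t * e s' * t * e s) : ∃ ψ, W3 t O ι ψ := by
  have w0 := w.toW0
  have t2 := w.t2
  let A : Subgroup G := closure (e '' S)
  have eA : ∀ s ∈ S, e s ∈ A := fun s hs => subset_closure ⟨s, hs, rfl⟩
  have c1 : ∀ x ∈ A, ∀ s ∈ S, e s * (t * x * t) = t * x * t * e s := by
    intro x hx s hs
    refine swp t2 ?_
    have : A ≤ centralizer {t * e s * t} := (closure_le _).2 (by
      rintro _ ⟨s', hs', rfl⟩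
      exact mem_centralizer_singleton_iff.2 (c0 s' hs' s hs))
    exact mem_centralizer_singleton_iff.1 (this hx)
  have c2 : ∀ x ∈ A, ∀ y ∈ A, x * (t * y * t) = t * y * t * x := by
    intro x hx y hy
    have : A ≤ centralizer {t * y * t} := (closure_le _).2 (by
      rintro _ ⟨s', hs', rfl⟩
      exact mem_centralizer_singleton_iff.2 (c1 y hy s' hs'))
    exact mem_centralizer_singleton_iff.1 (this hx)
  have pm : ∀ x ∈ A, ∀ y ∈ A, x * y * (t * (x * y) * t) = x * (t * x * t) * (y * (t * y * t)) := by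
    intro x hx y hy
    calc _ = x * y * (t * x * (t * t) * y * t) := by rw [t2]; group
      _ = x * (y * (t * x * t)) * (t * y * t) := by group
      _ = _ := by rw [c2 y hy x hx]; group
  have ex : ∀ x ∈ A, ∃ l, ι l = x * (t * x * t) := by
    intro x hx
    induction hx using closure_induction with
    | mem x hx => obtain ⟨s, hs, rfl⟩ := hx; exact ⟨s, (half w (SA s hs)).symm⟩
    | one => exact ⟨1, by rw [map_one, mul_one, one_mul, t2]⟩
    | mul x y hx hy ihx ihy =>
      obtain ⟨l, hl⟩ := ihx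
      obtain ⟨l', hl'⟩ := ihy
      exact ⟨l * l', by rw [map_mul, hl, hl', pm x hx y hy]⟩
    | inv x hx ih =>
      obtain ⟨l, hl⟩ := ih
      refine ⟨l⁻¹, ?_⟩
      rw [map_inv, hl, inv_eq_iff_mul_eq_one, ← pm x hx x⁻¹ (A.inv_mem hx), mul_inv_cancel, mul_one, one_mul, t2]
  choose f hf using ex
  let σ : A →* X := MonoidHom.mk' (fun x => f x x.2) fun x y => w.inj (by
    rw [map_mul, hf, hf, hf]; exact pm x x.2 y y.2)
  have hσ : ∀ x : A, ι (σ x) = x * (t * x * t) := fun x => hf x x.2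
  have sur : Function.Surjective σ := by
    rw [← MonoidHom.range_eq_top, eq_top_iff, ← genS, closure_le]
    intro s hs
    exact ⟨⟨e s, eA s hs⟩, w.inj (by rw [hσ, half w (SA s hs)])⟩
  have kc : ∀ x : A, x ∈ σ.ker → ∀ y ∈ A, y * x = x * y := by
    intro x hx y hy
    have h1 := hσ x
    rw [MonoidHom.mem_ker.1 hx, map_one] at h1
    have h2 : (x : G) = (t * x * t)⁻¹ := eq_inv_of_mul_eq_one_left h1.symm
    have h3 : Commute y (t * x * t) := c2 y hy x x.2
    have := h3.inv_right.eq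
    rwa [← h2] at this
  obtain ⟨s0, hs0⟩ : ∃ s, s ∈ S := by
    by_contra hc
    push Not at hc
    have h1 : (S : Set X) = ∅ := Set.eq_empty_of_forall_notMem hc
    have h2 := genS
    rw [h1, Subgroup.closure_empty] at h2
    exact F.z1 (mem_bot.1 (h2 ▸ mem_top D.z))
  have k2 : ∀ x : A, x ∈ σ.ker → x * x = 1 → x = 1 := by
    intro x hx x2
    have x2' : (x : G) * x = 1 := by rw [← coe_mul, x2, coe_one]
    have h1 := hσ x
    rw [MonoidHom.mem_ker.1 hx, map_one] at h1
    have xt : (x : G) * t = t * x := by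
      calc (x : G) * t = x * (x * (t * x * t)) * t := by rw [← h1, mul_one]
        _ = (x * x) * t * x * (t * t) := by group
        _ = _ := by rw [x2', t2, one_mul, mul_one]
    have cx : ∀ y, ι y * x = x * ι y := by
      have : closure S ≤ (centralizer {(x : G)}).comap ι := (closure_le _).2 fun s hs => by
        refine mem_centralizer_singleton_iff.2 ?_
        rw [← half w (SA s hs), mul_assoc, ← c2 x x.2 _ (eA s hs), ← mul_assoc, kc x hx _ (eA s hs), mul_assoc]
      intro y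
      exact mem_centralizer_singleton_iff.1 (this (genS ▸ mem_top y))
    obtain ⟨y, -, hy | hy⟩ := w0.cen2 F xt (P2.of_sq x2')
    · rw [hy] at cx
      exact Subtype.ext (by rw [hy, w0.eq1 F cx, map_one, coe_one])
    · have y1 : y = 1 := F.cen1 fun u => w0.comm_of w.tL (by rw [← hy, cx])
      rw [y1, map_one, mul_one] at hy
      have h3 := kc x hx _ (eA s0 hs0)
      have h4 := w.et s0 (SA s0 hs0)
      rw [hy] at h3
      rw [h3, mul_assoc, w.e2 s0 (SA s0 hs0), mul_right_inj, ← map_one ι] at h4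
      exact absurd (w.inj h4).symm (F.A1 (SA s0 hs0))
  have ko : ∀ x : A, x ∈ σ.ker → P2 x → x = 1 := by
    rintro x hx ⟨k, hk⟩
    induction k generalizing x with
    | zero => simpa using hk
    | succ k ih =>
      refine k2 x hx (ih (x * x) (σ.ker.mul_mem hx hx) ?_)
      rw [← pow_two, ← pow_mul, ← pow_succ', hk]
  have sq : ∀ x : A, x * x ∈ commutator A := by
    rintro ⟨x, hx⟩
    rw [← Abelianization.ker_of, MonoidHom.mem_ker, map_mul]
    induction hx using closure_induction with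
    | mem x hx =>
      obtain ⟨s, hs, rfl⟩ := hx
      rw [← map_mul, show (⟨e s, _⟩ * ⟨e s, _⟩ : A) = 1 from Subtype.ext (w.e2 s (SA s hs)), map_one]
    | one => rw [← map_mul]; exact (congrArg _ (Subtype.ext (mul_one 1))).trans (map_one _)
    | mul x y hx hy ihx ihy =>
      rw [show (⟨x * y, _⟩ : A) = ⟨x, hx⟩ * ⟨y, hy⟩ from rfl, map_mul, mul_mul_mul_comm, ihx, ihy, one_mul]
    | inv x hx ih =>
      rw [show (⟨x⁻¹, _⟩ : A) = ⟨x, hx⟩⁻¹ from rfl, map_inv, ← mul_inv, ih, inv_one]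
  have inj : Function.Injective σ := by
    refine F.schur' σ sur (fun x hx => mem_center_iff.2 fun y => Subtype.ext (kc x hx y y.2)) fun x hx => ?_
    obtain ⟨m, ⟨j, rfl⟩, hm⟩ := exists_odd_P2 x
    have h1 := ko _ (σ.ker.pow_mem hx _) hm
    have h2 : x = ((x * x) ^ j)⁻¹ := by
      rw [← pow_two, ← pow_mul]
      exact eq_inv_of_mul_eq_one_right (by rw [← pow_succ, h1])
    rw [h2]
    exact inv_mem (pow_mem (sq x) j)
  let ε := MulEquiv.ofBijective σ ⟨inj, sur⟩
  refine ⟨A.subtype.comp ε.symm.toMonoidHom, w0, fun x y => c2 _ (ε.symm x).2 _ (ε.symm y).2, fun x => ?_⟩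
  have := hσ (ε.symm x)
  rw [show σ (ε.symm x) = x from ε.apply_symm_apply x] at this
  exact this.symm

theorem Wa.exists_W3 {t : G} {O : Subgroup G} {ι : X →* G} (F : Fa D) (F' : Fv D) (J : Fj D) {e : X → G}
    (w : Wa D t O ι e) (h : ∀ a ∈ D.V, D.A a → e a * (t * e D.d * t) = t * e D.d * t * e a) :
    ∃ ψ, W3 t O ι ψ := by
  have br : ∀ s s', D.A s → D.A s' → D.BR s s' → e s * (t * e s' * t) = t * e s' * t * e s := by
    rintro s s' hs hs' ⟨j, h1, h2⟩
    have := cjc w (hs.cj j) (hs'.cj j) (h2.elim (fun c => by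
      rw [w.tet (hs'.cj j), ← mul_assoc, w.R0 _ h1 _ c (hs.cj j) (hs'.cj j), mul_assoc, mul_assoc (e _),
        w.ιe (hs.cj j) (F.cm c h1)]) fun c => c ▸ h _ h1 (hs.cj j)) j⁻¹
    simpa only [mul_assoc, inv_mul_cancel_left, inv_inv, inv_mul_cancel, mul_one] using this
  have br' : ∀ s s', D.A s → D.A s' → s = s' ∨ D.BR s s' ∨ D.BR s' s →
      e s * (t * e s' * t) = t * e s' * t * e s := by
    rintro s s' hs hs' (rfl | c | c)
    exacts [by rw [half w hs, half' w hs], br s s' hs hs' c, swp w.t2 (br s' s hs' hs c)]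
  have A0 : ∀ s ∈ D.S0, D.A s := fun s hs => let ⟨m, c⟩ := F'.S0d s hs; c ▸ J.dA.cj m
  let A : Subgroup G := closure (e '' {s | s ∈ D.S0})
  have c1 : ∀ x ∈ A, ∀ s ∈ D.S0, e s * (t * x * t) = t * x * t * e s := by
    intro x hx s hs
    refine swp w.t2 ?_
    have : A ≤ centralizer {t * e s * t} := (closure_le _).2 (by
      rintro _ ⟨s', hs', rfl⟩
      exact mem_centralizer_singleton_iff.2 (br' _ _ (A0 _ hs') (A0 _ hs) (J.r0 _ hs' _ hs)))
    exact mem_centralizer_singleton_iff.1 (this hx)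
  have c2 : ∀ x ∈ A, ∀ y ∈ A, x * (t * y * t) = t * y * t * x := by
    intro x hx y hy
    have : A ≤ centralizer {t * y * t} := (closure_le _).2 (by
      rintro _ ⟨s', hs', rfl⟩
      exact mem_centralizer_singleton_iff.2 (c1 y hy s' hs'))
    exact mem_centralizer_singleton_iff.1 (this hx)
  have nA : closure {s | s ∈ D.S0} ≤ (𝐍(A)).comap ι := (closure_le _).2 fun s hs => by
    have es : e s ∈ A := subset_closure ⟨s, hs, rfl⟩
    rw [SetLike.mem_coe, mem_comap, ← half w (A0 s hs)]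
    exact mul_mem (le_normalizer es) (centralizer_le_normalizer _ fun x hx => c2 x hx _ es)
  have A1 : ∀ s ∈ D.S1, D.A s ∧ e s ∈ A := fun s hs => by
    obtain ⟨m, hm, s0, h0, rfl⟩ := F'.gS1 s hs
    exact ⟨(A0 _ h0).cj m, w.ec _ (A0 _ h0) m ▸ conj_mem_of_mem_normalizer (nA hm) (subset_closure ⟨s0, h0, rfl⟩)⟩
  refine w.w3_of F (S := insert D.τ {s | s ∈ D.S1}) (by rintro s (rfl | hs); exacts [J.τA, (A1 s hs).1]) J.gen ?_
  rintro s (rfl | hs) s' (rfl | hs')
  exacts [br' _ _ J.τA J.τA (.inl rfl), br' _ _ J.τA (A1 _ hs').1 (.inr (J.r1 _ hs')),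
    br' _ _ (A1 _ hs).1 J.τA (.inr (J.r1 _ hs).symm), c2 _ (A1 _ hs).2 _ (A1 _ hs').2]

end H59.SJ
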