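import Mathlib
import Cfsg.Agent.Base
import Cfsg.Agent.Lib.StdJ.Cx

/-! The facts on `2^11 : M24` in coordinates. -/

set_option autoImplicit false
set_option maxRecDepth 100000

namespace H59.SJ

open Subgroup H69 H36.SW
open H54 (force force_eq band bor bimp allLt allL anyL tb sel nth cntLt band_eq_true bor_eq_true bimp_eq_true
  allLt_iff allL_iff anyL_iff cntLt_eq sel_eq)
open H75.J4 (EA mv mm mv_mm mv_xor mv_zero xor_induction)

def T2 : ℕ := 0x2dd18954b7350d02dca6a18f8018d1b62c481c75a1cc0a9ce6b80b7b010638c0545a06418072d2013d4e02dcb03d6d5add0601295c18e8016b5b88c7a40c738087b1885295170cee83cce631cf51e076818e3a9b15bd86600b18ada94c00c8256f4b40d7c14e89d2902cef029235a94c321ac6a9012292b5a1c7880ac381a9541ea5440e8bd697b006735ce02626031cd43dee92149221a07b980630607b5e04a9b06a80c7398f439e07196b831b00156f42ce07812e629a86c5b08a4a03816f6c4080418e5aa005814c745ee0158d6b9b15022b48808710886b1ad5a94b5a40802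62e5a9cd625cd6b10d73928635cd6a98e024e9735e95814a39db03a80a781a74ac0f6a80b53a2b23dad02d701b0f0839894a8af7282a825c081d67538066a18603962389c07adc5621ed525ac28210541c06a1d0502114b4070354e741c05020c3a9ae73e4f92d8a5398d6ac0d8a5615318d79d8f729f203d6b420d062d4e839b02c20e0000f034004a4eb8152e7c18f63230001608bd9063e2d5be0a635088000059a2e3bd696adb042a0c7a940580e8539866aced5264b4c1a839806721ef8b50f4214a6160e011cd7c5675b00e0406d5010d7360c6b92e335c05400402d2f019d07bd29821a07020c644c0301cf5b5cd61c0c7b4ca63d307a0cb6c5807350603d8d4b5b21360e5a9f07b532601cb939ad6240949ce78b5c93bdec42d4d6a96b441cc000106412e400005b96a6356a89d914a94403c0053dce0022043d9063d6d6858e7a5ca539a48316a63dc0845a703a0d3c0914ac6f5b5a94b1513014e6b96972c0d821d18322d7a1c99280f041ad6010e2b9ac6340c7a5af68169329204a40c03dae739e3635c04b983025af701e77a5c08a5ed82d666c58a6a5606bd40301d0846068b80e4bdef631006380f0214f0354b58dee81100501b0639aa83d0d5c165421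807b0ae491b003d6c5a14b80145425c982d8f6a9ac73e312b40e628cf69dab41c110416f6820a5b1e64ba0f7a6285800041589028005214a7960c5bdcd7396b001806bdae5412f741305c1cb631ee6a1c08adf1439cb049a62458f401687bdb042a0668d7072d882bc0b3ade763a0c7214a5b9727a20a000086b98441cec639112018c7c1cc72d2f72dc75c00e839ed82dcf8bd62030e36292872dad83dce0000b7152d5a985535e602c00819676a9ab625ae001e08352d6be286bd6d780003be0d7a98f5b5ec7a9204b9cd7aced6b950501ce81d87830aa6ad8c5ac116b04a4a90f7b60c0404c234100292d6010a72d72025ce7bc0d73dc043d8c4b580681e9042087218c7820b2a9404400a4a1493a90a4b94d2c13163a006a40e5b560635c66262572dee035ee51dc0631c76ae0073cee6820b72dc50396e681c92b00d325407ae297bd8c03dad681e1700cf5b92f6218f93c0d69dae6180d6a5cf028ce4a98c641686388b22d8f7814e03a2e7198d6a9eb7154d7b40e501887314f3c40c73184021af4b22f2c1e46b1ce9194669d2f79dcf631cf631a0730101b5807c5a25c20b035ac7422f33e206b5f07818c029ad901cc3bc115a5807a5ae640ce538cd8254a641af83dcd1ae0d731e8811ab8ba465b20d43e0e5b80e02dc7401ef0000b6ad906394c631ef7c1906a62681ced515ae5392663daf5b4e663d6a7b968000c0680000340083180700ce0356f035ae3806c801cf7b0094022e59c0c7340b4b00b0316c039d16300b0358f581ad0000b5818e0261102568700f05011052c086008e7c00c72c0d51c0f0352b01ded2c00c02de0001a000000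
def T3 : ℕ := 0x21084a4e93a4e70210649ce7400c8320c6380e549ce7420c83200639c05418c039ca029ca0318c049ce7020c8020c639ce5400c639ca7280a5318c44180639c0729ca5318c4394a53188621884294a3380e742106418c6380a7320c639c05394a531806320c639ce5014a50188629ca5318c43108429465320c6380e5380a53188629c05318c4310042946501ca5018c4310842946521880294a028c60210403a4e742006418c639ca0320c639ce5014a531880300c639ce5394a531880280a5318040108429460300c639ce5014a531886280a531804310842946529ca531804010842946521884294a328c6321084418c601ca729ca5300c4394a5318862008429403394053188621884014a331084294651946321082394a03188621804294a3010842946019463210823108428065194602108228063210040104218c60380e742106418c639ca7320c639c05394a531886320c639ce5014a53188629ca5318c431084000050200039ce5394a53188629ca5000c0310842946529ca5318c4300002946521884294a328c6321040400c639ca729ca5318c4394a53180621884294a3394a53188601884294a331004014651806321082394a531880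21804014a3010842946519460200823108028065194632100228c63210441104218c60418c601ca729ca5318c4394a53188620084294a3394053188621884294a331084294651946300002394a53000021884294a3310842946501400210820008029465194632108228c63210441104218c6029ca5018c4310842946521884294a3280632104421804294a328c632104419403010822004218c2321804294a3280632104019403010822084218c2019463010822004218c201104218c6118421108003a4e040106418c639c07320c639ce03940501886020c639ce5394a03008629ca5318c43108429460320c639ce5014a531886280a5318c4310842946529ca531804310842946521804014a32806321044418c639ca728000318c4014003188621884294a3394a50008021884294a331084294651946321080394a53188601884294a3300842946519463210823108429405194632108228c63210441104200001418c639ca729ca5300c4394a5318862188429403394a53188621884014a331084294651946300002394a5318862188401400310842946519463000803108429465194632000028c63210441104218c6029ca5318c4310842806521884294a328c632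100421884294a328c630104419403010822004218c23018842940328c602104419460200820084218c2318063210802080218c231104218c6118421108004180639ca029ca5318c4394a50188621880294a3394a03188620084294a301084280651940321080394a53188601884280a3300842946519463210023108429405194630108228c63210441104218c61280a5018c431084294652188429403280632104421804294a300c632104419463210822084218c2321884294a328c602100419460210822084200c23194632108020842180230104218061184011080029ca5318c4310842946521884294a328c632104421884294a328c63210441940301082200420000321884294a328c632104419463210822084218c2319463210822084218c23000401800000400108003008401465014632008228063210041004218c0128c03210040104200c612080200c230802100000280630104401042180612004218c0308021108002080218c0300c210084018401008020000000000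
def FD : ℕ := 0x5aa7695945e901c18152e4971f94c105d
def FD2 : ℕ := 0x3fa3370061b71773a359b6c560c70c609
def wMz (i : ℕ) : List ℕ := if i = 0 then [1, 0, 1, 0, 2, 0, 1, 0, 1, 0, 1, 0, 1] else [2, 0, 1, 0, 2, 0, 1, 0, 2, 0, 1]
def wgd : List (List ℕ) := [[], [0], [1, 0, 1, 0, 2], [1, 0, 2, 0, 2], [0, 1, 0, 1, 0, 2], [0, 1, 0, 2, 0, 2], [1, 0, 1, 0, 2, 0, 1, 0, 1, 0, 2], [1, 0, 2, 0, 2, 0, 1, 0, 1, 0, 2], [1, 0, 1, 0, 2, 0, 1, 0, 2, 0, 2], [1, 0, 2, 0, 2, 0, 1, 0, 2, 0, 2], [0, 1, 0, 2, 0, 2, 0, 1, 0, 1, 0, 2]]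
noncomputable def fxC (w w' : List ℕ) (a c : ℕ) : Bool := force (wM w) fun F => force (wM w') fun F' =>
  allLt (fun e => bimp (band (Nat.beq (mv F e) e) (Nat.beq (mv F' e) e))
    (bor (Nat.beq e 0) (bor (Nat.beq e a) (bor (Nat.beq e c) (Nat.beq e (a ^^^ c)))))) 2048
noncomputable def ccN (e : ℕ) : ℕ := e ^^^ mv FD e
noncomputable def YN (p : ℕ × ℕ) : ℕ × ℕ := (p.1 ^^^ ccN p.2, p.2 ^^^ ccN p.1 ^^^ ccN p.2)
noncomputable def BN (p : ℕ × ℕ) : ℕ × ℕ := force (mv FD2 p.1) fun a => force (mv FD2 p.2) fun b => (a, b)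
noncomputable def wN (p : ℕ × ℕ) : ℕ × ℕ :=
  YN (BN (YN (BN (YN (BN (YN (BN (YN (BN (YN (BN p).swap).swap).swap).swap).swap).swap)))))
/-- a product of conjugates of `d` -/
def exW : List (List ℕ) → List ℕ
  | [] => []
  | w :: L => (w ++ (wd0 ++ wI w)) ++ exW L

namespace Cx
variable {X : Type} [Group X] (C : Cx X)

theorem fix4 {w w' : List ℕ} {a c : ℕ} (ha : a < 2048) (hc : c < 2048) (h : fxC w w' a c = true) {v : X}
    (hv : v ∈ C.V) (h1 : C.wd w * v = v * C.wd w) (h2 : C.wd w' * v = v * C.wd w') :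
    v = 1 ∨ v = C.el a ∨ v = C.el c ∨ v = C.el a * C.el c := by
  simp only [fxC, force_eq, allLt_iff, bimp_eq_true, band_eq_true, bor_eq_true, Nat.beq_eq] at h
  obtain ⟨e, he, rfl⟩ := C.ex hv
  rw [C.add ha hc, ← C.ea.zero]
  rcases h e he ⟨C.fx he h1, C.fx he h2⟩ with c | c | c | c <;> simp [c]

theorem wcm {w w' : List ℕ} (h : Nat.beq (wM (w ++ w')) (wM (w' ++ w)) = true) :
    C.wd w * C.wd w' = C.wd w' * C.wd w := by
  rw [← wd_append, ← wd_append, C.weq h]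

theorem exW_mem {S : List (List ℕ)} : ∀ L : List (List ℕ), (∀ w ∈ L, w ∈ S) →
    C.wd (exW L) ∈ closure {s | s ∈ S.map C.cd}
  | [], _ => one_mem _
  | w :: L, h => by
    rw [exW, wd_append, ← cd_eq]
    exact mul_mem (subset_closure (List.mem_map_of_mem (h w (by simp)))) (exW_mem L fun u hu => h u (by simp [hu]))

theorem gen_of {S : List (List ℕ)} {a b : List ℕ} (h : ∀ i ∈ a ++ b, i < S.length)
    (ha : Nat.beq (wM [0]) (wM (exW (a.map fun i => S.getD i []))) = true)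
    (hb : Nat.beq (wM [1]) (wM (exW (b.map fun i => S.getD i []))) = true) (w : List ℕ) :
    C.wd w ∈ closure {s | s ∈ S.map C.cd} := by
  have k : ∀ l : List ℕ, (∀ i ∈ l, i < S.length) → C.wd (exW (l.map fun i => S.getD i [])) ∈ closure {s | s ∈ S.map C.cd} :=
    fun l hl => C.exW_mem _ fun w hw => by
      obtain ⟨i, hi, rfl⟩ := List.mem_map.1 hw
      rw [List.getD_eq_getElem _ _ (hl i hi)]; exact List.getElem_mem _
  have h1 := k a fun i hi => h i (by simp [hi])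
  have h2 := k b fun i hi => h i (by simp [hi])
  rw [← C.weq ha] at h1; rw [← C.weq hb] at h2
  exact C.wd_mem (by simpa [wd, lt] using h1) (by simpa [wd, lt] using h2) w

theorem gen0 (w : List ℕ) : C.wd w ∈ closure {s | s ∈ wS0.map C.cd} :=
  C.gen_of (a := [1, 4, 3, 2, 4, 0, 2, 3, 4, 2, 3, 0, 4, 1, 2, 4, 0, 3]) (b := [4, 0, 2, 3, 4, 0, 2, 4, 2, 3, 0, 4, 3, 2, 0, 4]) (by decide) (by decide +kernel) (by decide +kernel) w

theorem gen1 (w : List ℕ) : C.wd w ∈ closure {s | s ∈ wS1.map C.cd} :=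
  C.gen_of (a := [0, 2, 0, 1, 0, 1, 2, 1, 0, 2, 0, 1, 2, 0, 1, 0, 1, 2, 0, 1, 2, 0, 2, 1, 2, 0, 1, 0, 2, 0, 2]) (b := [2, 1, 2, 0, 1, 0, 1, 2, 1, 2, 0, 1, 2, 0, 1, 2, 0, 2, 0, 1, 0, 2, 1, 0, 1]) (by decide) (by decide +kernel) (by decide +kernel) w

theorem d2 : C.wd wd0 * C.wd wd0 = 1 := by
  rw [← wd_append]; exact C.weq (w' := []) (by decide +kernel)

/-- the pair `p` has coordinates `n` -/
def R (p : X × X) (n : ℕ × ℕ) : Prop := n.1 < 2048 ∧ n.2 < 2048 ∧ p = (C.el n.1, C.el n.2)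

variable (T H0 : Subgroup X) (τ : X)

theorem cc_el {e : ℕ} (he : e < 2048) : ccN e < 2048 ∧ (C.D T H0 τ).cc (C.el e) = C.el (ccN e) := by
  have h := C.ac_wd wd0 e he
  rw [show wM wd0 = FD by decide +kernel, isv C.d2] at h
  exact ⟨xlt he h.1, by rw [ccN, ← C.add he h.1, ← h.2]; simp only [Dt.cc, D, mul_assoc]⟩

variable {C T H0 τ}
theorem R.sw {p : X × X} {n : ℕ × ℕ} (h : C.R p n) : C.R p.swap n.swap := ⟨h.2.1, h.1, h.2.2 ▸ rfl⟩

theorem R.Y {p : X × X} {n : ℕ × ℕ} (h : C.R p n) : C.R ((C.D T H0 τ).Yf p) (YN n) := by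
  obtain ⟨h1, h2, rfl⟩ := h
  obtain ⟨a1, a2⟩ := C.cc_el T H0 τ h1
  obtain ⟨b1, b2⟩ := C.cc_el T H0 τ h2
  exact ⟨xlt h1 b1, xlt (xlt h2 a1) b1, by
    simp only [Dt.Yf, YN, a2, b2, C.add h1 b1, C.add h2 a1, C.add (xlt h2 a1) b1]⟩

theorem R.B {p : X × X} {n : ℕ × ℕ} (h : C.R p n) : C.R ((C.D T H0 τ).Bf p) (BN n) := by
  obtain ⟨h1, h2, rfl⟩ := h
  have h := C.ac_wd [1, 0, 2]
  rw [show wM [1, 0, 2] = FD2 by decide +kernel] at h
  exact ⟨(h _ h1).1, (h _ h2).1, Prod.ext (h _ h1).2 (h _ h2).2⟩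

theorem R.w {p : X × X} {n : ℕ × ℕ} (h : C.R p n) : C.R ((C.D T H0 τ).wf p) (wN n) :=
  h.B.sw.Y.sw.B.sw.Y.sw.B.sw.Y.sw.B.Y.B.Y.B.Y

variable (C T H0 τ)

theorem wdC : ∀ v ∈ vsN.map C.el, (C.D T H0 τ).wf (1, v) = ((C.D T H0 τ).wf (v, 1)).swap := by
  have h : allL (fun e => band (Nat.blt e 2048) (band (Nat.beq (wN (0, e)).1 (wN (e, 0)).2)
    (Nat.beq (wN (0, e)).2 (wN (e, 0)).1))) vsN = true := by decide +kernel
  simp only [allL_iff, band_eq_true, Nat.blt_eq, Nat.beq_eq] at h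
  intro v hv
  obtain ⟨e, he, rfl⟩ := List.mem_map.1 hv
  obtain ⟨h1, h2, h3⟩ := h e he
  have a : C.R (1, C.el e) (0, e) := ⟨by norm_num, h1, by rw [C.ea.zero]⟩
  rw [(a.w (T := T) (H0 := H0) (τ := τ)).2.2, show (C.el e, (1 : X)) = (1, C.el e).swap from rfl,
    (a.sw.w (T := T) (H0 := H0) (τ := τ)).2.2, h2, h3]
  rfl

theorem prod_el : ∀ s : List ℕ, (∀ e ∈ s, e < 2048) → s.foldr (· ^^^ ·) 0 < 2048 ∧
    (s.map C.el).prod = C.el (s.foldr (· ^^^ ·) 0)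
  | [], _ => ⟨by simp, C.ea.zero.symm⟩
  | e :: s, h => by
    obtain ⟨h1, h2⟩ := prod_el s fun x hx => h x (by simp [hx])
    have he := h e (by simp)
    exact ⟨xlt he h1, by rw [List.map_cons, List.prod_cons, h2, C.add he h1]; rfl⟩

theorem vsI (s : List X) (hs : s.Sublist (vsN.map C.el)) (h : s.prod = 1) : s = [] := by
  have k : ∀ s ∈ vsN.sublists, s.foldr (· ^^^ ·) 0 = 0 → s = [] := by decide +kernel
  obtain ⟨s, h1, rfl⟩ := List.sublist_map_iff.1 hs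
  obtain ⟨a, b⟩ := C.prod_el s fun e he => (by decide : ∀ e ∈ vsN, e < 2048) e (h1.subset he)
  rw [k s (List.mem_sublists.2 h1) (C.ea.inj _ a (b ▸ h))]; rfl

variable [Finite X]

theorem cls (a : X) (ha : a ∈ C.V) (h : (C.D T H0 τ).A a) : a = C.el 1641 ∨ (C.D T H0 τ).Ty (C.el 7) (C.el 1641) a ∨
    (C.D T H0 τ).Ty (C.el 8) (C.el 1641) a ∨ (C.D T H0 τ).Ty (C.el 4) (C.el 1641) a := by
  obtain ⟨e, he, rfl⟩ := C.ex ha
  have k : bfsC T2 isS (fun e => bor (Nat.beq e 1641) (bor (Nat.beq e 7) (bor (Nat.beq e 8) (Nat.beq e 4))))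
    (fun i e => mv (wM (wMz i)) e) [0, 1] = true := by decide +kernel
  refine bfs k (P := fun e => C.el e = C.el 1641 ∨ (C.D T H0 τ).Ty (C.el 7) (C.el 1641) (C.el e) ∨
    (C.D T H0 τ).Ty (C.el 8) (C.el 1641) (C.el e) ∨ (C.D T H0 τ).Ty (C.el 4) (C.el 1641) (C.el e))
    (fun e _ c => ?_) (fun i hi e he _ _ _ c => ?_) e he (C.SA T H0 τ he h)
  · simp only [bor_eq_true, Nat.beq_eq] at c
    rcases c with rfl | rfl | rfl | rfl
    exacts [.inl rfl, .inr (.inl (Dt.Ty.base _)), .inr (.inr (.inl (Dt.Ty.base _))), .inr (.inr (.inr (Dt.Ty.base _)))]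
  · have z : C.wd (wMz i) * C.el 1641 * (C.wd (wMz i))⁻¹ = C.el 1641 := C.cj (by norm_num)
      ((allL_iff _ _).1 (by decide +kernel : allL (fun i => Nat.beq (mv (wM (wMz i)) 1641) 1641) [0, 1] = true) i hi)
    have t : ∀ q, (C.D T H0 τ).Ty q (C.el 1641) (C.wd (wMz i) * C.el e * (C.wd (wMz i))⁻¹) →
        (C.D T H0 τ).Ty q (C.el 1641) (C.el e) := fun q c => by
      have := c.cj (C.wd (wMz i))⁻¹
      rw [← z] at this
      simpa [mul_assoc] using this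
    rw [← (C.ac_wd _ e he).2] at c
    rcases c with c | c | c | c
    exacts [.inl (by simpa using c.trans z.symm), .inr (.inl (t _ c)), .inr (.inr (.inl (t _ c))), .inr (.inr (.inr (t _ c)))]

theorem vsL (P : X → Prop) (h0 : ∀ v ∈ vsN.map C.el, P v) (h1 : ∀ a ∈ C.V, ∀ a' ∈ C.V, (C.D T H0 τ).A a →
    (C.D T H0 τ).A a' → (C.D T H0 τ).A (a * a') → P a → P a' → P (a * a')) (a : X) (ha : a ∈ C.V)
    (h : (C.D T H0 τ).A a) : P a := by
  obtain ⟨e, he, rfl⟩ := C.ex ha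
  have k : bfsC T3 isS (fun e => anyL (Nat.beq e) vsN) (fun i e => e ^^^ i) vsN = true := by decide +kernel
  have k' : allL (fun e => band (Nat.blt e 2048) (isS e)) vsN = true := by decide +kernel
  simp only [allL_iff, band_eq_true, Nat.blt_eq] at k'
  refine bfs k (P := fun e => P (C.el e)) (fun e _ c => ?_) (fun i hi e he c1 c2 c3 c => ?_) e he (C.SA T H0 τ he h)
  · simp only [anyL_iff, Nat.beq_eq] at c
    obtain ⟨i, hi, rfl⟩ := c
    exact h0 _ (List.mem_map_of_mem hi)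
  · have q : C.el e = C.el (e ^^^ i) * C.el i := by rw [C.add c2 (k' i hi).1, Nat.xor_xor_cancel_right]
    have := h1 _ (C.mem c2) _ (C.mem (k' i hi).1) (C.AS T H0 τ c2 c3) (C.AS T H0 τ (k' i hi).1 (k' i hi).2)
      (q ▸ C.AS T H0 τ he c1) c (h0 _ (List.mem_map_of_mem hi))
    exact q ▸ this

theorem gdC : C.V ≤ closure {v | ∃ g ∈ 𝐍(C.V), g * C.wd wd0 = C.wd wd0 * g ∧ g * C.el 2 * g⁻¹ = v} := by
  have k : allLt (fun j => band (Nat.beq (wM (wgd.getD j [] ++ wd0)) (wM (wd0 ++ wgd.getD j [])))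
    (Nat.beq (mv (wM (wgd.getD j [])) 2) (mv 0x593b74360536de1ae43d1f85d703b002 (2 ^ j)))) 11 = true := by decide +kernel
  simp only [allLt_iff, band_eq_true] at k
  exact C.span (P := 0x593b74360536de1ae43d1f85d703b002) (Q := 0x52b32c2792ee50c10f01d481538001590)
    (fun j hj => subset_closure ⟨_, C.wd_N _, C.wcm (k j hj).1, C.cj (by norm_num) (k j hj).2⟩) (by decide +kernel)

theorem A2 {a b : ℕ} (h : band (Nat.blt a 2048) (band (Nat.blt b 2048) (isS (a ^^^ b))) = true) :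
    (C.D T H0 τ).A (C.el a * C.el b) := by
  simp only [band_eq_true, Nat.blt_eq] at h
  exact C.add h.1 h.2.1 ▸ C.AS T H0 τ (xlt h.1 h.2.1) h.2.2

omit [Finite X] in
theorem ty' {w : List ℕ} {q a c c' : ℕ} (h : band (Nat.blt q 2048) (band (Nat.blt c 2048) (band (Nat.blt c' 2048)
    (band (Nat.beq (mv (wM w) 1641) a) (Nat.beq (mv (wM w) q) (c ^^^ c'))))) = true) :
    (C.D T H0 τ).Ty (C.el q) (C.el a) (C.el c * C.el c') := by
  rw [band_eq_true, band_eq_true, band_eq_true, Nat.blt_eq, Nat.blt_eq, Nat.blt_eq] at h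
  exact C.add h.2.1 h.2.2.1 ▸ C.ty T H0 τ h.1 h.2.2.2

omit [Finite X] in
theorem kC {w w' : List ℕ} {q : ℕ} (hq : q < 2048) (h : fxC w w' 1641 q = true)
    (h' : band (band (Nat.beq (mv (wM w) 1641) 1641) (Nat.beq (mv (wM w) q) q))
      (band (Nat.beq (mv (wM w') 1641) 1641) (Nat.beq (mv (wM w') q) q)) = true) (v : X) (hv : v ∈ C.V)
    (c : (C.D T H0 τ).CC (C.el q) v) : v = 1 ∨ v = C.el 1641 ∨ v = C.el q ∨ v = C.el 1641 * C.el q := by
  simp only [band_eq_true] at h'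
  exact C.fix4 (by norm_num) hq h hv (c _ (C.cm (by norm_num) h'.1.1) (C.cm hq h'.1.2))
    (c _ (C.cm (by norm_num) h'.2.1) (C.cm hq h'.2.2))

theorem fv : Fv (C.D T H0 τ) where
  qV := by
    simp only [List.forall_mem_cons, List.not_mem_nil, false_imp_iff, implies_true, and_true]
    refine ⟨⟨C.mem ?_, fun h => ?_⟩, ⟨C.mem ?_, fun h => ?_⟩, ⟨C.mem ?_, fun h => ?_⟩⟩ <;>
      first | exact absurd (C.inj (by norm_num) (by norm_num) h) (by norm_num) | norm_num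
  cls := C.cls T H0 τ
  k := by
    simp only [List.forall_mem_cons, List.not_mem_nil, false_imp_iff, implies_true, and_true]
    exact ⟨C.kC T H0 τ (w := [0, 1, 0, 2, 0, 1, 0, 1, 0, 2, 0, 2, 0, 1, 0, 2, 0, 2, 0, 2, 0, 2, 0, 2, 0, 1, 0, 2, 0, 1, 0, 1, 0, 2, 0, 1, 0, 1, 0, 2, 0, 2, 0, 1, 0, 2, 0, 2]) (w' := [0, 1, 0, 2, 0, 1, 0, 1, 0, 2, 0, 2, 0, 1, 0, 2, 0, 2, 0, 2, 0, 2, 0, 2, 0, 1, 0, 2, 0, 1, 0, 1, 0, 2, 0, 1, 0, 1, 0, 2, 0, 2, 0, 1, 0, 2, 0, 2]) (by norm_num) (by decide +kernel) (by decide +kernel),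
      C.kC T H0 τ (w := [0, 2, 0, 1, 0, 2, 0, 1, 0, 2, 0, 2, 0, 2, 0, 1, 0, 2, 0, 2, 0, 1, 0, 2, 0, 1, 0, 2, 0, 1, 0, 2, 0, 1, 0, 1, 0, 2, 0, 2, 0, 1, 0, 2]) (w' := [0, 2, 0, 1, 0, 2, 0, 1, 0, 2, 0, 2, 0, 2, 0, 1, 0, 2, 0, 2, 0, 1, 0, 2, 0, 1, 0, 2, 0, 1, 0, 2, 0, 1, 0, 1, 0, 2, 0, 2, 0, 1, 0, 2]) (by norm_num) (by decide +kernel) (by decide +kernel),
      C.kC T H0 τ (w := [0, 1, 0, 1, 0, 1, 0, 2, 0, 2, 0, 1, 0, 1, 0, 2, 0, 2, 0, 2, 0, 1, 0, 1, 0, 2, 0, 1, 0, 2, 0, 1, 0, 1, 0, 2, 0, 1, 0, 2, 0, 1, 0, 1, 0, 2, 0, 1, 0, 1, 0, 1, 0, 1]) (w' := [0, 1, 0, 1, 0, 1, 0, 1, 0, 1, 0, 1, 0, 2, 0, 2, 0, 1, 0, 2, 0, 2, 0, 1, 0, 2, 0, 2, 0, 1, 0, 2, 0, 1, 0, 2, 0, 2, 0, 1, 0, 2, 0, 1, 0, 2, 0]) (by norm_num) (by decide +kernel) (by decide +kernel)⟩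
  sw := by
    simp only [List.forall_mem_cons, List.not_mem_nil, false_imp_iff, implies_true, and_true]
    exact ⟨C.ty T H0 τ (w := [2, 0, 2, 0, 1, 0, 2, 0, 1, 0, 2, 0, 1, 0, 1, 0, 1, 0, 2, 0, 2, 0, 1, 0, 2, 0]) (by norm_num) (by decide +kernel),
      C.ty T H0 τ (w := [0, 2, 0, 1, 0, 2, 0, 1, 0, 1, 0, 2, 0, 1, 0, 1, 0, 2, 0, 1, 0, 2, 0, 2, 0, 2, 0, 1, 0, 2, 0, 2, 0, 2, 0, 1, 0, 2, 0, 1, 0, 2, 0, 1, 0, 2, 0]) (by norm_num) (by decide +kernel),
      C.ty T H0 τ (w := [0, 2, 0, 1, 0, 1, 0, 2, 0, 2, 0, 2, 0, 2, 0, 2, 0, 2, 0, 1, 0, 1, 0, 2, 0, 2, 0, 1, 0, 2, 0, 1, 0, 1, 0, 1, 0, 2, 0, 1, 0, 2, 0, 1, 0, 1, 0, 1, 0, 2, 0, 2, 0, 1, 0, 2, 0]) (by norm_num) (by decide +kernel)⟩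
  rot := by
    simp only [List.forall_mem_cons, List.not_mem_nil, false_imp_iff, implies_true, and_true]
    exact ⟨C.ty' T H0 τ (w := [2, 0, 1, 0, 1, 0, 1, 0, 2, 0, 1, 0, 2, 0, 1, 0, 1, 0, 1, 0, 2, 0, 1, 0, 1, 0, 1, 0, 1]) (by decide +kernel),
      C.ty' T H0 τ (w := [0, 2, 0, 1, 0, 1, 0, 2, 0, 2, 0, 2, 0, 1, 0, 2, 0, 2, 0, 1, 0, 2, 0, 2, 0, 2, 0, 1, 0, 2, 0, 1, 0, 2, 0, 2, 0, 2, 0, 1, 0, 2, 0, 1, 0, 2, 0, 2, 0, 2, 0, 1, 0, 2, 0]) (by decide +kernel)⟩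
  b2q := (C.add (a := 1641) (b := 8) (by norm_num) (by norm_num)).symm ▸ C.BD T H0 τ (e := 1641 ^^^ 8) (by decide) (by decide +kernel)
  bi := by
    simp only [List.forall_mem_cons, List.not_mem_nil, false_imp_iff, implies_true, and_true]
    exact ⟨⟨C.el 7, C.mem (by norm_num), C.ty T H0 τ (w := []) (by norm_num) (by decide +kernel),
      C.ty T H0 τ (w := [2, 0, 2, 0, 1, 0, 2, 0, 1, 0, 2, 0, 1, 0, 1, 0, 1, 0, 1, 0, 2, 0, 1, 0, 2, 0, 1, 0, 2, 0]) (by norm_num) (by decide +kernel),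
      C.ty' T H0 τ (w := [2, 0, 1, 0, 2, 0, 1, 0, 2, 0, 1, 0, 1, 0, 2, 0, 2, 0, 1, 0, 2, 0, 1, 0, 2, 0, 1, 0, 1, 0, 1, 0, 2, 0, 1, 0, 2, 0, 1, 0, 2, 0]) (by decide +kernel),
      C.ty' T H0 τ (w := [0, 2, 0, 1, 0, 2, 0, 1, 0, 1, 0, 2, 0, 2, 0, 1, 0, 2, 0, 1, 0, 1, 0, 2, 0, 2, 0, 1, 0, 2]) (by decide +kernel),
      C.ty' T H0 τ (w := [1, 0, 2, 0, 1, 0, 1, 0, 2, 0, 2, 0, 1, 0, 2, 0, 1, 0, 2, 0, 1, 0, 2, 0, 1, 0, 2, 0, 1, 0, 2, 0, 1, 0, 2, 0, 1, 0, 2, 0]) (by decide +kernel)⟩,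
      ⟨C.el 200, C.mem (by norm_num), C.ty T H0 τ (w := [0, 2, 0, 1, 0, 2, 0, 1, 0, 2, 0, 2, 0, 2, 0, 1, 0, 1, 0, 1, 0, 2, 0, 1, 0, 2, 0, 1, 0, 2, 0]) (by norm_num) (by decide +kernel),
      C.ty T H0 τ (w := [0, 1, 0, 1, 0, 2, 0, 2, 0, 2, 0, 1, 0, 1, 0, 2, 0, 1, 0, 2, 0, 1, 0, 2, 0, 2, 0, 2, 0, 2, 0, 2, 0, 1, 0, 2, 0, 2, 0, 1, 0, 2, 0, 1, 0, 2, 0, 1]) (by norm_num) (by decide +kernel),
      C.ty' T H0 τ (w := [0, 1, 0, 1, 0, 2, 0, 2, 0, 2, 0, 1, 0, 1, 0, 2, 0, 1, 0, 2, 0, 1, 0, 2, 0, 1, 0, 2, 0, 1, 0, 1, 0, 1, 0, 2, 0, 1, 0, 2, 0]) (by decide +kernel),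
      C.ty' T H0 τ (w := [0, 2, 0, 1, 0, 1, 0, 2, 0, 2, 0, 2, 0, 2, 0, 1, 0, 2, 0, 1, 0, 2, 0, 1, 0, 2, 0, 1, 0, 2, 0, 2, 0, 2, 0, 2, 0, 1, 0, 2, 0, 2]) (by decide +kernel),
      C.ty' T H0 τ (w := [0, 2, 0, 2, 0, 1, 0, 2, 0, 1, 0, 2, 0, 2, 0, 2, 0, 1, 0, 2, 0, 2, 0, 2, 0, 1, 0, 1, 0, 1, 0, 2, 0, 2, 0, 1, 0, 2, 0, 1, 0, 2, 0, 1, 0, 2, 0]) (by decide +kernel)⟩⟩
  g0N := C.wd_N _
  g02 := (C.wd_append _ _).symm.trans (C.weq (w' := []) (by decide +kernel))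
  g0z := C.cm (by norm_num) (by decide +kernel)
  g0V := by
    have k : force (wM wg0) (fun F => allLt (fun e => bimp (Nat.beq (mv F e) (e ^^^ 1641)) false) 2048) = true := by
      decide +kernel
    simp only [force_eq, allLt_iff, bimp_eq_true, Nat.beq_eq] at k
    rintro _ ⟨e, he, rfl⟩ c
    exact Bool.false_ne_true (k e he (C.inj (C.ac_wd wg0 e he).1 (xlt he (by norm_num))
      ((C.ac_wd wg0 e he).2.symm.trans (c.trans (C.add he (by norm_num))))))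
  sg := ⟨C.el 4, C.mem (by norm_num), C.el 1766, C.wd [2, 0, 1, 0, 1, 0, 2, 0, 2, 0, 2, 0, 1, 0, 1, 0, 2, 0, 1, 0, 2, 0, 1, 0, 1, 0, 1, 0, 1, 0, 1, 0, 1, 0, 1, 0, 1, 0, 1, 0, 1, 0, 2, 0, 1, 0, 1, 0, 2, 0, 2, 0, 1, 0, 2, 0, 1, 0, 1, 0, 2, 0, 2, 0, 1, 0, 1, 0, 2, 0, 2, 0, 1, 0, 2, 0, 1, 0, 2, 0, 2, 0, 1, 0, 1, 0, 1, 0, 2, 0, 2, 0, 1],
    C.AS T H0 τ (by norm_num) (by decide +kernel), C.AS T H0 τ (by norm_num) (by decide +kernel), by
      show _ = C.el 1641 * C.el 4 * (C.wd wg0 * C.el 4 * (C.wd wg0)⁻¹)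
      rw [C.cj (c := 1645 ^^^ 1766) (by norm_num) (by decide +kernel), C.add (by norm_num) (by norm_num),
        C.add (by decide) (by decide)]
      rfl,
    (C.wd_append _ _).symm.trans (C.weq (by decide +kernel)), C.cm (by norm_num) (by decide +kernel)⟩
  pl := ⟨C.el 4, C.mem (by norm_num), C.el 8, C.mem (by norm_num), C.AS T H0 τ (by norm_num) (by decide +kernel),
    C.AS T H0 τ (by norm_num) (by decide +kernel), C.A2 T H0 τ (by decide +kernel), C.A2 T H0 τ (by decide +kernel),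
    (C.add (a := 1641) (b := 4) (by norm_num) (by norm_num)).symm ▸ C.A2 T H0 τ (a := 1641 ^^^ 4) (b := 8) (by decide +kernel),
    fun h => absurd (C.inj (by norm_num) (by norm_num) h) (by norm_num)⟩
  vsI := C.vsI
  vsL := C.vsL T H0 τ
  dN := C.wd_N _
  dN' := C.wd_N _
  v0V := C.mem (by norm_num)
  kd v hv h := by
    have := h _ (C.wd_N [0, 1, 0, 2, 0, 1, 0, 2, 0, 1, 0, 1, 0, 1, 0, 2, 0, 1, 0, 1, 0, 2, 0, 2, 0, 2, 0, 2, 0, 1, 0, 1, 0, 1, 0, 1, 0, 1, 0, 2, 0, 2, 0, 1, 0, 2, 0, 2, 0, 2, 0, 1, 0, 1, 0, 2])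
      (C.cm (by norm_num) (by decide +kernel)) (C.wcm (by decide +kernel))
    rw [show (C.D T H0 τ).cc (C.D T H0 τ).v0 = C.el (ccN 2) from (C.cc_el T H0 τ (by norm_num)).2]
    exact C.fix4 (by norm_num) (by decide +kernel) (by decide +kernel) hv this this
  gd := C.gdC
  x0V := C.mem (by norm_num)
  x0A := (C.cc_el T H0 τ (e := 1) (by norm_num)).2.symm ▸ C.AS T H0 τ (e := ccN 1) (by decide +kernel) (by decide +kernel)
  bd := ⟨C.el 65, C.mem (by norm_num), C.BD T H0 τ (by norm_num) (by decide +kernel), C.cm (by norm_num) (by decide +kernel)⟩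
  wd := C.wdC T H0 τ
  wb := ⟨C.el 521, C.el 3, C.mem (by norm_num), C.AS T H0 τ (by norm_num) (by decide +kernel), Dt.Bb, by
    rw [(R.w (C := C) (n := (3, 3)) ⟨by norm_num, by norm_num, rfl⟩).2.2, show (wN (3, 3)).1 = 521 by decide +kernel,
      show (wN (3, 3)).2 = 521 by decide +kernel]⟩
  S0d s hs := let ⟨w, _, e⟩ := List.mem_map.1 hs; ⟨C.wd w, e.symm⟩
  gS1 s hs := let ⟨w, _, e⟩ := List.mem_map.1 hs
    ⟨C.wd w, C.gen0 w, C.cd [], List.mem_map_of_mem (by decide), by rw [← e]; simp [cd, wd]⟩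

omit [Finite X] in
theorem cnt {P : X → Prop} {c : ℕ → Bool} {n : ℕ} (h1 : ∀ {e}, e < 2048 → P (C.el e) → c e = true)
    (h2 : ∀ {e}, e < 2048 → c e = true → P (C.el e)) (h : cntLt c 2048 = n) : {v | v ∈ C.V ∧ P v}.ncard = n := by
  classical
  rw [C.ea.ncard, ← h, cntLt_eq, show 2 ^ 11 = 2048 by norm_num]
  exact congrArg _ (Finset.filter_congr fun e he => ⟨h1 (Finset.mem_range.1 he), h2 (Finset.mem_range.1 he)⟩)

theorem fa (simple : IsSimpleGroup X) (aut : ∀ φ : X ≃* X, ∃ x : X, ∀ j, φ j = x * j * x⁻¹)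
    (schur : ∀ (Γ : Type) [Group Γ] [Finite Γ] (σ : Γ →* X), Function.Surjective σ → σ.ker ≤ center Γ →
      σ.ker ≤ commutator Γ → Function.Injective σ) (syl : IsSylowIn 2 T ⊤)
    (inv : ∀ a, a * a = 1 → a ≠ 1 → (∃ g, g * C.el 1641 * g⁻¹ = a) ∨ ∃ g, g * C.el 3 * g⁻¹ = a)
    (zc : ∀ y ∈ T, y * C.el 1641 = C.el 1641 * y)
    (cT : ∀ a ∈ T, (∀ y ∈ T, a * y = y * a) → a = 1 ∨ a = C.el 1641) (VT : C.V ≤ T) (nV : T ≤ 𝐍(C.V))
    (ea0 : ∀ E : Subgroup X, (∀ x ∈ E, x * x = 1) → Nat.card E = 2048 → ∃ j, E ^ᶜ j = C.V)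
    (eaN : ∀ j, C.V ^ᶜ j ≤ 𝐍(C.V) → C.V ^ᶜ j = C.V) (cb : ∀ g, g * C.el 3 = C.el 3 * g → g ∈ 𝐍(C.V))
    (genC : ∀ P : Subgroup X, (∀ v ∈ C.V, v ≠ 1 → ∀ g, g * v = v * g → g ∈ P) → P = ⊤) : Fa (C.D T H0 τ) where
  simple := simple
  aut := aut
  schur := schur
  syl := syl
  z2 := C.ea.self (by norm_num)
  z1 h := absurd (C.ea.inj 1641 (by norm_num) h) (by norm_num)
  b2 := C.ea.self (by norm_num)
  b1 h := absurd (C.ea.inj 3 (by norm_num) h) (by norm_num)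
  inv := inv
  nAB := C.nAB T H0 τ
  zc := zc
  cT := cT
  VT := VT
  nV := nV
  zV := C.mem (by norm_num)
  bV := C.mem (by norm_num)
  sqV _ := C.ea.sq
  cV := C.ea.card
  ceV := C.cV
  ea0 := ea0
  eaN := eaN
  cb := cb
  genC := genC
  nA := C.cnt (C.SA T H0 τ) (C.AS T H0 τ) (by decide +kernel)
  nB := C.cnt (C.DB T H0 τ) (C.BD T H0 τ) (by decide +kernel)
  trA := by rintro _ ⟨e, he, rfl⟩ h; exact C.trS e he (C.SA T H0 τ he h)
  trB := by rintro _ ⟨e, he, rfl⟩ h; exact C.trD e he (C.DB T H0 τ he h)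
  vsV v hv := by
    have k : allL (fun e => band (band (Nat.blt e 2048) (isS e))
      (band (Nat.blt 1641 2048) (band (Nat.blt e 2048) (isS (1641 ^^^ e))))) vsN = true := by decide +kernel
    obtain ⟨e, he, rfl⟩ := List.mem_map.1 hv
    have := (allL_iff _ _).1 k e he
    rw [band_eq_true, band_eq_true, Nat.blt_eq] at this
    exact ⟨C.mem this.1.1, C.AS T H0 τ this.1.1 this.1.2, C.A2 T H0 τ this.2⟩
  vsG := by
    have k : allLt (fun j => anyL (Nat.beq (mv 0x401201101081040020010009007005004 (2 ^ j))) vsN) 11 = true := by decide +kernel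
    simp only [allLt_iff, anyL_iff, Nat.beq_eq] at k
    exact C.span (P := 0x401201101081040020010009007005004) (Q := 0x40320310308304002001000b001006003)
      (fun j hj => let ⟨i, hi, e⟩ := k j hj; subset_closure (e ▸ List.mem_map_of_mem hi)) (by decide +kernel)
  sqA := ⟨C.el 1 * C.wd wd0, by simpa only [Dt.cc, D, mul_assoc] using (C.fv T H0 τ).x0A⟩
  sqB := ⟨C.el 2 * C.wd wd0, by
    have := (C.cc_el T H0 τ (e := 2) (by norm_num)).2.symm ▸ C.BD T H0 τ (e := ccN 2) (by decide +kernel) (by decide +kernel)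
    simpa only [Dt.cc, D, mul_assoc] using this⟩

end Cx

theorem eqns_MV : True := by
  have := @wMz.eq_1
  have := @fxC.eq_1
  have := @ccN.eq_1
  have := @YN.eq_1
  have := @BN.eq_1
  have := @wN.eq_1
  have := @exW.eq_1
  have := @exW.eq_2
  have := @Cx.R.eq_1
  trivial

end H59.SJ
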