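import Mathlib
import Cfsg.Agent.Base
import Cfsg.Agent.Lib.StdJ.Basic
import Cfsg.Agent.Lib.J4.Out
import Cfsg.Agent.Lib.J4L.Three
import Cfsg.Agent.S2042

/-! Standard subgroups of type `J4`: small facts on the model. -/

set_option autoImplicit false
set_option maxRecDepth 100000

namespace H59.SJ

open Subgroup H69 H36.SW H66.J4 H75.J4 Cfsg Cfsg.Spor

namespace ModA
open H15

theorem V_le_H : MJ.V ≤ mdJ.H := fun _ hv => mdJ.mem_H.2 (MJ.V_comm hv zJ_mem)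

theorem exists_h : ∃ h ∈ mdJ.H, MJ.V ^ᶜ h = mdJ.V := Md.conj_V_H V_le_H (fun _ => MJ.V_self) MJ.card_V

theorem card3 : (ofMask 3).card = 2 := by rw [card_ofMask]; decide +kernel

theorem vel3 : vel 3 = MJ.d (ofMask 3) := by
  rw [MJ_d (by norm_num)]; exact congrArg vel (by decide +kernel)

theorem vel3_mem : vel 3 ∈ MJ.V := vel3 ▸ MJ.d_mem _

theorem vel3_ne : vel 3 ≠ 1 := vel3 ▸ MJ.d_ne_one (Or.inl card3)

theorem conj_d {T U : Finset GolayPt} (h : T.card = 2 ∨ T.card = 4) (e : U.card = T.card) :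
    IsConj (MJ.d T) (MJ.d U) := by
  have h1 : MJ.d U ∈ MJ.d '' {U | U.card = T.card} := ⟨U, e, rfl⟩
  rw [← MJ.orbit_eq (by rcases h with h | h <;> rw [h] <;> decide) (by omega)] at h1
  obtain ⟨n, -, e⟩ := h1
  exact isConj_iff.2 ⟨n, e⟩

theorem cls {v : J4} (hv : v ∈ MJ.V) (h1 : v ≠ 1) : IsConj zJ v ∨ IsConj (vel 3) v := by
  obtain rfl | ⟨S, h | h, rfl⟩ := MJ.cases_V hv
  · exact absurd rfl h1
  · exact Or.inr (vel3 ▸ conj_d (Or.inl card3) (h.trans card3.symm))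
  · exact Or.inl (zJ_eq ▸ conj_d (Or.inr card_zM) (h.trans card_zM.symm))

theorem b_conj : IsConj (vel 3) (mdJ.s 180) := by
  obtain ⟨h, -, e⟩ := exists_h
  have h1 : h⁻¹ * mdJ.s 180 * h ∈ MJ.V := mem_cj.1 (e ▸ mdJ.s180_mem)
  have h2 : IsConj (h⁻¹ * mdJ.s 180 * h) (mdJ.s 180) := isConj_iff.2 ⟨h, by group⟩
  rcases cls h1 (fun c => mdJ.s_inj 180 (by norm_num) (Or.inl (by
    rw [c] at h2; exact isConj_one_right.1 h2)) |> absurd <| by norm_num) with c | c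
  · exact absurd (c.trans h2) mdJ.not_conj_b
  · exact c.trans h2

theorem nc : ¬ IsConj zJ (vel 3) := fun h => mdJ.not_conj_b (h.trans b_conj)

end ModA
open ModA

theorem exists_TJ : ∃ T : Subgroup J4, IsSylowIn 2 T ⊤ ∧ MJ.V ≤ T ∧ T ≤ 𝐍(MJ.V) ∧ (∀ y ∈ T, y * zJ = zJ * y) ∧
    ∀ a ∈ T, (∀ y ∈ T, a * y = y * a) → a = 1 ∨ a = zJ := by
  obtain ⟨h, hh, e⟩ := exists_h
  obtain ⟨T, h1, h2, h3, -⟩ := mdJ.exists_sylow
  have hz : (T : Subgroup J4) ^ᶜ h⁻¹ ≤ mdJ.H := cj_le_of_mem (h1.trans inf_le_left) (inv_mem hh)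
  refine ⟨(T : Subgroup J4) ^ᶜ h⁻¹, cj_top h⁻¹ ▸ (isSylowIn_top T).cj h⁻¹, cj_le_iff.1 (e ▸ h3), ?_,
    fun y hy => mdJ.mem_H.1 (hz hy), fun a ha c => mdJ.cent a (mdJ.mem_H.1 (hz ha)) fun v hv => c _ ?_⟩
  · rw [cj_le_iff, inv_inv, cj_normalizer, e]
    exact h1.trans inf_le_right
  · rw [mem_cj, inv_inv]
    exact h2 (Md.conj_mem_Q hh (mdJ.s_mem_Q hv))

theorem schurJ (Γ : Type) [Group Γ] [Finite Γ] (σ : Γ →* J4) (h : Function.Surjective σ) (h1 : σ.ker ≤ center Γ)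
    (h2 : σ.ker ≤ commutator Γ) : Function.Injective σ := by
  obtain ⟨π, hπ⟩ := Cfsg.Agent.S2042.result.2 Γ σ ⟨h, h1, h2⟩
  refine (MonoidHom.ker_eq_bot_iff σ).1 (eq_bot_iff.2 fun x hx => ?_)
  obtain ⟨a, e⟩ := hπ ⟨x, hx⟩
  rw [Subsingleton.elim a 1, map_one] at e
  exact mem_bot.2 (congrArg Subtype.val e).symm

theorem ncJ (g : J4) : g * vel 1641 * g⁻¹ ≠ vel 3 := fun e => nc (isConj_iff.2 ⟨g, e⟩)

theorem invJ (a : J4) (h : a * a = 1) (h1 : a ≠ 1) :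
    (∃ g, g * vel 1641 * g⁻¹ = a) ∨ ∃ g, g * vel 3 * g⁻¹ = a :=
  (mdJ.two_classes h1 h).imp isConj_iff.1 fun c => isConj_iff.1 (b_conj.trans c)

theorem ea0J (E : Subgroup J4) (h : ∀ x ∈ E, x * x = 1) (c : Nat.card E = 2048) : ∃ j, E ^ᶜ j = MJ.V := by
  obtain ⟨k, -, e⟩ := exists_h
  obtain ⟨g, hg⟩ := mdJ.conj_V h c
  exact ⟨k⁻¹ * g, by rw [← cj_cj, hg, ← e, cj_cj_inv]⟩

theorem eaNJ (j : J4) (h : MJ.V ^ᶜ j ≤ 𝐍(MJ.V)) : MJ.V ^ᶜ j = MJ.V := by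
  obtain ⟨k, -, e⟩ := exists_h
  have h1 := cj_mono k h
  rw [cj_normalizer, e] at h1
  rw [← cj_inj (g := k), e]
  exact Md.uniq_norm h1 (Md.map_conj_sq (Md.map_conj_sq (fun _ => MJ.V_self) j) k)
    (by rw [card_cj, card_cj, MJ.card_V])

theorem cbJ (g : J4) (h : g * vel 3 = vel 3 * g) : g ∈ 𝐍(MJ.V) := by
  obtain ⟨k, -, e⟩ := exists_h
  rw [← cj_mem_iff (g := k), cj_normalizer, e]
  refine mdJ.cent_b_le (t := k * vel 3 * k⁻¹) (e ▸ cj_mem k vel3_mem) (cjne vel3_ne k)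
    (fun c => nc (c.trans (isConj_iff.2 ⟨k⁻¹, by group⟩))) (mem_centralizer_singleton_iff.2 ?_)
  rw [show k * g * k⁻¹ * (k * vel 3 * k⁻¹) = k * (g * vel 3) * k⁻¹ by group, h]; group

section
open H54 hiding bnot bnot_eq_true In grp Enum Good c24
open H15 hiding allLt allLt_iff Good force force_eq
open H66.Zip H78.Vec H66.Vec H15.Mdl

theorem ModA.ax0 (i : ℕ) (hi : i < 2) : ∀ e, e < 2 ^ 11 → mv (H54.nth LF i) e < 2048 ∧
    gJ i * vel e * (gJ i)⁻¹ = vel (mv (H54.nth LF i) e) := by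
  have h : allLt (fun i => allLt (fun j => force (mv (nth LF i) (2 ^ j)) fun k => band (Nat.blt k 2048)
      (oJ.cj (nth LB (2 * i)) (nth LV j) (pC oJ LV 11 k))) 11) 2 = true := by decide +kernel
  simp only [allLt_iff, band_eq_true, force_eq, Nat.blt_eq] at h
  refine xor_induction (by simp [mv_zero, eaJ.zero]) (fun j hj => ⟨(h i hi j hj).1, ?_⟩) fun a b ha hb i j => ?_
  · have r : RJ2 (gJ i) (nth LB (2 * i)) := by interval_cases i; exacts [rX, rY]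
    rw [vel, prodB_two_pow hj, (sJ.cj_iff r (rBJ j hj) (r_vel _)).1 (h i hi j hj).2, mul_inv_cancel_right]
  · rw [mv_xor _ (by omega) (by omega), vel_xor, vel_xor, ← i.2, ← j.2]
    exact ⟨Nat.xor_lt_two_pow (n := 11) i.1 j.1, by group⟩

end

theorem axJ (i : ℕ) (hi : i < 2) (e : ℕ) (he : e < 2048) :
    gJ i * vel e * (gJ i)⁻¹ = vel (mv (H54.nth LF i) e) := (ax0 i hi e he).2

theorem ModA.le_range : closure {gJ 0, gJ 1} ≤ MJ.c.range := by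
  rw [closure_le]
  rintro _ (rfl | rfl)
  exacts [⟨_, θJ_q 0 (by decide)⟩, ⟨_, θJ_q 1 (by decide)⟩]

theorem MVJ (g : J4) (h : g ∈ closure {gJ 0, gJ 1}) (hV : g ∈ MJ.V) : g = 1 := by
  obtain ⟨a, rfl⟩ := le_range h
  rw [(MM.ov_c a).mem_V_iff.1 hV, map_one]

theorem genJ : closure {gJ 0, gJ 1, gJ 2} = ⊤ := by
  refine top_unique (pres.top ▸ H54.gen_le fun i hi => subset_closure ?_)
  interval_cases i <;> simp

theorem genCJ (P : Subgroup J4) (h : ∀ v ∈ MJ.V, v ≠ 1 → ∀ g, g * v = v * g → g ∈ P) : P = ⊤ := by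
  have hH : mdJ.H ≤ P := fun g hg => h _ zJ_mem zJ_ne g (mdJ.mem_H.1 hg)
  have hg : ∀ i e, i < 2 → e < 2048 → e ≠ 0 → mv (H54.nth LF i) e = e → gJ i ∈ P := fun i e hi he h0 c =>
    h (vel e) (eaJ.mem he) (fun c => h0 (eaJ.inj e he c)) _ (by
      have := axJ i hi e he
      rwa [c, mul_inv_eq_iff_eq_mul] at this)
  have hN : NJ ≤ P := NJ_le.trans (sup_le (V_le_H.trans hH) (by
    rw [MonoidHom.range_eq_map, ← genq, map_le_iff_le_comap]
    refine H54.gen_le fun i hi => ?_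
    rw [mem_comap, θJ_q i hi]
    interval_cases i
    · exact hg 0 10 (by decide) (by decide) (by decide) (by decide +kernel)
    · exact hg 1 2 (by decide) (by decide) (by decide) (by decide +kernel)))
  refine (NJ_max hN).resolve_left fun c => ?_
  obtain ⟨k, hk, e⟩ := exists_h
  have h1 := cj_mono k (hH.trans (c.trans norm_MJ.symm).le)
  rw [cj_normalizer, e, cj_eq_of_mem hk] at h1
  have := mdJ.card_norm_V
  rw [inf_eq_left.2 h1, mdJ.card_H] at this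
  norm_num at this

end H59.SJ
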