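import Mathlib
import Cfsg.Agent.Base
import Cfsg.Agent.Lib.StdJ.Basic
import Cfsg.Agent.Lib.J4.Out
import Cfsg.Agent.Lib.J4L.Three
import Cfsg.Agent.Lib.J4L.Gen

/-! Standard subgroups of type `J4`: the subgroup of index two in the centraliser of `z`. -/

set_option autoImplicit false
set_option maxRecDepth 100000
set_option linter.unusedSectionVars false

namespace H59.SJ

open Subgroup H69 H36.SW H66.J4 H75.J4 Cfsg Cfsg.Spor
open scoped commutatorElement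

namespace ModH
open H15

theorem cm_cen {G : Type*} [Group G] {a b c d : G} (h1 : c * b = b * c) (h2 : c * d = d * c) (h3 : c * a = a * c)
    (h4 : d * a = a * d) (h5 : d * b = b * d) : ⁅c * a, d * b⁆ = ⁅a, b⁆ := by
  have i1 : Commute c a := h3
  have i2 : Commute d a := h4
  have i3 : Commute d b := h5
  have e1 := ((i1.mul_right (Commute.mul_right h2 h1)).mul_right i1.inv_right).eq
  have e2 := (((i2.mul_right i3).mul_right i2.inv_right).mul_right i3.inv_right).eq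
  calc ⁅c * a, d * b⁆ = c * (a * (d * b) * a⁻¹) * c⁻¹ * (d * b)⁻¹ := by rw [commutatorElement_def]; group
    _ = d * (a * b * a⁻¹ * b⁻¹) * d⁻¹ := by rw [e1, mul_inv_cancel_right, ← mul_assoc a, ← h4]; group
    _ = ⁅a, b⁆ := by rw [e2, mul_inv_cancel_right, commutatorElement_def]

theorem top_or_le {L S : Type*} [Group L] [Group S] [IsSimpleGroup S] (ρ : L →* S) (hs : Function.Surjective ρ)
    (hk : ρ.ker ≤ center L) (hp : commutator L = ⊤) (N : Subgroup L) [hN : N.Normal] : N = ⊤ ∨ N ≤ ρ.ker := by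
  rcases (hN.map ρ hs).eq_bot_or_eq_top with h | h
  · exact Or.inr ((Subgroup.map_eq_bot_iff _).1 h)
  · refine Or.inl (top_unique (hp ▸ commutator_le.2 fun a _ b _ => ?_))
    obtain ⟨i, hi, e⟩ := h.ge (mem_top (ρ a))
    obtain ⟨j, hj, e'⟩ := h.ge (mem_top (ρ b))
    have k1 := mem_center_iff.1 (hk (show a * i⁻¹ ∈ ρ.ker by simp [MonoidHom.mem_ker, e]))
    have k2 := mem_center_iff.1 (hk (show b * j⁻¹ ∈ ρ.ker by simp [MonoidHom.mem_ker, e']))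
    have := cm_cen (a := i) (b := j) (k1 j).symm (k1 _).symm (k1 i).symm (k2 i).symm (k2 j).symm
    rw [inv_mul_cancel_right, inv_mul_cancel_right] at this
    rw [this]
    exact mul_mem (mul_mem (mul_mem hi hj) (inv_mem hi)) (inv_mem hj)

variable {G : Type*} [Group G] [Finite G] (m : Md G)

theorem Q_le : m.Q ≤ m.pre M22 := fun _ h => m.mem_pre.2 ⟨m.Q_le_H h, m.π_Q h ▸ one_mem _⟩
theorem K0_le : m.K0 ≤ m.pre M22 := fun _ h => m.mem_pre.2 ⟨h.1, (m.mem_K0.1 h).2⟩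
theorem le_H : m.pre M22 ≤ m.H := fun _ h => (m.mem_pre.1 h).1
theorem s_mem {v : ℕ} (hv : v < 4096) : m.s v ∈ m.pre M22 := Q_le m (m.s_mem_Q hv)
theorem z_mem : m.z ∈ m.pre M22 := Q_le m m.z_mem_Q
theorem ω_mem : m.ω ∈ m.pre M22 := K0_le m m.ω_mem_K0
theorem u_K0 : m.u ∈ m.K0 := m.KR_u.mem_K0 (by decide +kernel)
theorem k_K0 : m.k ∈ m.K0 := m.KR_k.mem_K0 (by decide +kernel)

variable {m}

theorem cjz {g : G} (hg : g ∈ m.H) (x : G) (c : ℕ) : g * (x * m.z ^ c) * g⁻¹ = g * x * g⁻¹ * m.z ^ c := by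
  rw [mul_assoc _ g⁻¹, m.zpow_comm (inv_mem hg)]; group

theorem conj0 {h g : G} (hh : h ∈ m.H) (hg : g ∈ m.pre M22) : h * g * h⁻¹ ∈ m.pre M22 :=
  m.mem_pre.2 ⟨mul_mem (mul_mem hh (le_H m hg)) (inv_mem hh), by
    rw [m.π_conj hh (le_H m hg)]; exact M22ext_normalizes _ (m.π_mem' hh) _ (m.mem_pre.1 hg).2⟩

theorem idx0 {g h : G} (hg : g ∈ m.H) (hh : h ∈ m.H) (a : g ∉ m.pre M22) (b : h ∉ m.pre M22) :
    g * h ∈ m.pre M22 :=
  m.mem_pre.2 ⟨mul_mem hg hh, m.π_mul' hg hh ▸ Md.mul_mem_M22 (m.π_mem' hg) (m.π_mem' hh)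
    (fun c => a (m.mem_pre.2 ⟨hg, c⟩)) fun c => b (m.mem_pre.2 ⟨hh, c⟩)⟩

theorem comm0 {g h : G} (hg : g ∈ m.H) (hh : h ∈ m.H) : ⁅g, h⁆ ∈ m.pre M22 := by
  by_cases c : h ∈ m.pre M22
  · exact mul_mem (conj0 hg c) (inv_mem c)
  · refine idx0 (mul_mem (mul_mem hg hh) (inv_mem hg)) (inv_mem hh) (fun d => c ?_) (by rwa [inv_mem_iff])
    simpa [mul_assoc] using conj0 (inv_mem hg) d

theorem gen0 {S : Subgroup G} (hK : m.K0 ≤ S) (h1 : m.s 1 ∈ S) : m.pre M22 ≤ S := by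
  have c : ∀ k ∈ m.K0, ∀ x ∈ S, k * x * k⁻¹ ∈ S := fun k hk x hx =>
    mul_mem (mul_mem (hK hk) hx) (inv_mem (hK hk))
  have h2 : ∀ i, (fun v => mv Um (mv Km v))^[i] 1 < 4096 ∧ m.s ((fun v => mv Um (mv Km v))^[i] 1) ∈ S := by
    intro i
    induction i with
    | zero => exact ⟨by norm_num, h1⟩
    | succ i ih =>
      rw [Function.iterate_succ_apply']
      exact ⟨mv_lt _ _, by
        rw [← m.u_s _ (mv_lt _ _), ← m.k_s _ ih.1]; exact c _ (u_K0 m) _ (c _ (k_K0 m) _ ih.2)⟩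
  have h3 : ∀ v, v < 4096 → m.s (mv 0x3231a2077e2c0028e8fc5aa218d2e2008001 v) ∈ S := by
    refine xor_induction12 (by rw [mv_zero, m.s_zero]; exact one_mem _) (fun i hi => ?_) fun a b ha hb i j => ?_
    · rw [(by decide +kernel : ∀ i, i < 12 → mv 0x3231a2077e2c0028e8fc5aa218d2e2008001 (2 ^ i) =
        (fun v => mv Um (mv Km v))^[i] 1) i hi]
      exact (h2 i).2
    · rw [mv_xor _ ha hb, m.s_xor (mv_lt _ _) (mv_lt _ _)]
      exact mul_mem (mul_mem i j) (pow_mem (hK m.z_mem_K0) _)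
  intro g hg
  obtain ⟨v, hv, k, hk, rfl⟩ := m.dec_H (le_H m hg)
  have h4 := h3 _ (mv_lt 0x5b754f5714d69705a39263a9002dad080001 v)
  rw [← mv_mm _ _ _ hv, show mm _ _ = Id12 by decide +kernel, mv_Id _ hv] at h4
  exact mul_mem h4 (hK (m.mem_K0.2 ⟨hk, (m.mem_pre.1 ((mul_mem_cancel_left (s_mem m hv)).1 hg)).2⟩))

theorem V_le : m.V ≤ m.pre M22 := by
  rintro _ ⟨c, hc, rfl⟩
  have := m.FV.div_lt hc
  exact m.mem_pre.2 ⟨m.FV.el_memH hc, m.FV.π_el hc ▸ (m.FV.kr _ this).mem_M22 (m.FV.out0 this)⟩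

theorem cen0 {x : G} (h : ∀ u ∈ m.pre M22, u * x = x * u) : x = 1 ∨ x = m.z :=
  m.cent x (h _ (z_mem m)).symm fun _ hv => (h _ (s_mem m hv)).symm

theorem cen_ker {c x : G} (hc : c ∈ m.K0) (h : m.π c = 1) (hx : x ∈ m.K0) : c * x = x * c :=
  (congrArg Subtype.val (mem_center_iff.1 (m.center_K0.ge (show (⟨c, hc⟩ : m.K0) ∈ m.φ0.ker from
    Subtype.ext h)) ⟨x, hx⟩)).symm

variable [IsSimpleGroup G]

theorem comm_K0 : commutator m.K0 = ⊤ := by
  have := m.perfect_K0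
  rw [← map_subtype_commutator] at this
  exact map_injective m.K0.subtype_injective (by rw [this, ← MonoidHom.range_eq_map, range_subtype])

theorem perf0 : m.pre M22 ≤ ⁅m.pre M22, m.pre M22⁆ := by
  have hK : m.K0 ≤ ⁅m.pre M22, m.pre M22⁆ := m.perfect_K0.ge.trans (commutator_mono (K0_le m) (K0_le m))
  refine gen0 hK ?_
  have h := commutator_mem_commutator (ω_mem m) (s_mem m (v := 2) (by norm_num))
  rw [commutatorElement_def, m.ω_s 2 (by norm_num), m.s_inv (by norm_num), ← mul_assoc,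
    m.s_mul _ _ (mv_lt _ _) (by norm_num), show mv Om 2 ^^^ 2 = 1 by decide +kernel, mul_assoc] at h
  exact (mul_mem_cancel_right (hK (mul_mem (pow_mem m.z_mem_K0 _) (pow_mem m.z_mem_K0 _)))).1 h

theorem pf0 : Pf (m.pre M22) := by
  refine ⟨perf0, ?_⟩
  set I := closure {i | i ∈ m.pre M22 ∧ i * i = 1}
  have hK : m.K0 ≤ I := by
    have := isSimple_M22
    have : (I.subgroupOf m.K0).Normal := ⟨fun x hx k => by
      have : I ^ᶜ (k : G) ≤ I := by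
        rw [MonoidHom.map_closure, closure_le]
        rintro _ ⟨i, hi, rfl⟩
        exact subset_closure ⟨conj0 k.2.1 hi.1, cjsq hi.2 _⟩
      exact this (cj_mem _ hx)⟩
    have hx : m.xh ∈ m.K0 := m.KR_xh.mem_K0 (by decide +kernel)
    refine subgroupOf_eq_top.1 ((top_or_le m.φ0 m.φ0_surj m.center_K0.ge comm_K0 _).resolve_right fun c => ?_)
    have := c (x := ⟨_, hx⟩) (subset_closure ⟨K0_le m hx,
      m.KR_xh.sq_eq_one (by decide +kernel) (by decide +kernel)⟩)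
    exact one_ne_zero (m.FV.Pinj 1 (by norm_num) (PA_one ▸ m.KR_xh.per.symm.trans (congrArg Subtype.val this)))
  have h : ∀ v, v < 4096 → qc v = 0 → m.s v ∈ I := fun v hv e =>
    subset_closure ⟨s_mem m hv, by rw [m.s_sq hv, e, pow_zero]⟩
  refine gen0 hK ?_
  rw [show 1 = 6 ^^^ 7 by decide, m.s_xor (by norm_num) (by norm_num)]
  exact mul_mem (mul_mem (h 6 (by norm_num) (by decide +kernel)) (h 7 (by norm_num) (by decide +kernel)))
    (pow_mem (hK m.z_mem_K0) _)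

variable (m) in
/-- an injective homomorphism from the subgroup of index two to `H` -/
structure Au (f : G → G) : Prop where
  mem : ∀ u ∈ m.pre M22, f u ∈ m.H
  mul : ∀ u ∈ m.pre M22, ∀ v ∈ m.pre M22, f (u * v) = f u * f v
  inj : ∀ u ∈ m.pre M22, f u = 1 → u = 1

variable (m) in
/-- `f` is conjugation by an element of `H` -/
def Inr (f : G → G) : Prop := ∃ k ∈ m.H, ∀ u ∈ m.pre M22, f u = k * u * k⁻¹

theorem Inr.of_cj {f : G → G} {k : G} (hk : k ∈ m.H) (h : Inr m fun u => k * f u * k⁻¹) : Inr m f :=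
  let ⟨j, hj, e⟩ := h
  ⟨k⁻¹ * j, mul_mem (inv_mem hk) hj, fun u hu => by
    rw [show k⁻¹ * j * u * (k⁻¹ * j)⁻¹ = k⁻¹ * (j * u * j⁻¹) * k by group, ← e u hu]; group⟩

namespace Au
variable {f : G → G} (A : Au m f)
include A

theorem cj {k : G} (hk : k ∈ m.H) : Au m fun u => k * f u * k⁻¹ :=
  ⟨fun u hu => mul_mem (mul_mem hk (A.mem u hu)) (inv_mem hk), fun u hu v hv => by rw [A.mul u hu v hv]; group,
    fun u hu e => A.inj u hu (conj_eq_one_iff.1 e)⟩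

/-- `f` as a homomorphism -/
def hom : m.pre M22 →* G := MonoidHom.mk' (fun u => f u) fun a b => A.mul _ a.2 _ b.2

theorem one : f 1 = 1 := A.hom.map_one
theorem inv {u : G} (h : u ∈ m.pre M22) : f u⁻¹ = (f u)⁻¹ := A.hom.map_inv ⟨u, h⟩
theorem pow {u : G} (h : u ∈ m.pre M22) (n : ℕ) : f (u ^ n) = f u ^ n := A.hom.map_pow ⟨u, h⟩ n
theorem conj {u v : G} (h : u ∈ m.pre M22) (h' : v ∈ m.pre M22) : f (u * v * u⁻¹) = f u * f v * (f u)⁻¹ := by
  rw [A.mul _ (mul_mem h h') _ (inv_mem h), A.mul _ h _ h', A.inv h]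
theorem cmm {u v : G} (h : u ∈ m.pre M22) (h' : v ∈ m.pre M22) : f ⁅u, v⁆ = ⁅f u, f v⁆ :=
  map_commutatorElement A.hom ⟨u, h⟩ ⟨v, h'⟩

theorem mem0 {u : G} (h : u ∈ m.pre M22) : f u ∈ m.pre M22 := by
  have : ⁅m.pre M22, m.pre M22⁆ ≤ ((m.pre M22).comap A.hom).map (Subgroup.subtype _) :=
    commutator_le.2 fun a ha b hb => ⟨⁅(⟨a, ha⟩ : m.pre M22), ⟨b, hb⟩⁆, by
      show f ⁅a, b⁆ ∈ m.pre M22
      rw [A.cmm ha hb]; exact comm0 (A.mem a ha) (A.mem b hb), rfl⟩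
  obtain ⟨x, hx, rfl⟩ := this (perf0 h)
  exact hx

/-- `f` as an endomorphism -/
def aut : m.pre M22 →* m.pre M22 := A.hom.codRestrict _ fun u => A.mem0 u.2

theorem surj : Function.Surjective A.aut := Finite.injective_iff_surjective.1
  ((injective_iff_map_eq_one _).2 fun u e => Subtype.ext (A.inj _ u.2 (congrArg Subtype.val e)))

theorem fz : f m.z = m.z := by
  refine (cen0 fun u hu => ?_).resolve_left fun c => m.z1 (A.inj _ (z_mem m) c)
  obtain ⟨x, e⟩ := A.surj ⟨u, hu⟩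
  rw [show u = f x from (congrArg Subtype.val e).symm, ← A.mul _ x.2 _ (z_mem m), ← A.mul _ (z_mem m) _ x.2,
    m.mem_H.1 (le_H m x.2)]

theorem fzp (c : ℕ) : f (m.z ^ c) = m.z ^ c := by rw [A.pow (z_mem m), A.fz]

theorem lift : (∀ u ∈ m.pre M22, m.π u = 1 → m.π (f u) = 1) ∧
    ∃ k ∈ m.K, ∀ u ∈ m.pre M22, m.π (f u) = (m.π k)⁻¹ * m.π u * m.π k := by
  let ρ : m.pre M22 →* M22 := (m.πH.comp (inclusion (le_H m))).codRestrict _ fun g => (m.mem_pre.1 g.2).2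
  have hs : Function.Surjective ρ := fun x =>
    let ⟨g, e⟩ := m.φ0_surj x; ⟨⟨g, K0_le m g.2⟩, e⟩
  have hs' : Function.Surjective (ρ.comp A.aut) := hs.comp A.surj
  have hk : ρ.ker ≤ (ρ.comp A.aut).ker := by
    have := isSimple_M22
    refine (Subgroup.map_eq_bot_iff _).1 ((ρ.normal_ker.map _ hs').eq_bot_or_eq_top.resolve_right fun c => ?_)
    have h1 := card_map_dvd ρ.ker (ρ.comp A.aut)
    have h2 := ρ.ker.card_mul_index
    rw [index_ker, MonoidHom.range_eq_top.2 hs, card_top, m.card_pre M22_le_ext, card_M22] at h2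
    rw [c, card_top, card_M22, show Nat.card ρ.ker = 24576 by omega] at h1
    norm_num at h1
  refine ⟨fun u hu e => congrArg Subtype.val (hk (x := ⟨u, hu⟩) (Subtype.ext e)), ?_⟩
  have hb := ρ.liftOfRightInverse_comp_apply _ (Function.rightInverse_surjInv hs) ⟨_, hk⟩
  set β := ρ.liftOfRightInverse _ (Function.rightInverse_surjInv hs) ⟨_, hk⟩
  have hb' : Function.Surjective β := fun x => let ⟨g, e⟩ := hs' x; ⟨ρ g, (hb g).trans e⟩
  obtain ⟨s, h1, h2⟩ := aut_M22 (MulEquiv.ofBijective β ⟨Finite.injective_iff_surjective.2 hb', hb'⟩)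
  obtain ⟨k, h3, e⟩ := m.exists_lift (inv_mem h1)
  refine ⟨k, h3, fun u hu => ?_⟩
  rw [e, inv_inv]
  exact (congrArg Subtype.val (hb ⟨u, hu⟩)).symm.trans (h2 (ρ ⟨u, hu⟩))

theorem memQ {v : ℕ} (hv : v < 4096) : f (m.s v) ∈ m.Q :=
  Md.mem_Q_of_sq (A.mem _ (s_mem m hv)) (A.lift.1 _ (s_mem m hv) (m.π_s v hv)) (by
    rw [← A.mul _ (s_mem m hv) _ (s_mem m hv), m.s_sq hv, A.fzp]; exact pow_mem m.z_mem_Q _)

/-- the fixed points -/
def fix : Subgroup G := (A.hom.eqLocus (Subgroup.subtype _)).map (Subgroup.subtype _)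

theorem mem_fix {u : G} : u ∈ A.fix ↔ u ∈ m.pre M22 ∧ f u = u :=
  ⟨by rintro ⟨x, hx, rfl⟩; exact ⟨x.2, hx⟩, fun h => ⟨⟨u, h.1⟩, h.2, rfl⟩⟩

theorem au4 (hK : ∀ x ∈ m.K0, f x = x) {c : ℕ} (h : f (m.s 1) = m.s 1 * m.z ^ c) : Inr m f := by
  have k : ∀ v, v < 4096 → f (m.s v) = m.s v * m.z ^ c → f (m.s (mv Om v)) = m.s (mv Om v) * m.z ^ c :=
    fun v hv e => by
      rw [← m.ω_s v hv, A.conj (ω_mem m) (s_mem m hv), hK _ m.ω_mem_K0, e, cjz m.ω_mem_H]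
  have h2 := k 1 (by norm_num) h
  rw [show mv Om 1 = 2 by decide +kernel] at h2
  have h3 := k 2 (by norm_num) h2
  rw [show mv Om 2 = 1 ^^^ 2 by decide +kernel, m.s_xor (by norm_num) (by norm_num),
    A.mul _ (mul_mem (s_mem m (by norm_num)) (s_mem m (by norm_num))) _ (pow_mem (z_mem m) _),
    A.mul _ (s_mem m (by norm_num)) _ (s_mem m (by norm_num)), A.fzp, h, h2, mul_assoc (m.s 1),
    ← mul_assoc (m.z ^ c), ← m.zpow_comm (m.s_mem_H (by norm_num)), mul_assoc (m.s 2), m.zpow_self, mul_one,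
    left_eq_mul] at h3
  rw [h3, mul_one] at h
  exact ⟨1, one_mem _, fun u hu => by
    simpa using (A.mem_fix.1 (gen0 (fun x hx => A.mem_fix.2 ⟨K0_le m hx, hK x hx⟩)
      (A.mem_fix.2 ⟨s_mem m (by norm_num), h⟩) hu)).2⟩

end Au

theorem au3 {f : G → G} (A : Au m f) (hK : ∀ x ∈ m.K0, f x = x) : Inr m f := by
  have st : ∀ w, w < 4096 → (∀ f, Au m f → (∀ x ∈ m.K0, f x = x) → ∀ c : ℕ,
      f (m.s 1) = m.s (mv Om w) * m.z ^ c → Inr m f) → ∀ f, Au m f → (∀ x ∈ m.K0, f x = x) → ∀ c : ℕ,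
      f (m.s 1) = m.s w * m.z ^ c → Inr m f := fun w hw H f A hK c e =>
    Inr.of_cj m.ω_mem_H (H _ (A.cj m.ω_mem_H) (fun x hx => by
      rw [hK x hx, ← mem_centralizer_singleton_iff.1 hx.2, mul_inv_cancel_right]) c (by
        rw [e, ← m.ω_s w hw, cjz m.ω_mem_H]))
  have s3 := st 3 (by norm_num) fun f A hK c e => A.au4 hK (by rwa [show mv Om 3 = 1 by decide +kernel] at e)
  have s2 := st 2 (by norm_num) fun f A hK c e => s3 f A hK c (by rwa [show mv Om 2 = 3 by decide +kernel] at e)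
  obtain ⟨w, hw, c, e⟩ := A.memQ (v := 1) (by norm_num)
  have h := A.conj (K0_le m (u_K0 m)) (s_mem m (v := 1) (by norm_num))
  rw [m.u_s 1 (by norm_num), show mv Um 1 = 1 by decide +kernel, hK _ (u_K0 m), e, cjz (u_K0 m).1,
    m.u_s w hw] at h
  have h4 : w < 4 := by
    have := (H54.allLt_iff _ _).1 (show H54.allLt (fun v => H54.bimp (Nat.beq (mv Um v) v) (Nat.blt v 4)) 4096 = true
      by decide +kernel) w hw
    rw [H54.bimp_eq_true, Nat.beq_eq, Nat.blt_eq] at this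
    exact this (m.s_eq hw (mv_lt _ _) h).1.symm
  interval_cases w
  · rw [m.s_zero, one_mul] at e
    have := A.inj (m.s 1 * m.z ^ c) (mul_mem (s_mem m (by norm_num)) (pow_mem (z_mem m) _)) (by
      rw [A.mul _ (s_mem m (by norm_num)) _ (pow_mem (z_mem m) _), e, A.fzp, m.zpow_self])
    exact absurd (m.s_eq (w := 0) (b := 0) (by norm_num) (by norm_num) (by simpa [m.s_zero] using this)).1 one_ne_zero
  exacts [A.au4 hK e, s2 f A hK c e, s3 f A hK c e]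

theorem au2 {f : G → G} (A : Au m f) (hπ : ∀ u ∈ m.pre M22, m.π (f u) = m.π u)
    (hω : f m.ω = m.ω ∨ f m.ω = m.ω⁻¹) : Inr m f := by
  have h0 : ∀ x ∈ m.K0, f x ∈ m.K0 := fun x hx => ⟨A.mem x (K0_le m hx), mem_centralizer_singleton_iff.2 (by
    have : Commute (f x) (f m.ω) := by
      rw [Commute, SemiconjBy, ← A.mul _ (K0_le m hx) _ (ω_mem m), mem_centralizer_singleton_iff.1 hx.2,
        A.mul _ (ω_mem m) _ (K0_le m hx)]
    rcases hω with e | e <;> rw [e] at this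
    exacts [this, Commute.inv_right_iff.1 this])⟩
  have h1 : ∀ x ∈ m.K0, ∀ y ∈ m.K0, f x * x⁻¹ * y = y * (f x * x⁻¹) := fun x hx y hy =>
    cen_ker (mul_mem (h0 x hx) (inv_mem hx)) (by
      rw [m.π_mul' (h0 x hx).1 (inv_mem hx.1), m.π_inv hx.1, hπ x (K0_le m hx), mul_inv_cancel]) hy
  refine au3 A fun x hx => (A.mem_fix.1 (m.perfect_K0.ge.trans (commutator_le.2 fun a ha b hb =>
    A.mem_fix.2 ⟨comm0 ha.1 hb.1, ?_⟩) hx)).2
  have := cm_cen (h1 a ha b hb) (h1 a ha _ (mul_mem (h0 b hb) (inv_mem hb))) (h1 a ha a ha) (h1 b hb a ha)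
    (h1 b hb b hb)
  rwa [inv_mul_cancel_right, inv_mul_cancel_right, ← A.cmm (K0_le m ha) (K0_le m hb)] at this

theorem au1 {f : G → G} (A : Au m f) (hω : f m.ω = m.ω ∨ f m.ω = m.ω⁻¹) : Inr m f := by
  obtain ⟨k, hk, e⟩ := A.lift.2
  refine Inr.of_cj hk.1 (au2 (A.cj hk.1) (fun u hu => ?_) ?_)
  · rw [m.π_conj hk.1 (A.mem u hu), e u hu]; group
  · rcases hω with c | c <;> simp only [c]
    · exact hk.2
    · rw [← conj_inv, or_comm, inv_inj, inv_eq_iff_eq_inv]; exact hk.2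

theorem au0 {f : G → G} (A : Au m f) : Inr m f := by
  have : Fact (Nat.Prime 3) := ⟨by norm_num⟩
  have h3 : orderOf (f m.ω) = 3 := orderOf_eq_prime (by rw [← A.pow (ω_mem m), m.ω3, A.one])
    fun c => m.ω_ne_one (A.inj _ (ω_mem m) c)
  obtain ⟨k, hk, i, hi, e⟩ := exists_conj_prime (p := 3) (K := m.pre ⊥) (by rw [m.card_pre bot_le]; simp)
    (m.mem_pre.2 ⟨A.mem _ (ω_mem m), A.lift.1 _ (ω_mem m) m.π_ω⟩) (m.mem_pre.2 ⟨m.ω_mem_H, m.π_ω⟩) h3 m.orderOf_ω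
  refine Inr.of_cj (m.mem_pre.1 hk).1 (au1 (A.cj (m.mem_pre.1 hk).1) ?_)
  rw [e, m.ω_inv]
  interval_cases i
  · rw [pow_zero, conj_eq_one_iff] at e
    simp [e] at h3
  · simp
  · simp

theorem eqns_ModH : True := by
  have := @Inr.eq_1.{0}
  have := @Au.hom.eq_1.{0}
  have := @Au.aut.eq_1.{0}
  have := @Au.fix.eq_1.{0}
  trivial

theorem VJ_le : MJ.V ≤ mdJ.pre M22 := fun v hv => by
  obtain ⟨h, hh, e⟩ := mdJ.conj_V_H (B := MJ.V) (fun _ hv => mdJ.mem_H.2 (MJ.V_comm hv zJ_mem))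
    (fun _ => MJ.V_self) MJ.card_V
  have := conj0 (inv_mem hh) (V_le (e ▸ cj_mem h hv))
  rwa [show h⁻¹ * (h * v * h⁻¹) * h⁻¹⁻¹ = v by group] at this

end ModH
open ModH

theorem fhJ (D : Dt J4) (hz : D.z = zJ) (hb : D.b = vel 3) (hV : D.V = MJ.V) (hH : D.H0 = mdJ.pre M22)
    (nc : ∀ g : J4, g * vel 1641 * g⁻¹ ≠ vel 3) : Fh D where
  H0z u hu := hz ▸ mdJ.mem_H.1 (le_H mdJ (hH ▸ hu))
  idx h h' a b := by
    rw [hz] at a b; rw [hH]; exact idx0 (mdJ.mem_H.2 a) (mdJ.mem_H.2 b)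
  VH0 := hV ▸ hH ▸ VJ_le
  pf := hH ▸ pf0
  cH0 x h := hz ▸ cen0 (m := mdJ) (hH ▸ h)
  cb0 := by
    rw [hb, hH, mdJ.card_cent_b (fun c => absurd (eaJ.inj 3 (by norm_num) c) (by norm_num)) (eaJ.self (by norm_num))
      fun c => let ⟨g, e⟩ := isConj_iff.1 c; nc g e, mdJ.card_pre H15.M22_le_ext, H15.card_M22]
    norm_num
  autH f h1 h2 h3 := by
    rw [hH] at h1 h2 h3 ⊢
    rw [hz] at h1 ⊢
    obtain ⟨k, hk, e⟩ := au0 (m := mdJ) ⟨fun u hu => mdJ.mem_H.2 (h1 u hu), h2, h3⟩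
    exact ⟨k, mdJ.mem_H.1 hk, e⟩

end H59.SJ
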