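import Mathlib
import Cfsg.Agent.Base
import Cfsg.Agent.Lib.StdJ.ModA
import Cfsg.Agent.Lib.StdJ.ModH

/-! Standard subgroups of type `J4`: homomorphisms from the involution centralisers. -/

set_option autoImplicit false
set_option maxRecDepth 100000
set_option linter.unusedSectionVars false

namespace H59.SJ

open Subgroup H69 H36.SW H66.J4 H75.J4 Cfsg Cfsg.Spor ModH
open scoped commutatorElement Pointwise

namespace ModR
open H15 H31.J4R

/-- a perfect central extension of `M22` -/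
structure Cv {L : Type*} [Group L] (ρ : L →* M22) : Prop where
  surj : Function.Surjective ρ
  ker : ρ.ker ≤ center L
  perf : commutator L = ⊤

theorem comm_ext {x y : Equiv.Perm GolayPt} (hx : x ∈ M22ext) (hy : y ∈ M22ext) : ⁅x, y⁆ ∈ M22 := by
  by_cases c : y ∈ M22
  · exact mul_mem (M22ext_normalizes _ hx _ c) (inv_mem c)
  · refine Md.mul_mem_M22 (mul_mem (mul_mem hx hy) (inv_mem hx)) (inv_mem hy) (fun d => c ?_) (by rwa [inv_mem_iff])
    simpa [mul_assoc] using M22ext_normalizes _ (inv_mem hx) _ d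

theorem β_mem : permOf betaC ∈ M22 := (good_M22 inM24_betaC (by decide +kernel) (by decide +kernel)).2
theorem κ_mem : permOf kappaC ∈ M22 := (good_M22 inM24_kappaC (by decide +kernel) (by decide +kernel)).2

theorem cen22 {s : Equiv.Perm GolayPt} (hs : s ∈ M24) (h : ∀ y ∈ M22, s * y = y * s) : s = 1 :=
  eq_one_of_comm_beta_delta hs (h _ β_mem)
    (h _ (good_M22 inM24_deltaC (by decide +kernel) (by decide +kernel)).2)

namespace Cv
variable {L : Type*} [Group L] {ρ : L →* M22} (C : Cv ρ) {G : Type*} [Group G]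
include C

theorem dvd (F : L →* G) (h : ∃ x, F x ≠ 1) : 443520 ∣ Nat.card F.range := by
  have := isSimple_M22
  obtain ⟨x, hx⟩ := h
  have := index_dvd_of_le ((top_or_le ρ C.surj C.ker C.perf F.ker).resolve_left fun c => hx (c.ge (mem_top x)))
  rwa [index_ker, index_ker, MonoidHom.range_eq_top.2 C.surj, card_top, card_M22] at this

theorem img (χ : L →* Equiv.Perm GolayPt) (h : ∀ x, χ x ∈ M22ext) (h1 : ∃ x, χ x ≠ 1) :
    ∀ y ∈ M22, ∃ x, χ x = y := by
  have h2 : χ.range ≤ M22 := by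
    rw [MonoidHom.range_eq_map, ← C.perf, map_le_iff_le_comap]
    exact commutator_le.2 fun a _ b _ => by
      rw [mem_comap, map_commutatorElement]; exact comm_ext (h a) (h b)
  exact (eq_of_le_of_card_ge h2 (card_M22 ▸ Nat.le_of_dvd Nat.card_pos (C.dvd χ h1))).ge

variable [Finite G]

theorem core_b {M : MM G} (hM : M.Loc) (F : L →* G) (h1 : ∃ x, F x ≠ 1)
    (hF : ∀ x, F x * M.d (ofMask 8388609) = M.d (ofMask 8388609) * F x) {r : G}
    (hr : r * M.d (ofMask 8388609) = M.d (ofMask 8388609) * r) (c : ∀ x, F x * r = r * F x) :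
    r = 1 ∨ r = M.d (ofMask 8388609) := by
  have n : ∀ {g : G}, g * M.d (ofMask 8388609) = M.d (ofMask 8388609) * g → ∃ a, M.Ov g a := fun h =>
    MM.exists_ov (M.cent_duad_le hM card_S0 (mem_centralizer_singleton_iff.2 h))
  choose p hp using fun x => n (hF x)
  let χ : L →* Equiv.Perm GolayPt := M24.subtype.comp
    (MonoidHom.mk' p fun a b => (hp (a * b)).unique (map_mul F a b ▸ (hp a).mul (hp b)))
  have h2 := C.img χ (fun x => ⟨(p x).2, ofMask_pair ▸ ((hp x).fix_duad card_S0).1 (hF x)⟩) (by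
    by_contra k
    push Not at k
    have := (C.dvd F h1).trans (card_dvd_of_le (K := M.V) (by
      rintro _ ⟨x, rfl⟩; exact (hp x).mem_V_iff.2 (Subtype.ext (k x))))
    rw [M.card_V] at this
    norm_num at this)
  obtain ⟨a, ha⟩ := n hr
  have h3 : r ∈ M.V := ha.mem_V_iff.2 (Subtype.ext (cen22 a.2 fun y hy => by
    obtain ⟨x, rfl⟩ := h2 y hy
    exact congrArg Subtype.val ((ha.mul (hp x)).unique (c x ▸ (hp x).mul ha))))
  obtain ⟨x, e⟩ := h2 _ β_mem
  have h4 := hp x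
  rw [show p x = pm betaC from Subtype.ext (e.trans (coe_pm inM24_betaC).symm)] at h4
  refine fixV fix_beta h3 (mul_left_cancel (a := F x * (M.c (pm betaC))⁻¹) ?_)
  rw [← mul_assoc, inv_mul_cancel_right, ← mul_assoc, M.V_comm h4 h3, mul_assoc, inv_mul_cancel_right, c]

omit C in
theorem _root_.H59.SJ.ModR.fixv {m : Md G} {g0 g : G} {p a v : ℕ} (h0 : m.KR g0 p a) (hg : g ∈ m.H)
    (e : m.π g = permOf a) (hv : v < 4096) (c : g * m.s v = m.s v * g) :
    mv p v = v ∨ mv (mm p Om) v = v ∨ mv (mm p Om2) v = v := by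
  obtain ⟨x, hx, k, q, b, hk, rfl⟩ := m.dec_H' hg
  have h1 := hk.conj_s hx hv
  rw [c, mul_inv_cancel_right] at h1
  have h2 := (m.s_eq (a := 0) hv (mv_lt q v) (((pow_zero m.z).symm ▸ mul_one _ : m.s v * m.z ^ 0 = _).trans h1)).1.symm
  rcases h0.eq_of_perm hk (e.symm.trans (hk.π_sk hx)) with rfl | rfl | rfl <;> simp [h2]

theorem core_z (m : Md G) (F : L →* G) (h1 : ∃ x, F x ≠ 1) (hF : ∀ x, F x ∈ m.H) {r : G} (hr : r ∈ m.H)
    (r4 : r ^ 4 = 1) (c : ∀ x, F x * r = r * F x) : r = 1 ∨ r = m.z := by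
  have h2 := C.img (m.πH.comp (F.codRestrict _ hF)) (fun x => m.π_mem' (hF x)) (by
    by_contra k
    push Not at k
    have := (C.dvd F h1).trans (card_dvd_of_le (K := m.pre ⊥) (by
      rintro _ ⟨x, rfl⟩; exact m.mem_pre.2 ⟨hF x, k x⟩))
    rw [m.card_pre bot_le, card_bot] at this
    norm_num at this)
  have h3 : m.π r = 1 := cen22 (m.π_mem' hr).1 fun y hy => by
    obtain ⟨x, rfl⟩ := h2 y hy
    exact (m.π_mul' hr (hF x)).symm.trans (c x ▸ m.π_mul' (hF x) hr)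
  obtain ⟨v, hv, j, rfl⟩ := Md.mem_Q_of_sq hr h3 (Md.mem_Q_of_sq (mul_mem hr hr) (by rw [m.π_mul' hr hr, h3, one_mul])
    (by rw [show r * r * (r * r) = r ^ 4 by simp [pow_succ, mul_assoc], r4]; exact one_mem _))
  have k : ∀ x, F x * m.s v = m.s v * F x := fun x => mul_right_cancel (b := m.z ^ j) (by
    rw [mul_assoc, c x, mul_assoc, mul_assoc, m.zpow_comm (hF x)])
  obtain ⟨x, e⟩ := h2 _ β_mem
  obtain ⟨y, e'⟩ := h2 _ κ_mem
  have := (H54.allLt_iff _ _).1 (show H54.allLt (fun v => H54.bimp (H54.bor (Nat.beq (mv Um v) v)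
    (H54.bor (Nat.beq (mv (mm Um Om) v) v) (Nat.beq (mv (mm Um Om2) v) v))) (H54.bimp (H54.bor (Nat.beq (mv Km v) v)
    (H54.bor (Nat.beq (mv (mm Km Om) v) v) (Nat.beq (mv (mm Km Om2) v) v))) (Nat.beq v 0))) 4096 = true
      by decide +kernel) v hv
  simp only [H54.bimp_eq_true, H54.bor_eq_true, Nat.beq_eq] at this
  rw [this (fixv m.KR_u (hF x) e hv (k x)) (fixv m.KR_k (hF y) e' hv (k y)), m.s_zero, one_mul]
  exact m.zpow_cases j

theorem core [IsSimpleGroup G] (m : Md G) (F : L →* G) (h1 : ∃ x, F x ≠ 1) {u w : G}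
    (hu : ∀ x, F x * u = u * F x) (hw : ∀ x, F x * w = w * F x) (c : u * w = w * u) (u4 : u ^ 4 = 1)
    (w4 : w ^ 4 = 1) (u1 : u ≠ 1) (w1 : w ≠ 1) : u = w := by
  have key : ∀ i, i ≠ 1 → i * i = 1 → (∀ x, F x * i = i * F x) → ∀ r, r * i = i * r → r ^ 4 = 1 →
      (∀ x, F x * r = r * F x) → r = 1 ∨ r = i := fun i i1 i2 hi r ri r4 hr => by
    by_cases k : IsConj m.z i
    · obtain ⟨g, rfl⟩ := isConj_iff.1 k
      exact C.core_z (m.map (MulAut.conj g)) F h1 (fun x => (Md.mem_H _).2 (hi x)) ((Md.mem_H _).2 ri) r4 hr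
    · obtain ⟨g, rfl⟩ := m.exists_conj_duad i1 i2 k card_S0
      exact C.core_b (m.M_loc.conj g) F h1 hi ri hr
  by_cases k : u * u = 1
  · exact ((key u u1 k hu w c.symm w4 hw).resolve_left w1).symm
  · have k2 : u * u * (u * u) = 1 := by rw [← u4]; simp [pow_succ, mul_assoc]
    have := (key (u * u) k k2 (fun x => Commute.mul_right (hu x) (hu x)) u (mul_assoc _ _ _).symm u4 hu).resolve_left u1
    exact absurd (left_eq_mul.1 this) u1

end Cv

section
variable {G : Type*} [Group G] [Finite G]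

theorem gen1 {m : Md G} {S : Subgroup G} (hK : m.K0 ≤ S) (hn : ∀ h ∈ m.H, ∀ x ∈ S, h * x * h⁻¹ ∈ S) :
    m.pre M22 ≤ S := by
  refine gen0 hK ?_
  have h := mul_mem (hK m.ω_mem_K0) (hn _ (m.s_mem_H (v := 2) (by norm_num)) _ (inv_mem (hK m.ω_mem_K0)))
  rw [← mul_assoc, ← mul_assoc, m.ω_s 2 (by norm_num), m.s_inv (by norm_num), ← mul_assoc,
    m.s_mul _ _ (mv_lt _ _) (by norm_num), show mv Om 2 ^^^ 2 = 1 by decide +kernel, mul_assoc] at h
  exact (mul_mem_cancel_right (hK (mul_mem (pow_mem m.z_mem_K0 _) (pow_mem m.z_mem_K0 _)))).1 h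

theorem om_pair {i : ℕ} (hi : i < 23) : ofMask (2 ^ i ^^^ 2 ^ 23) = {pt i, none} := by
  rw [ofMask_xor', ofMask_two_pow (by omega), ofMask_two_pow (by norm_num), pt_23]
  have : pt i ≠ none := fun e => hi.ne (pt_inj (by omega) (by norm_num) (e.trans pt_23.symm))
  ext x
  simp only [Finset.mem_symmDiff, Finset.mem_insert, Finset.mem_singleton]
  grind

theorem gen2 (M : MM G) {S : Subgroup G}
    (h : ∀ y : M24, (y : Equiv.Perm GolayPt) ∈ M22 → ∀ v ∈ M.V, v * (M.c y * v * (M.c y)⁻¹) ∈ S) : M.V ≤ S := by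
  have hx : ∀ {a b}, M.d (ofMask a) ∈ S → M.d (ofMask b) ∈ S → M.d (ofMask (a ^^^ b)) ∈ S := fun i j => by
    rw [ofMask_xor', M.d_add]; exact mul_mem i j
  have ne : ∀ {i j}, i < 24 → j < 24 → i ≠ j → pt i ≠ pt j := fun a b c e => c (pt_inj a b e)
  have h1 : ∀ i j, 0 < i ∧ i < 23 ∧ 0 < j ∧ j < 23 →
      M.d (ofMask ((2 ^ i ^^^ 2 ^ 23) ^^^ (2 ^ j ^^^ 2 ^ 23))) ∈ S := fun i j ⟨i0, hi, j0, hj⟩ => by
    obtain ⟨g, hg, e1, e2, e3⟩ := M24_trans3 (a := pt 23) (b := pt 0) (c := pt i) (a' := pt 23) (b' := pt 0)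
      (c' := pt j) (by decide) (ne (by omega) (by omega) (by omega)) (ne (by omega) (by omega) (by omega))
      (by decide) (ne (by omega) (by omega) (by omega)) (ne (by omega) (by omega) (by omega))
    have := h ⟨g, hg⟩ (mem_M22.2 ⟨hg, e1, e2⟩) _ (M.d_mem {pt i, none})
    rwa [M.c_conj _ _ (by rw [← pt_23, Finset.card_pair (ne (by omega) (by omega) (by omega))]; decide),
      Finset.smul_finset_insert, Finset.smul_finset_singleton, Equiv.Perm.smul_def, Equiv.Perm.smul_def,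
      show g (pt i) = pt j from e3, show g none = none from e1, ← om_pair hi, ← om_pair hj, ← M.d_add,
      ← ofMask_xor'] at this
  have h2 : ∀ a, isOctad a = true → M.d (ofMask a) ∈ S := fun a ha => by
    have := ofMask_mem_octads ha
    rw [(M.d_eq_one _ (by rw [this.2]; decide)).2 (mem_octads_iff.1 this).1]; exact one_mem _
  have h3 := hx (hx (hx (h2 13938692 (by decide +kernel))
    (h1 12 13 (by decide))) (h1 15 18 (by decide))) (h1 20 22 (by decide))
  have h4 := hx (hx (hx (h2 13124355 (by decide +kernel)) (h1 1 8 (by decide))) (h1 9 14 (by decide)))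
    (h1 19 22 (by decide))
  rw [show _ ^^^ _ = 2 ^ 2 ^^^ 2 ^ 23 by decide +kernel] at h3
  rw [show _ ^^^ _ = 2 ^ 0 ^^^ 2 ^ 23 by decide +kernel] at h4
  have h5 : ∀ p, p ≠ none → M.d {p, none} ∈ S := fun p hp => by
    have hi : idx p < 23 := lt_of_le_of_ne (Nat.lt_succ_iff.1 (idx_lt p)) fun e => hp (by rw [← pt_idx p, e, pt_23])
    rw [← pt_idx p, ← om_pair hi]
    rcases (idx p).eq_zero_or_pos with e | e
    · rw [e]; exact h4
    · have := hx h3 (h1 2 _ ⟨by decide, by decide, e, hi⟩)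
      rwa [← Nat.xor_assoc, Nat.xor_self, Nat.zero_xor] at this
  intro v hv
  obtain ⟨T, hT, rfl⟩ := M.d_surj v hv
  refine even_induction (P := fun T => M.d T ∈ S) (M.d_empty ▸ one_mem _) (fun p q e => ?_)
    (fun a b i j => M.d_add a b ▸ mul_mem i j) T hT
  by_cases hq : q = none
  · subst hq; exact h5 p e
  by_cases hp : p = none
  · subst hp; rw [Finset.pair_comm]; exact h5 q hq
  rw [← symmDiff_pair e hp hq, M.d_add]
  exact mul_mem (h5 p hp) (h5 q hq)

theorem n4_of {D : Dt J4} {a : J4} {L : Type*} [Group L] {ρ : L →* M22} (C : Cv ρ) (ι : L →* J4)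
    (hι : ∀ x, ι x * a = a * ι x) (h : ∀ S : Subgroup J4, (∀ x, ι x ∈ S) →
      (∀ g, g * a = a * g → ∀ x ∈ S, g * x * g⁻¹ ∈ S) → D.V ≤ S) : D.N4 a := by
  intro f hf
  let F : centralizer ({a} : Set J4) →* J4 := MonoidHom.mk' (fun g => f g) fun g h =>
    hf _ _ (mem_centralizer_singleton_iff.1 g.2) (mem_centralizer_singleton_iff.1 h.2)
  let j : L →* centralizer ({a} : Set J4) := ι.codRestrict _ fun x => mem_centralizer_singleton_iff.2 (hι x)
  by_cases k : ∃ x, F.comp j x ≠ 1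
  · exact Or.inr fun u w hu hw => C.core mdJ (F.comp j) k (fun x => hu _ (hι x)) fun x => hw _ (hι x)
  push Not at k
  refine Or.inl fun v hv => ?_
  obtain ⟨x, hx, rfl⟩ := h (F.ker.map (Subgroup.subtype _)) (fun x => ⟨j x, k x, rfl⟩) (by
    rintro g hg _ ⟨x, hx, rfl⟩
    exact ⟨_, F.normal_ker.conj_mem x hx ⟨g, mem_centralizer_singleton_iff.2 hg⟩, rfl⟩) hv
  exact hx

end
end ModR
open ModR H15

theorem n4J (D : Dt J4) (hz : D.z = zJ) (hb : D.b = vel 3) (hV : D.V = MJ.V) : D.N4 D.z ∧ D.N4 D.b := by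
  rw [hz, hb]
  refine ⟨n4_of ⟨mdJ.φ0_surj, mdJ.center_K0.ge, comm_K0⟩ mdJ.K0.subtype (fun x => mdJ.mem_H.1 x.2.1)
    fun S h1 h2 => hV ▸ VJ_le.trans (gen1 (fun x hx => h1 ⟨x, hx⟩) fun h hh => h2 h (mdJ.mem_H.1 hh)), ?_⟩
  obtain ⟨k, hk, e⟩ := M24_trans_sets (s := ofMask 8388609) (t := ofMask 3) (by rw [card_S0]; decide)
    (card_S0.trans ModA.card3.symm)
  have e1 : (MJ.conj (MJ.c ⟨k, hk⟩)).d (ofMask 8388609) = vel 3 := by
    rw [MM.conj_d, MJ.c_conj _ _ (by rw [card_S0]; decide), e, ModA.vel3]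
  have e2 : (MJ.conj (MJ.c ⟨k, hk⟩)).V = MJ.V := MJ.conj_V_eq_iff.2 (MM.ov_c _).mem_norm
  generalize MJ.conj (MJ.c ⟨k, hk⟩) = M at e1 e2
  rw [← e1]
  refine n4_of (ρ := MonoidHom.id _) ⟨Function.surjective_id, by simp, M22_noncomm.1⟩
    (M.c.comp (inclusion (M22_le_ext.trans M22ext_le_M24))) (fun x => ((MM.ov_c _).fix_duad card_S0).2 ?_)
    fun S h1 h2 => hV ▸ e2 ▸ gen2 M fun y hy v hv => ?_
  · rw [ofMask_pair]; exact (M22_le_ext x.2).2
  · have := mul_mem (h2 v (M.V_comm hv (M.d_mem _)) _ (h1 ⟨y, hy⟩)) (inv_mem (h1 ⟨y, hy⟩))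
    rw [M.V_inv hv, mul_assoc, mul_assoc, ← mul_assoc _ v] at this
    exact this

end H59.SJ
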