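import Mathlib
import Cfsg.Agent.Base
import Cfsg.Agent.Lib.StdJ.Th
import Cfsg.Agent.Lib.StdW.A
import Cfsg.Prelude.Def_Local

/-! The centraliser of the standard subgroup has Sylow `2`-subgroups of order two. -/

set_option autoImplicit false
set_option linter.unusedSectionVars false

namespace H59.SJ

open Subgroup H69 H36.SW

variable {X : Type} [Group X] [Finite X] {G : Type*} [Group G] [Finite G] {D : Dt X}

namespace Red2

/-- `π n` is the element of `X ≅ A` which acts as `n` -/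
structure Pr (A : Subgroup G) (ι : X →* G) (π : G → X) : Prop where
  inj : Function.Injective ι
  mem : ∀ x, ι x ∈ A
  on : ∀ a ∈ A, ∃ x, ι x = a
  act : ∀ n ∈ 𝐍(A), ∀ y, n * ι y * n⁻¹ = ι (π n * y * (π n)⁻¹)
  cen1 : ∀ x : X, (∀ y, y * x = x * y) → x = 1

theorem exists_Pr (F : Fa D) {A : Subgroup G} (e : A ≃* X) :
    ∃ π, Pr A (A.subtype.comp e.symm.toMonoidHom) π := by
  have : ∀ n : G, ∃ x : X, n ∈ 𝐍(A) → ∀ y, n * (e.symm y : G) * n⁻¹ = e.symm (x * y * x⁻¹) := fun n => by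
    by_cases hn : n ∈ 𝐍(A)
    · obtain ⟨x, hx⟩ := F.aut (e.symm.trans ((A.normalizerMonoidHom ⟨n, hn⟩).trans e))
      refine ⟨x, fun _ y => ?_⟩
      rw [← hx y]
      exact (congrArg Subtype.val (e.symm_apply_apply (A.normalizerMonoidHom ⟨n, hn⟩ (e.symm y)))).symm
    · exact ⟨1, fun h => absurd h hn⟩
  choose π hπ using this
  exact ⟨π, A.subtype_injective.comp e.symm.injective, fun x => (e.symm x).2,
    fun l hl => ⟨e ⟨l, hl⟩, congrArg Subtype.val (e.symm_apply_apply _)⟩, hπ, fun _ => F.cen1⟩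

namespace Pr

variable {A : Subgroup G} {ι : X →* G} {π : G → X} (p : Pr A ι π)
include p

theorem cj (g : G) : Pr (A ^ᶜ g) ((MulAut.conj g).toMonoidHom.comp ι) fun n => π (g⁻¹ * n * g) where
  inj := (MulAut.conj g).injective.comp p.inj
  mem x := cj_mem g (p.mem x)
  on a ha := by
    obtain ⟨a, ha', rfl⟩ := mem_cj'.1 ha
    obtain ⟨x, rfl⟩ := p.on a ha'
    exact ⟨x, rfl⟩
  act n hn y := by
    rw [← cj_normalizer, mem_cj] at hn
    change n * (g * ι y * g⁻¹) * n⁻¹ = g * ι _ * g⁻¹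
    rw [← p.act _ hn]; group
  cen1 := p.cen1

theorem eq {n : G} {x : X} (hn : n ∈ 𝐍(A)) (h : ∀ y, n * ι y * n⁻¹ = ι (x * y * x⁻¹)) : π n = x :=
  (inv_mul_eq_one.1 (p.cen1 _ fun y => by
    have := p.inj ((p.act n hn y).symm.trans (h y))
    calc _ = x⁻¹ * (x * y * x⁻¹) * π n := by group
      _ = _ := by rw [← this]; group)).symm

theorem mul {n m : G} (hn : n ∈ 𝐍(A)) (hm : m ∈ 𝐍(A)) : π (n * m) = π n * π m :=
  p.eq (mul_mem hn hm) fun y => by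
    rw [show n * m * ι y * (n * m)⁻¹ = n * (m * ι y * m⁻¹) * n⁻¹ by group, p.act m hm, p.act n hn]
    congr 1; group

theorem nι (x : X) : ι x ∈ 𝐍(A) := le_normalizer (p.mem x)

theorem πι (x : X) : π (ι x) = x := p.eq (p.nι x) fun y => by rw [map_mul, map_mul, map_inv]

theorem one : π 1 = 1 := by rw [← map_one ι, p.πι]

theorem ker {n : G} (hn : n ∈ 𝐍(A)) : π n = 1 ↔ n ∈ 𝐂(A) := by
  refine ⟨fun h a ha => ?_, fun h => p.eq hn fun y => ?_⟩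
  · obtain ⟨y, rfl⟩ := p.on a ha
    have := p.act n hn y
    rw [h, one_mul, inv_one, mul_one] at this
    exact (mul_inv_eq_iff_eq_mul.1 this).symm
  · rw [one_mul, inv_one, mul_one, ← h _ (p.mem y), mul_inv_cancel_right]

theorem inv {n : G} (hn : n ∈ 𝐍(A)) : π n⁻¹ = (π n)⁻¹ :=
  eq_inv_of_mul_eq_one_left (by rw [← p.mul (inv_mem hn) hn, inv_mul_cancel, p.one])

theorem four {n : G} (hn : n ∈ 𝐍(A)) (h : n ^ 4 = 1) : π n ^ 4 = 1 := by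
  have h2 := mul_mem hn hn
  rw [show 4 = 2 * 2 from rfl, pow_mul, pow_two, pow_two] at h ⊢
  rw [← p.mul hn hn, ← p.mul h2 h2, h, p.one]

theorem dec {n : G} (hn : n ∈ 𝐍(A)) : n * (ι (π n))⁻¹ ∈ 𝐂(A) :=
  (p.ker (mul_mem hn (inv_mem (p.nι _)))).1 (by
    rw [p.mul hn (inv_mem (p.nι _)), p.inv (p.nι _), p.πι, mul_inv_cancel])

theorem cm {n m : G} (hn : n ∈ 𝐍(A)) (hm : m ∈ 𝐍(A)) (c : n * m = m * n) : π n * π m = π m * π n := by
  rw [← p.mul hn hm, c, p.mul hm hn]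

theorem exW0 (st : H36.SW.A.St A) {t : G} (ht : t ∈ 𝐂(A)) (t2 : t * t = 1) (t1 : t ≠ 1)
    (hS : IsSylowIn 2 (zpowers t) 𝐂(A)) : ∃ O, W0 t O ι := by
  obtain ⟨O, h1, h2, h3⟩ := H36.SW.A.exists_O (C := 𝐂(A) ⊓ centralizer {t}) t2
    (hS.mono (zpowers_le.2 ⟨ht, mem_centralizer_singleton_iff.2 rfl⟩) inf_le_left)
    fun k hk => mem_centralizer_singleton_iff.1 hk.2
  refine ⟨O, p.inj, t2, t1, fun x => ht _ (p.mem x), fun o ho x => (h1 ho).1 _ (p.mem x),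
    fun o ho => mem_centralizer_singleton_iff.1 (h1 ho).2, h2, fun g e => ?_⟩
  have gN := st.T g t ht (P2.of_sq t2) t1 (by rwa [e, mul_inv_cancel_right])
  have c : Commute (g * (ι (π g))⁻¹) t :=
    Commute.mul_left e (Commute.inv_left (ht _ (p.mem _)))
  rcases h3 _ ⟨p.dec gN, mem_centralizer_singleton_iff.2 c⟩ with h | h
  · exact ⟨_, h, π g, .inl (by rw [inv_mul_cancel_right])⟩
  · exact ⟨_, h, π g, .inr (by rw [mul_assoc _ t t, t2, mul_one, inv_mul_cancel_right])⟩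

/-- `ι V` does not centralise a proper conjugate of `A` -/
theorem notV (F : Fa D) (st : H36.SW.A.St A) {g : G} (gN : g ∉ 𝐍(A)) (h : ∀ v ∈ D.V, ι v ∈ 𝐂(A ^ᶜ g)) : False := by
  obtain ⟨ι', π', p'⟩ : ∃ ι' π', Pr (X := X) (A ^ᶜ g) ι' π' := ⟨_, _, p.cj g⟩
  have i1 : ∀ {v}, v ≠ 1 → ι v ≠ 1 := fun h e => h (p.inj (e.trans (map_one ι).symm))
  have i2 : ∀ v ∈ D.V, ι v * ι v = 1 := fun v hv => by rw [← map_mul, F.sqV v hv, map_one]
  have KN : ∀ r ∈ 𝐂(A), r ∈ 𝐍(A ^ᶜ g) := fun r hr => st.T' g (h _ F.zV) (P2.of_sq (i2 _ F.zV)) (i1 F.z1) (by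
    rw [← hr _ (p.mem _), mul_inv_cancel_right]; exact h _ F.zV)
  have rK : ∀ v ∈ D.V, g⁻¹ * ι v * g ∈ 𝐂(A) := fun v hv => mem_cj.1 (cj_centralizer A g ▸ h v hv)
  have r2 : ∀ v ∈ D.V, g⁻¹ * ι v * g * (g⁻¹ * ι v * g) = 1 := fun v hv => by
    simpa using cjsq (i2 v hv) g⁻¹
  let μ : D.V →* X := MonoidHom.mk' (fun v => π' (g⁻¹ * ι v * g)) fun u v => by
    rw [← p'.mul (KN _ (rK _ u.2)) (KN _ (rK _ v.2)), coe_mul, map_mul]; congr 1; group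
  have hμ : Function.Injective μ := (injective_iff_map_eq_one μ).2 fun v hv => Subtype.ext (by
    by_contra v1
    exact cjne' (i1 v1) g (st.two gN (rK _ v.2) ((p'.ker (KN _ (rK _ v.2))).1 hv) (P2.of_sq (r2 _ v.2))))
  obtain ⟨j, hj⟩ := F.eaX (E := μ.range) (by
      rintro _ ⟨v, rfl⟩
      rw [← map_mul, show v * v = 1 from Subtype.ext (F.sqV _ v.2), map_one])
    (by rw [← F.cV, Nat.card_congr (MonoidHom.ofInjective hμ).toEquiv])
  have hP := F.genC (𝐍(A).comap (ι'.comp (MulAut.conj j⁻¹).toMonoidHom)) fun v hv v1 y c => by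
    obtain ⟨u, hu⟩ : j⁻¹ * v * j ∈ μ.range := mem_cj.1 (hj.ge hv)
    have e : π' (g⁻¹ * ι u * g) = j⁻¹ * v * j := hu
    have h1 := p'.act _ (KN _ (rK _ u.2)) (j⁻¹ * y * j⁻¹⁻¹)
    rw [e, show j⁻¹ * v * j * (j⁻¹ * y * j⁻¹⁻¹) * (j⁻¹ * v * j)⁻¹ = j⁻¹ * (v * y * v⁻¹) * j⁻¹⁻¹ by group,
      ← c, mul_inv_cancel_right, mul_inv_eq_iff_eq_mul] at h1
    refine st.T (ι' (j⁻¹ * y * j⁻¹⁻¹)) _ (rK _ u.2) (P2.of_sq (r2 _ u.2)) (fun e1 => ?_) (by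
      rw [← h1, mul_inv_cancel_right]; exact rK _ u.2)
    rw [e1, p'.one] at e
    exact cjne' v1 j e.symm
  have AN : ∀ x, ι' x ∈ 𝐍(A) := fun x => by
    have : ι' (j⁻¹ * (j * x * j⁻¹) * j⁻¹⁻¹) ∈ 𝐍(A) := hP.ge (mem_top (j * x * j⁻¹))
    rwa [show j⁻¹ * (j * x * j⁻¹) * j⁻¹⁻¹ = x by group] at this
  let q : X →* X := MonoidHom.mk' (fun x => π (ι' x)) fun x y => by rw [map_mul, p.mul (AN x) (AN y)]
  have qV : ∀ x, q x ∈ D.V := fun x => F.ceV _ fun v hv => by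
    have := p.cm (AN x) (p.nι v) (h v hv _ (p'.mem x))
    rwa [p.πι] at this
  have hq : commutator X ≤ q.ker := commutator_le.2 fun a _ b _ => by
    rw [MonoidHom.mem_ker, map_commutatorElement]
    exact commutatorElement_eq_one_iff_mul_comm.2 (F.cm (qV a) (qV b))
  refine st.S g (le_centralizer_iff.1 fun a ha => ?_)
  obtain ⟨x, rfl⟩ := p'.on a ha
  exact (p.ker (AN x)).1 (hq (F.perf ▸ mem_top x))

theorem main (F : Fa D) (st : H36.SW.A.St A) {g k : G} (b : H36.SW.A.Bad A g k) {a : X} (aV : a ∈ D.V) (a1 : a ≠ 1)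
    (ha : D.N4 a) (ea : π (g * k * g⁻¹) = a) :
    ∃ (t : G) (O : Subgroup G), W0 t O ι ∧ ∃ g a, a ≠ 1 ∧ a * a = 1 ∧ g * t * g⁻¹ = t * ι a := by
  obtain ⟨ι', π', p'⟩ : ∃ ι' π', Pr (X := X) (A ^ᶜ g) ι' π' := ⟨_, _, p.cj g⟩
  obtain ⟨κ, hκ, es⟩ : ∃ κ ∈ 𝐂(A), g * k * g⁻¹ = κ * ι a :=
    ⟨_, p.dec b.sN, by rw [ea, inv_mul_cancel_right]⟩
  have a2 := F.sqV a aV
  have κ2 : κ * κ = 1 := by
    have := cjsq b.k2 g
    rwa [es, Commute.mul_mul_mul_comm (hκ _ (p.mem a)), ← map_mul, a2, map_one, mul_one] at this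
  have sK : g * k * g⁻¹ ∈ 𝐂(A ^ᶜ g) := cj_centralizer A g ▸ cj_mem g b.kK
  have CN : ∀ x, x * κ = κ * x → x * ι a = ι a * x → x ∈ 𝐍(A ^ᶜ g) := fun x h1 h2 =>
    st.T' g sK ((P2.of_sq b.k2).conj g) (cjne b.k1 g) (by
      rw [es, (Commute.mul_right h1 h2).eq, mul_inv_cancel_right, ← es]; exact sK)
  have iN : ∀ c, c * a = a * c → ι c ∈ 𝐍(A ^ᶜ g) := fun c e =>
    CN _ (hκ _ (p.mem c)) (by rw [← map_mul, e, map_mul])
  rcases ha (fun c => π' (ι c)) (fun c c' h h' => by rw [map_mul, p'.mul (iN c h) (iN c' h')]) with H | H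
  · exact (p.notV F st b.gN fun v hv => (p'.ker (iN v (F.cm hv aV))).1 (H v hv)).elim
  have syl : ∀ {t : G}, t ∈ 𝐂(A) → t * t = 1 → t ≠ 1 → IsSylowIn 2 (zpowers t) 𝐂(A) :=
    H36.SW.A.syl2 b.kK b.k2 b.k1 hκ κ2 fun u hu v hv uk vk uv u4 v4 u1 v1 => by
      have uN := CN u uk (hu _ (p.mem a)).symm
      have vN := CN v vk (hv _ (p.mem a)).symm
      have := H (π' u) (π' v) (fun c e => p'.cm (iN c e) uN (hu _ (p.mem c)))
        (fun c e => p'.cm (iN c e) vN (hv _ (p.mem c))) (p'.cm uN vN uv) (p'.four uN u4) (p'.four vN v4)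
        (fun e => u1 (st.two b.gN hu ((p'.ker uN).1 e) (P2.of_four u4)))
        fun e => v1 (st.two b.gN hv ((p'.ker vN).1 e) (P2.of_four v4))
      exact inv_mul_eq_one.1 (st.two b.gN (mul_mem (inv_mem hu) hv)
        ((p'.ker (mul_mem (inv_mem uN) vN)).1 (by rw [p'.mul (inv_mem uN) vN, p'.inv uN, this, inv_mul_cancel]))
        ((P2.of_four u4).inv.mul (P2.of_four v4) (Commute.inv_left uv)))
  have κ1 : κ ≠ 1 := fun e => by
    obtain ⟨O, w⟩ := p.exW0 st b.kK b.k2 b.k1 (syl b.kK b.k2 b.k1)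
    exact w.not_conj F g a (by rw [es, e, one_mul])
  obtain ⟨O, w⟩ := p.exW0 st hκ κ2 κ1 (syl hκ κ2 κ1)
  obtain ⟨d, -, e⟩ := (syl hκ κ2 κ1).conj (syl b.kK b.k2 b.k1)
  have e1 : d * κ * d⁻¹ = k :=
    ((mem_zp b.k2).1 (e ▸ cj_mem d (mem_zpowers κ))).resolve_left (cjne κ1 d)
  exact ⟨κ, O, w, g * d, a, a1, a2, by rw [← es, ← e1]; group⟩

theorem shift {g k : G} (b : H36.SW.A.Bad A g k) {j a : X} (e : j * a * j⁻¹ = π (g * k * g⁻¹)) :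
    ∃ g', H36.SW.A.Bad A g' k ∧ π (g' * k * g'⁻¹) = a := by
  have lN := inv_mem (p.nι j)
  have e1 : (ι j)⁻¹ * g * k * ((ι j)⁻¹ * g)⁻¹ = (ι j)⁻¹ * (g * k * g⁻¹) * ι j := by group
  refine ⟨(ι j)⁻¹ * g, ⟨fun h => b.gN ((mul_mem_cancel_left lN).1 h), b.kK, b.k2, b.k1,
    e1 ▸ mul_mem (mul_mem lN b.sN) (p.nι j)⟩, ?_⟩
  rw [e1, p.mul (mul_mem lN b.sN) (p.nι j), p.mul lN b.sN, p.inv (p.nι j), p.πι, ← e]; group

end Pr

end Red2

theorem red2 (F : Fa D) (hz : D.N4 D.z) (hb : D.N4 D.b) {A : Subgroup G} (hA : Cfsg.IsStandardSubgroup A)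
    (e : A ≃* X) {g k : G} (h : H36.SW.A.Bad A g k) :
    ∃ (t : G) (O : Subgroup G), W0 t O (A.subtype.comp e.symm.toMonoidHom) ∧
      ∃ g a, a ≠ 1 ∧ a * a = 1 ∧ g * t * g⁻¹ = t * (A.subtype.comp e.symm.toMonoidHom) a := by
  obtain ⟨π, p⟩ := Red2.exists_Pr F e
  have st := H36.SW.A.St.of hA
  rcases F.inv (π (g * k * g⁻¹)) (by rw [← p.mul h.sN h.sN, cjsq h.k2, p.one])
    (fun e => h.gN (st.T g k h.kK (P2.of_sq h.k2) h.k1 ((p.ker h.sN).1 e))) with ⟨j, hj⟩ | ⟨j, hj⟩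
  · obtain ⟨g', b, e⟩ := p.shift h hj
    exact p.main F st b F.zV F.z1 hz e
  · obtain ⟨g', b, e⟩ := p.shift h hj
    exact p.main F st b F.bV F.b1 hb e

end H59.SJ
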