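import Mathlib
import Cfsg.Agent.Base
import Cfsg.Agent.Lib.StdJ.Th

/-! The halves of the elements of `V` commute, after a change of sign. -/

set_option autoImplicit false
set_option linter.unusedSectionVars false

namespace H59.SJ

open Subgroup H69 H36.SW

variable {X : Type} [Group X] [Finite X] {G : Type*} [Group G] [Finite G] {D : Dt X}
variable {t : G} {O : Subgroup G} {ι : X →* G} {z0 : G}

namespace Sgn

/-- `g` centralises `ι V` and moves `t` to `t a` -/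
def Mv (D : Dt X) (t : G) (ι : X →* G) (g : G) (a : X) : Prop :=
  a ∈ D.V ∧ (∀ v ∈ D.V, ι v * g = g * ι v) ∧ g * t * g⁻¹ = t * ι a

theorem Mv.mul {g g' : G} {a a' : X} (h : Mv D t ι g a) (h' : Mv D t ι g' a') : Mv D t ι (g * g') (a * a') :=
  ⟨mul_mem h.1 h'.1, fun v hv => ((show Commute (ι v) g from h.2.1 v hv).mul_right (h'.2.1 v hv)).eq, by
    calc _ = g * (g' * t * g'⁻¹) * g⁻¹ := by group
      _ = g * t * g⁻¹ * (g * ι a' * g⁻¹) := by rw [h'.2.2]; group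
      _ = _ := by rw [h.2.2, ← h.2.1 a' h'.1, map_mul]; group⟩

theorem Mv.inv (F : Fa D) {g : G} {a : X} (h : Mv D t ι g a) : Mv D t ι g⁻¹ a :=
  ⟨h.1, fun v hv => (show Commute (ι v) g from h.2.1 v hv).inv_right.eq, by
    have : g * (t * ι a) * g⁻¹ = t := by
      rw [← mul_assoc, mul_assoc _ _ g⁻¹, (show Commute (ι a) g from h.2.1 a h.1).inv_right.eq, ← mul_assoc, h.2.2,
        mul_assoc, ← map_mul, F.sqV a h.1, map_one, mul_one]
    conv_lhs => rw [← this]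
    group⟩

theorem Mv.ct {g : G} (h : Mv D t ι g 1) : g * t = t * g :=
  mul_inv_eq_iff_eq_mul.1 (by rw [h.2.2, map_one, mul_one])

theorem mv (w : W2 D t O ι z0) (F : Fa D) (H : Fh D) {a : X} {x : G} (h : Hf D ι z0 a x) (ha : a ∈ D.V) :
    Mv D t ι x a := ⟨ha, fun _ hv => w.hf_V F H h ha hv, w.hf_t h⟩

/-- the commutator of the halves of `a` and `a'` is `l` -/
def Lr (D : Dt X) (ι : X →* G) (z0 : G) (a a' l : X) : Prop :=
  ∀ x x', Hf D ι z0 a x → Hf D ι z0 a' x' → x * x' * x⁻¹ * x'⁻¹ = ι l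

theorem Lr.cj {a a' l : X} (h : Lr D ι z0 a a' l) (g : X) :
    Lr D ι z0 (g * a * g⁻¹) (g * a' * g⁻¹) (g * l * g⁻¹) := fun x x' hx hx' => by
  have := h _ _ (by simpa [mul_assoc] using hx.cj g⁻¹) (by simpa [mul_assoc] using hx'.cj g⁻¹)
  rw [map_mul, map_mul, map_inv, ← this]
  group

theorem Lr.uniq (w : W0 t O ι) {a a' l l' : X} (h : Lr D ι z0 a a' l) (h' : Lr D ι z0 a a' l') (ha : D.A a)
    (ha' : D.A a') : l = l' :=
  let ⟨_, hx⟩ := Hf.ex (ι := ι) (z0 := z0) ha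
  let ⟨_, hx'⟩ := Hf.ex (ι := ι) (z0 := z0) ha'
  w.inj ((h _ _ hx hx').symm.trans (h' _ _ hx hx'))

theorem Lr.sym {a a' l : X} (h : Lr D ι z0 a a' l) : Lr D ι z0 a' a l⁻¹ := fun x x' hx hx' => by
  rw [map_inv, ← h _ _ hx' hx]; group

theorem Lr.cm {a a' : X} (h : Lr D ι z0 a a' 1) {x x' : G} (hx : Hf D ι z0 a x) (hx' : Hf D ι z0 a' x') :
    Commute x x' := by
  have := h _ _ hx hx'
  rwa [map_one, mul_inv_eq_one, mul_inv_eq_iff_eq_mul] at this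

theorem Lr.ty1 {q a a' : X} (h : Lr D ι z0 D.z q 1) (y : D.Ty q a a') : Lr D ι z0 a a' 1 := by
  obtain ⟨g, rfl, rfl⟩ := y
  simpa using h.cj g

theorem Lr.ty2 {q a a' : X} (h : Lr D ι z0 D.z q (D.z * q)) (y : D.Ty q a a') : Lr D ι z0 a a' (a * a') := by
  obtain ⟨g, rfl, rfl⟩ := y
  exact conj_mul (b := g) ▸ h.cj g

variable (w : W2 D t O ι z0) (F : Fa D) (H : Fh D)
include w F H

theorem exL {a a' : X} (ha : a ∈ D.V) (ha' : a' ∈ D.V) (hA : D.A a) (hA' : D.A a') :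
    ∃ l ∈ D.V, Lr D ι z0 a a' l := by
  obtain ⟨x, hx⟩ := Hf.ex (ι := ι) (z0 := z0) hA
  obtain ⟨x', hx'⟩ := Hf.ex (ι := ι) (z0 := z0) hA'
  have m := mv w F H hx ha
  have m' := mv w F H hx' ha'
  have mc := ((m.mul m').mul (m.inv F)).mul (m'.inv F)
  rw [mul_assoc (a * a'), F.sqV _ (mul_mem ha ha')] at mc
  obtain ⟨k, l, e, kL, hk⟩ := w.cen' mc.ct
  have hl : l ∈ D.V := F.ceV l fun v hv => (w.comm_of kL (e ▸ mc.2.1 v hv)).symm
  have c2 : Commute (x * x) x' := by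
    rcases w.hf_sq hx with ⟨-, c⟩ | ⟨-, c⟩ <;> rw [c]
    exacts [Commute.one_left _, m'.2.1 a ha]
  have e1 : x * k * x⁻¹ * k = 1 := by
    calc _ = x * k * x⁻¹ * k * (ι l * ι l) := by rw [← map_mul, F.sqV l hl, map_one, mul_one]
      _ = x * k * x⁻¹ * (k * ι l) * ι l := by simp only [mul_assoc]
      _ = x * k * (x⁻¹ * ι l) * (k * ι l) := by nth_rw 1 [← kL l]; simp only [mul_assoc]
      _ = x * (k * ι l) * x⁻¹ * (k * ι l) := by
          rw [← (show Commute (ι l) x from m.2.1 l hl).inv_right.eq]; group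
      _ = x * x * x' * (x * x)⁻¹ * x'⁻¹ := by rw [← e]; group
      _ = 1 := by rw [c2.eq]; group
  have k1 : k = 1 := by
    rcases hk with hk | ⟨o, ho, rfl⟩
    · rw [← w.hf_O hx hk, mul_inv_cancel_right] at e1
      exact (P2.of_sq e1).eq_one (w.oddO k hk)
    · have e2 : o * o * ι a = 1 := by
        rw [← e1, ← mul_assoc x, ← w.hf_O hx ho, mul_assoc o x, mul_assoc o (x * t), w.hf_t hx, mul_assoc o (t * _),
          ← w.tL, w.Ot o ho, mul_assoc (ι a), w.tt, w.OL o ho, mul_assoc]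
      have := (odd_mul_eq_one (w.oddO _ (O.mul_mem ho ho)) (P2.of_sq (by rw [← map_mul, F.A2 hA, map_one])) e2).2
      exact absurd (w.inj (this.trans (map_one ι).symm)) (F.A1 hA)
  rw [k1, one_mul] at e
  refine ⟨l, hl, fun y y' hy hy' => ?_⟩
  have c1 : ∀ u, Commute (ι a) u → x * ι a * u * (x * ι a)⁻¹ = x * u * x⁻¹ := fun u c => by
    rw [mul_assoc x, c.eq]; group
  have c3 : x * (x' * ι a') * x⁻¹ * (x' * ι a')⁻¹ = x * x' * x⁻¹ * x'⁻¹ := by
    rw [← mul_assoc, mul_assoc _ (ι a'), (show Commute (ι a') x from m.2.1 a' ha').inv_right.eq]; group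
  have c4 : Commute (ι a) x' := m'.2.1 a ha
  rcases w.hf_two F H hx hy with rfl | rfl <;> rcases w.hf_two F H hx' hy' with rfl | rfl
  · exact e
  · exact c3.trans e
  · rw [c1 _ c4, e]
  · rw [c1 _ (c4.mul_right (Commute.map (F.cm ha ha') ι)), c3, e]

theorem exQ (F' : Fv D) {q : X} (hq : q ∈ [D.q1, D.q2, D.q3]) :
    Lr D ι z0 D.z q 1 ∨ Lr D ι z0 D.z q (D.z * q) := by
  obtain ⟨qV, qz⟩ := F'.qV q hq
  obtain ⟨l, hl, h⟩ := exL w F H F.zV qV Dt.Az (F'.qA hq)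
  obtain ⟨σ, s1, s2⟩ := F'.sw q hq
  have e : σ * l * σ⁻¹ = l :=
    (Lr.uniq w.toW0 (s1 ▸ s2 ▸ h.cj σ) h.sym (F'.qA hq) Dt.Az).trans (isv (F.sqV l hl))
  rcases F'.k q hq l hl fun g g1 g2 => mul_inv_eq_iff_eq_mul.1 (Lr.uniq w.toW0 (by
    have := h.cj g
    rwa [g1, g2, mul_inv_cancel_right, mul_inv_cancel_right] at this) h Dt.Az (F'.qA hq)) with c | c | c | c
  · exact .inl (c ▸ h)
  · exact absurd (by rw [← s1, ← c, e]) qz
  · exact absurd (by rw [← s2, ← c, e]) qz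
  · exact .inr (c ▸ h)

omit H in
theorem flip : W2 D t O ι (t * z0) where
  toW0 := w.toW0
  zt := by
    calc _ = t * (z0 * t * z0⁻¹) * t⁻¹ := by group
      _ = _ := by rw [w.zt, w.tt, w.ti, w.tL]
  zH u hu := ((show Commute (ι u) t from w.tL u).mul_right (w.zH u hu)).eq
  zO o ho := ((show Commute o t from w.Ot o ho).mul_right (w.zO o ho)).eq
  zz := by
    have : t * z0 * (t * z0) = ι D.z * (z0 * z0) := by
      calc _ = t * (z0 * t * z0⁻¹) * (z0 * z0) := by group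
        _ = _ := by rw [w.zt, w.tt]
    rw [this]
    exact w.zz.symm.imp (fun e => by rw [e, ← map_mul, F.z2, map_one]) fun e => by rw [e, mul_one]

theorem flipL {a a' : X} (ha : a ∈ D.V) (h : Lr D ι z0 a a' (a * a')) :
    Lr D ι (t * z0) a a' 1 := by
  have k : ∀ {a y}, Hf D ι (t * z0) a y → ∃ x, Hf D ι z0 a x ∧ y = t * x := fun ⟨j, e, e'⟩ =>
    ⟨_, ⟨j, e, rfl⟩, by rw [e', ← mul_assoc, w.tL]; group⟩
  intro y y' hy hy'
  obtain ⟨x, hx, rfl⟩ := k hy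
  obtain ⟨x', hx', rfl⟩ := k hy'
  calc _ = t * (x * t * x⁻¹) * (x * x' * x⁻¹ * x'⁻¹) * (t * (x' * t * x'⁻¹))⁻¹ * (t * t) * (t * t)⁻¹ := by
        conv_lhs => rw [mul_inv_rev, mul_inv_rev, w.ti]
        rw [w.t2, mul_inv_rev, w.ti]
        nth_rw 3 [← w.ti]
        group
    _ = _ := by
      rw [w.hf_t hx, w.hf_t hx', h _ _ hx hx', w.tt, w.tt, w.t2, map_mul, ← mul_assoc, ← map_mul, F.sqV a ha]
      simp

theorem fin (F' : Fv D) (h1 : Lr D ι z0 D.z D.q1 1) {q : X} (hq : q ∈ [D.q2, D.q3]) : Lr D ι z0 D.z q 1 := by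
  have hq' : q ∈ [D.q1, D.q2, D.q3] := List.mem_cons_of_mem _ hq
  refine (exQ w F H F' hq').resolve_right fun h => ?_
  obtain ⟨u, hu, y1, y2, y3, y4, y5⟩ := F'.bi q hq
  have qV := (F'.qV q hq').1
  have hA : D.A (u * q) := let ⟨g, _, e⟩ := y5; e ▸ (F'.qA hq').cj g
  obtain ⟨xu, h2⟩ := Hf.ex (ι := ι) (z0 := z0) y2.A
  obtain ⟨xq, h3⟩ := Hf.ex (ι := ι) (z0 := z0) y4.A
  obtain ⟨xp, h4⟩ := Hf.ex (ι := ι) (z0 := z0) hA
  have c1 := (h1.ty1 y1).cm Hf.base h2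
  have c2 := (h1.ty1 y2).cm h2 h3
  have c3 := (h1.ty1 y3).cm h2 h4
  have c4 := (h1.ty1 y4).cm h3 h4
  have m2 := mv w F H h2 hu
  have m3 := mv w F H h3 qV
  have m := (m2.mul m3).mul (mv w F H h4 (mul_mem hu qV))
  rw [F.sqV _ (mul_mem hu qV)] at m
  obtain ⟨δ, hδ, e⟩ := w.inV F (((P2.of_four (w.hf_P2 F h2)).mul (P2.of_four (w.hf_P2 F h3)) c2).mul
    (P2.of_four (w.hf_P2 F h4)) (c3.mul_left c4)) m.ct m.2.1 m2.2.2 (F.A1 y2.A) m2.2.1
    (((Commute.refl xu).mul_right c2).mul_right c3)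
  have c5 : Commute z0 (xq * xp) := by
    have : Commute z0 (xu * xq * xp) := e ▸ (w.hf_V F H Hf.base F.zV hδ).symm
    simpa [mul_assoc] using c1.inv_right.mul_right this
  have e1 := h _ _ Hf.base h3
  have e2 := h.ty2 y5 _ _ Hf.base h4
  have e3 : ι (D.z * q) * ι (D.z * (u * q)) = 1 := by
    calc _ = ι (D.z * q) * (xq * ι (D.z * (u * q)) * xq⁻¹) := by
          rw [← m3.2.1 _ (mul_mem F.zV (mul_mem hu qV)), mul_inv_cancel_right]
      _ = z0 * (xq * xp) * z0⁻¹ * (xq * xp)⁻¹ := by rw [← e1, ← e2]; group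
      _ = 1 := by rw [c5.eq]; group
  rw [← map_mul, ← map_one ι] at e3
  have e4 := w.inj e3
  rw [F.cm hu qV, ← mul_assoc D.z q u, ← mul_assoc, F.sqV _ (mul_mem F.zV qV), one_mul] at e4
  exact F.A1 y2.A e4

end Sgn

open Sgn

theorem W2.exists_Wc (F : Fa D) (H : Fh D) (F' : Fv D) {z0 : G} (w : W2 D t O ι z0) :
    ∃ z1, Wc D t O ι z1 := by
  obtain ⟨z1, w, h1⟩ : ∃ z1, W2 D t O ι z1 ∧ Lr D ι z1 D.z D.q1 1 :=
    (exQ w F H F' (q := D.q1) (by simp)).elim (fun h => ⟨z0, w, h⟩) fun h =>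
      ⟨_, flip w F, flipL w F H F.zV h⟩
  refine ⟨z1, w, fun a ha a' ha' x x' hx hx' => ?_⟩
  rcases F'.cls' F ha ha' hx.A hx'.A with rfl | y | y | y
  · rcases w.hf_two F H hx hx' with rfl | rfl
    exacts [rfl, ((Commute.refl x).mul_right (w.hf_V F H hx ha ha).symm).eq]
  · exact ((h1.ty1 y).cm hx hx').eq
  · exact (((fin w F H F' h1 (by simp)).ty1 y).cm hx hx').eq
  · exact (((fin w F H F' h1 (by simp)).ty1 y).cm hx hx').eq

theorem Sgn.eqns : True := by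
  have := @Mv.eq_1.{0}
  have := @Lr.eq_1.{0}
  trivial

end H59.SJ
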