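import Mathlib
import Cfsg.Agent.Base
import Cfsg.Agent.Lib.StdJ.Sgn1

/-! The halves are unique, are involutions, and are additive on `V`. -/

set_option autoImplicit false
set_option linter.unusedSectionVars false

namespace H59.SJ

open Subgroup H69 H36.SW Sgn

variable {X : Type} [Group X] [Finite X] {G : Type*} [Group G] [Finite G] {D : Dt X}
variable {t : G} {O : Subgroup G} {ι : X →* G} {z0 : G}

namespace Sgn2
variable (w : Wc D t O ι z0) (F : Fa D) (H : Fh D) (F' : Fv D)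
include w F H F'

theorem g0c : ι D.g0 * z0 * (ι D.g0)⁻¹ = z0 := by
  refine (w.two F H F'.g0z).resolve_right fun c => ?_
  obtain ⟨v, hv, a, r, vA, aA, ea, rr, ra⟩ := F'.sg
  have hv' := Fa.cjV F'.g0N hv
  have ha : a ∈ D.V := ea ▸ mul_mem (mul_mem F.zV hv) hv'
  obtain ⟨xa, h1⟩ := Hf.ex (ι := ι) (z0 := z0) aA
  obtain ⟨xv, h2⟩ := Hf.ex (ι := ι) (z0 := z0) vA
  have h3 := h2.cj D.g0
  have e3 : ι D.g0 * (ι D.g0 * xv * (ι D.g0)⁻¹) * (ι D.g0)⁻¹ = xv := by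
    calc _ = ι D.g0 * ι D.g0 * xv * (ι D.g0 * ι D.g0)⁻¹ := by group
      _ = _ := by rw [← map_mul, F'.g02]; simp
  obtain ⟨x', e2⟩ : ∃ x', ι D.g0 * xv * (ι D.g0)⁻¹ = x' := ⟨_, rfl⟩
  rw [e2] at h3 e3
  have m0 := mv w.toW2 F H Hf.base F.zV
  have m := (((mv w.toW2 F H h1 ha).mul (mv w.toW2 F H h2 hv)).mul (mv w.toW2 F H h3 hv')).mul m0
  have e0 : a * v * (D.g0 * v * D.g0⁻¹) * D.z = 1 := by
    rw [mul_assoc a, mul_assoc a, ← F.cm F.zV (mul_mem hv hv'), ← mul_assoc D.z, ← ea, F.sqV a ha]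
  rw [e0] at m
  have c1 : Commute xa xv := w.cm _ ha _ hv _ _ h1 h2
  have c2 : Commute xa x' := w.cm _ ha _ hv' _ _ h1 h3
  have c3 : Commute xv x' := w.cm _ hv _ hv' _ _ h2 h3
  have c4 : Commute xa z0 := w.cm _ ha _ F.zV _ _ h1 Hf.base
  have c5 : Commute xv z0 := w.cm _ hv _ F.zV _ _ h2 Hf.base
  have c6 : Commute x' z0 := w.cm _ hv' _ F.zV _ _ h3 Hf.base
  have p := fun {a x} (h : Hf D ι z0 a x) => P2.of_four (w.hf_P2 F h)
  obtain ⟨δ, hδ, e⟩ := w.inV F ((((p h1).mul (p h2) c1).mul (p h3) (c2.mul_left c3)).mul (p Hf.base)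
    ((c4.mul_left c5).mul_left c6)) m.ct m.2.1 w.zt F.z1 m0.2.1
    (((c4.mul_left c5).mul_left c6).symm.mul_right (Commute.refl _))
  have e1 : ι D.g0 * xa * (ι D.g0)⁻¹ = xa := by rw [← rr, w.hf_sq_fix F H h1 ra, mul_inv_cancel_right]
  refine F'.g0V δ hδ (w.inj ?_)
  rw [map_mul, map_mul, map_mul, map_inv, ← e, ← conj_mul, ← conj_mul, ← conj_mul, e1, e2, e3, c, mul_assoc xa,
    ← c3.eq]
  simp only [mul_assoc]

theorem ind (h0 : D.g0 ∉ D.H0) {a : X} {x x' : G} (h : Hf D ι z0 a x) (h' : Hf D ι z0 a x') : x = x' := by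
  have k : ∀ h, h * D.z = D.z * h → Commute (ι h) z0 := fun h hz => by
    by_cases c : h ∈ D.H0
    · exact w.zH h c
    · have c1 : Commute (ι (h * D.g0)) z0 := w.zH _ (H.idx _ _ hz F'.g0z c h0)
      have c2 : Commute (ι D.g0) z0 := mul_inv_eq_iff_eq_mul.1 (g0c w F H F')
      simpa using c1.mul_left c2.inv_left
  obtain ⟨j, e, rfl⟩ := h
  obtain ⟨j', e', rfl⟩ := h'
  have := (k (j'⁻¹ * j) (by
    calc _ = j'⁻¹ * (j * D.z * j⁻¹) * j := by group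
      _ = _ := by rw [e, ← e']; group)).eq
  rw [map_mul, map_inv] at this
  calc _ = ι j' * ((ι j')⁻¹ * ι j * z0) * (ι j)⁻¹ := by group
    _ = _ := by rw [this]; group

variable {e : X → G} (he : ∀ a, D.A a → Hf D ι z0 a (e a))
  (ec : ∀ a, D.A a → ∀ l, e (l * a * l⁻¹) = ι l * e a * (ι l)⁻¹)
include he ec

theorem line {q : X} (hq : q ∈ [D.q1, D.q3]) : e D.z * e q * e (D.z * q) = 1 := by
  have hq' : q ∈ [D.q1, D.q2, D.q3] := by
    simp only [List.mem_cons, List.not_mem_nil] at hq ⊢; tauto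
  obtain ⟨qV, qz⟩ := F'.qV q hq'
  obtain ⟨σ, s1, s2⟩ := F'.rot q hq
  have qA := F'.qA hq'
  have pA : D.A (D.z * q) := s2 ▸ qA.cj σ
  have pV := mul_mem F.zV qV
  have s3 : σ * (D.z * q) * σ⁻¹ = D.z := by
    rw [← conj_mul, s1, s2, ← mul_assoc, F.cm qV F.zV, mul_assoc, F.sqV q qV, mul_one]
  have c1 : Commute (e D.z) (e q) := w.cm _ F.zV _ qV _ _ (he _ Dt.Az) (he _ qA)
  have c2 : Commute (e D.z) (e (D.z * q)) := w.cm _ F.zV _ pV _ _ (he _ Dt.Az) (he _ pA)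
  have c3 : Commute (e q) (e (D.z * q)) := w.cm _ qV _ pV _ _ (he _ qA) (he _ pA)
  have m0 := mv w.toW2 F H (he _ Dt.Az) F.zV
  have m := (m0.mul (mv w.toW2 F H (he _ qA) qV)).mul (mv w.toW2 F H (he _ pA) pV)
  rw [F.sqV _ pV] at m
  have p := fun {a} (h : D.A a) => P2.of_four (w.hf_P2 F (he a h))
  obtain ⟨δ, hδ, d⟩ := w.inV F (((p Dt.Az).mul (p qA) c1).mul (p pA) (c2.mul_left c3)) m.ct m.2.1 m0.2.2 F.z1
    m0.2.1 (((Commute.refl _).mul_right c1).mul_right c2)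
  have cj : ∀ g, ι (g * δ * g⁻¹) = e (g * D.z * g⁻¹) * e (g * q * g⁻¹) * e (g * (D.z * q) * g⁻¹) := fun g => by
    rw [ec _ Dt.Az, ec _ qA, ec _ pA, conj_mul, conj_mul, d, map_mul, map_mul, map_inv]
  have f : σ * δ * σ⁻¹ = δ := w.inj (by
    rw [cj, s1, s2, s3, ← d, mul_assoc (e D.z), (c1.mul_right c2).eq])
  rcases F'.k q hq' δ hδ fun g g1 g2 => mul_inv_eq_iff_eq_mul.1 (w.inj (by
    rw [cj, ← conj_mul, g1, g2, mul_inv_cancel_right, mul_inv_cancel_right, d])) with c | c | c | c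
  · rw [d, c, map_one]
  · exact absurd (by rw [← s1, ← c, f]) qz
  · rw [c, s2, mul_eq_right] at f
    exact absurd f F.z1
  · rw [c, s3, left_eq_mul] at f
    exact absurd f (F.A1 qA)

theorem lin {a a' : X} (ha : a ∈ D.V) (ha' : a' ∈ D.V) (h : D.A a) (h' : D.A a') (h'' : D.A (a * a')) :
    e a * e a' * e (a * a') = 1 := by
  have k : ∀ q ∈ [D.q1, D.q3], D.Ty q a a' → e a * e a' * e (a * a') = 1 := fun q hq ⟨g, e1, e2⟩ => by
    have qA : D.A q := (F'.rot q hq).A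
    have pA : D.A (D.z * q) := by
      have := h''.cj g⁻¹
      rwa [← e1, ← e2, conj_mul, show g⁻¹ * (g * (D.z * q) * g⁻¹) * g⁻¹⁻¹ = D.z * q by group] at this
    rw [← e1, ← e2, conj_mul, ec _ Dt.Az, ec _ qA, ec _ pA, conj_mul, conj_mul, line w F H F' he ec hq]
    simp
  rcases F'.cls' F ha ha' h h' with rfl | y | ⟨g, e1, e2⟩ | y
  · exact absurd (F.sqV a ha) (F.A1 h'')
  · exact k _ (by simp) y
  · exact absurd (by rw [← e1, ← e2, conj_mul]; exact F'.b2q.cj g) (F.nAB _ h'')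
  · exact k _ (by simp) y

theorem sq1 : z0 * z0 = 1 := by
  refine w.zz.resolve_right fun c => ?_
  have s : ∀ a, D.A a → e a * e a = ι a := fun a h => ((w.hf_sq (he a h)).resolve_left fun d =>
    F.z1 (w.inj (by rw [← c, d.1, map_one]))).2
  obtain ⟨u, hu, v, hv, uA, vA, h1, h2, h3, vz⟩ := F'.pl
  have l1 := lin w F H F' he ec F.zV hu Dt.Az uA h1
  have l2 := lin w F H F' he ec (mul_mem F.zV hu) hv h1 vA h3
  have l3 := lin w F H F' he ec hu hv uA vA h2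
  have l4 := lin w F H F' he ec F.zV (mul_mem hu hv) Dt.Az h2 (mul_assoc D.z u v ▸ h3)
  rw [← mul_assoc D.z, eq_inv_of_mul_eq_one_right l3] at l4
  rw [eq_inv_of_mul_eq_one_right l1, eq_inv_of_mul_eq_one_right l4] at l2
  have c1 : e D.z * e u = e u * e D.z := w.cm _ F.zV _ hu _ _ (he _ Dt.Az) (he _ uA)
  have c2 : e v * e u = e u * e v := w.cm _ hv _ hu _ _ (he _ vA) (he _ uA)
  refine vz (w.inj ?_)
  rw [← s _ vA, ← s _ Dt.Az]
  apply mul_left_cancel (a := e u)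
  calc _ = e D.z * e u * ((e D.z * e u)⁻¹ * e v * (e D.z * (e u * e v)⁻¹)⁻¹) * e D.z := by
        rw [← mul_assoc]; nth_rw 1 [← c2]; group
    _ = _ := by rw [l2, mul_one, c1, mul_assoc]

end Sgn2

open Sgn2

theorem Wc.exists_Wa (F : Fa D) (H : Fh D) (F' : Fv D) (h : D.g0 ∉ D.H0) {z0 : G} (w : Wc D t O ι z0) :
    ∃ e, Wa D t O ι e := by
  have ex : ∀ a, D.A a → ∃ x, Hf D ι z0 a x := fun a h => Hf.ex h
  choose! e he using ex
  have ec : ∀ a, D.A a → ∀ l, e (l * a * l⁻¹) = ι l * e a * (ι l)⁻¹ := fun a ha l =>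
    ind w F H F' h (he _ (ha.cj l)) ((he a ha).cj l)
  have e2 : ∀ a, D.A a → e a * e a = 1 := fun a ha => ((w.hf_sq (he a ha)).resolve_right fun d =>
    F.z1 (w.inj (by rw [← d.1, sq1 w F H F' he ec, map_one]))).2
  refine ⟨e, w.toW0, e2, fun a ha => by rw [← w.hf_t (he a ha), isv (e2 a ha)], ec,
    fun a ha o ho => w.hf_O (he a ha) ho, fun a ha a' ha' h h' => w.cm _ ha _ ha' _ _ (he a h) (he a' h'),
    fun a ha a' ha' h h' h'' => ?_⟩
  rw [← isv (e2 _ h''), ← eq_inv_of_mul_eq_one_left (lin w F H F' he ec ha ha' h h' h'')]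

end H59.SJ
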