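import Mathlib
import Cfsg.Agent.Base
import Cfsg.Agent.Lib.StdJ.Red2
import Cfsg.Agent.Lib.StdJ.Fus1
import Cfsg.Agent.Lib.StdJ.Fus2
import Cfsg.Agent.Lib.StdJ.Sgn1
import Cfsg.Agent.Lib.StdJ.Act1
import Cfsg.Agent.Lib.StdJ.Act2
import Cfsg.Agent.Lib.StdJ.Gen
import Cfsg.Agent.Lib.StdJ.End1
import Cfsg.Agent.Lib.StdJ.End2
import Cfsg.Agent.Lib.StdJ.End3
import Cfsg.Agent.Lib.StdJ.MJ
import Cfsg.Agent.Lib.StdJ.ModA
import Cfsg.Agent.Lib.StdJ.Red1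
import Cfsg.Agent.Lib.StdJ.Sgn2
import Cfsg.Agent.Lib.StdJ.ModH
import Cfsg.Agent.Lib.StdJ.ModR

/-! A standard subgroup isomorphic to `J4`. -/

set_option autoImplicit false

namespace H59.SJ

open Subgroup H69 H36.SW

theorem main {X : Type} [Group X] [Finite X] {G : Type*} [Group G] [Finite G] {D : Dt X} (F : Fx D)
    (hO : Cfsg.oddCore G = ⊥) {A : Subgroup G} (hA : Cfsg.IsStandardSubgroup A) (e : A ≃* X) :
    A.Normal ∨ Nonempty (normalClosure (A : Set G) ≃* A × A) := by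
  rcases red1 F.toFa hO hA e with h | h | ⟨g, k, h⟩
  · exact .inl h
  · exact .inr h
  obtain ⟨t, O, w, g, a, a1, a2, hg⟩ := red2 F.toFa F.redz F.redb hA e h
  obtain ⟨k, hk⟩ := w.fusz F.toFa a1 a2 hg
  obtain ⟨z0, w2⟩ := w.exists_W2 F.toFa F.toFh hk
  obtain ⟨z1, wc⟩ := w2.exists_Wc F.toFa F.toFh F.toFv
  obtain ⟨f, wa⟩ := wc.exists_Wa F.toFa F.toFh F.toFv F.g0H
  obtain ⟨θ, th⟩ := wa.exists_th F.toFa F.toFv
  have h := (th.cases F.toFa F.toFv F.toFj (th.norm F.toFa F.toFv F.toFj.dA)).resolve_right (th.not_Y F.toFa F.toFv)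
  obtain ⟨ψ, w3⟩ := wa.exists_W3 F.toFa F.toFv F.toFj fun a ha hA => th.eq a ha hA ▸ h a ha
  obtain ⟨Ψ, G0, en, hΨ⟩ := w3.exists_en F.toFa
  have e1 := en.fin F.toFa hO (en.cl_all F.toFa (en.cl_inv F.toFa))
  have e2 : (Set.range fun x => Ψ (x, x)) = (A : Set G) := by
    ext y
    exact ⟨fun ⟨x, hx⟩ => by rw [← hx]; simp [hΨ], fun hy => ⟨e ⟨y, hy⟩, by simp [hΨ]⟩⟩
  rw [e2] at e1
  exact .inr ⟨(MulEquiv.subgroupCongr e1).trans ((MonoidHom.ofInjective en.inj).symm.trans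
    (MulEquiv.prodCongr e.symm e.symm))⟩

open H66.J4 Cfsg.Spor

/-- the coordinates in `J4` -/
noncomputable def CJ : Cx J4 where
  el := vel
  gx := gJ 0
  gy := gJ 1
  ea := eaJ
  ax := axJ 0 (by decide)
  ay := axJ 1 (by decide)
  cV _ h := MJ.cent_V_le fun v hv => (h v hv).symm
  MV := MVJ
  nc := ncJ

theorem exists_fx : ∃ D : Dt J4, Fx D := by
  obtain ⟨T, h1, h2, h3, h4, h5⟩ := exists_TJ
  have n := n4J (CJ.D T (mdJ.pre M22) (gJ 2)) rfl rfl rfl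
  exact ⟨CJ.D T (mdJ.pre M22) (gJ 2), CJ.fa _ _ _ inferInstance aut_J4 schurJ h1 invJ h4 h5 h2 h3 ea0J eaNJ cbJ genCJ,
    fhJ _ rfl rfl rfl rfl ncJ, CJ.fv _ _ _, fjJ rfl rfl rfl T genJ, n.1, n.2⟩

theorem stdJ4 {G : Type*} [Group G] [Finite G] (hO : Cfsg.oddCore G = ⊥) {A : Subgroup G}
    (hA : Cfsg.IsStandardSubgroup A) (h : IsoJ4 A) : A.Normal ∨ Nonempty (normalClosure (A : Set G) ≃* A × A) :=
  let ⟨_, F⟩ := exists_fx
  h.elim fun e => main F hO hA e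

theorem eqns_Main : True := by
  have := @CJ.eq_1
  trivial

end H59.SJ
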