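import Mathlib
import Cfsg.Agent.Base
import Cfsg.Agent.Lib.StdJ.Th
import Cfsg.Agent.Lib.StdW.A
import Cfsg.Prelude.Def_Local

/-! The first reduction. -/

set_option autoImplicit false

namespace H59.SJ

open Subgroup H69 H36.SW
open scoped commutatorElement

variable {X : Type} [Group X] [Finite X] {G : Type*} [Group G] [Finite G] {D : Dt X}

namespace Red1

omit [Finite X] [Finite G] in
theorem dec (F : Fa D) {A : Subgroup G} (e : A ≃* X) {g : G} (hg : g ∈ 𝐍(A)) :
    ∃ c ∈ 𝐂(A), ∃ a ∈ A, g = c * a := by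
  obtain ⟨x, hx⟩ := F.aut (e.symm.trans ((A.normalizerMonoidHom ⟨g, hg⟩).trans e))
  refine ⟨g * (e.symm x).1⁻¹, mem_centralizer_iff_commute.2 fun a ha => ?_, _, (e.symm x).2,
    (inv_mul_cancel_right _ _).symm⟩
  have h1 := congrArg (fun y => (e.symm y).1) (hx (e ((e.symm x)⁻¹ * ⟨a, ha⟩ * e.symm x)))
  simp only [MulEquiv.trans_apply, MulEquiv.symm_apply_apply, map_mul, map_inv,
    MulEquiv.apply_symm_apply, coe_mul, coe_inv, normalizerMonoidHom_apply_apply_coe] at h1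
  calc a * (g * (e.symm x).1⁻¹) = (e.symm x).1 * ((e.symm x).1⁻¹ * a * (e.symm x).1) *
        (e.symm x).1⁻¹ * (g * (e.symm x).1⁻¹) := by group
    _ = _ := by rw [← h1]; group

theorem two (F : Fa D) {A : Subgroup G} (e : A ≃* X) {k : G} (k2 : k * k = 1)
    (hk : ∀ g, g * k = k * g → g ∈ 𝐍(A)) {Y : Subgroup G} (hY : IsSimpleGroup Y)
    (hY' : ¬ IsMulCommutative Y) (i : Y ≃* A) (c : ∀ a ∈ Y, ∀ b ∈ Y ^ᶜ k, a * b = b * a)
    (hi : Y ⊓ Y ^ᶜ k = ⊥) [hn : (Y ⊔ Y ^ᶜ k).Normal] (hC : 𝐂(A) = zpowers k) :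
    Nonempty (normalClosure (A : Set G) ≃* A × A) := by
  have c' : ∀ a b : Y, Commute (Y.subtype a) (((MulAut.conj k).toMonoidHom.comp Y.subtype) b) :=
    fun a b => c a a.2 _ (cj_mem k b.2)
  let Ψ := Y.subtype.noncommCoprod ((MulAut.conj k).toMonoidHom.comp Y.subtype) c'
  have hΨ : ∀ a b : Y, Ψ (a, b) = a * (k * b * k⁻¹) := fun _ _ => rfl
  have inj : Function.Injective Ψ := (injective_iff_map_eq_one _).2 fun ⟨a, b⟩ h => by
    rw [hΨ] at h
    have h1 : a.1 ∈ Y ⊓ Y ^ᶜ k := mem_inf.2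
      ⟨a.2, eq_inv_of_mul_eq_one_left h ▸ inv_mem (cj_mem k b.2)⟩
    rw [hi, mem_bot] at h1
    rw [h1, one_mul, conj_eq_one_iff] at h
    exact Prod.ext (Subtype.ext h1) (Subtype.ext h)
  have rg : Ψ.range = Y ⊔ Y ^ᶜ k := by
    rw [MonoidHom.noncommCoprod_range, ← MonoidHom.map_range, range_subtype]
  have pf : ∀ P : Subgroup Y, (∀ a b, ⁅a, b⁆ ∈ P) → ∀ a, a ∈ P := fun P h a => by
    rcases IsSimpleGroup.eq_bot_or_eq_top_of_normal (commutator Y) inferInstance with h1 | h1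
    · exact absurd ⟨⟨fun a b => commutatorElement_eq_one_iff_mul_comm.1
        (mem_bot.1 (h1 ▸ commutator_mem_commutator (mem_top a) (mem_top b)))⟩⟩ hY'
    · exact (commutator_le.2 fun a _ b _ => h a b : commutator Y ≤ P) (h1.ge (mem_top a))
  let δ : Y →* G := Ψ.comp ((MonoidHom.id Y).prod (MonoidHom.id Y))
  have hδ : ∀ a : Y, δ a = a * (k * a * k⁻¹) := fun _ => rfl
  have δN : ∀ a, δ a ∈ 𝐍(A) := fun a => hk _ (by
    have h := c a a.2 _ (cj_mem k a.2)
    rw [hδ]
    calc a * (k * a * k⁻¹) * k = k * (k * a * k⁻¹ * a) := by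
          rw [isv k2]; simp only [← mul_assoc, mul_assoc _ k k, k2, one_mul, mul_one]
      _ = _ := by rw [h])
  have δA : ∀ a, δ a ∈ A := pf (A.comap δ) fun a b => by
    obtain ⟨u, hu, x, hx, e1⟩ := dec F e (δN a)
    obtain ⟨v, hv, y, hy, e2⟩ := dec F e (δN b)
    have uv : Commute u v := by
      rw [hC] at hu hv
      obtain ⟨m, rfl⟩ := hu
      obtain ⟨n, rfl⟩ := hv
      exact Commute.zpow_zpow_self k m n
    have cu : ∀ {w z}, w ∈ 𝐂(A) → z ∈ A → Commute w z := fun hw hz => (hw _ hz).symm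
    rw [mem_comap, map_commutatorElement, e1, e2]
    have : ⁅u * x, v * y⁆ = ⁅x, y⁆ := by
      calc ⁅u * x, v * y⁆ = u * (x * (v * y) * x⁻¹) * u⁻¹ * y⁻¹ * v⁻¹ := by
            rw [commutatorElement_def]; group
        _ = x * v * (y * x⁻¹ * y⁻¹) * v⁻¹ := by
            rw [(((cu hu hx).mul_right (uv.mul_right (cu hu hy))).mul_right
              (cu hu (inv_mem hx))).eq]; group
        _ = _ := by
            rw [mul_assoc x, (cu hv (mul_mem (mul_mem hy (inv_mem hx)) (inv_mem hy))).eq,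
              commutatorElement_def]; group
    exact this ▸ mul_mem (mul_mem (mul_mem hx hy) (inv_mem hx)) (inv_mem hy)
  have δi : Function.Injective δ := fun a b h => congrArg Prod.fst (inj h)
  have rA : δ.range = A := eq_of_le_of_card_ge (by rintro _ ⟨a, rfl⟩; exact δA a)
    ((Nat.card_congr i.toEquiv).symm.trans (Nat.card_congr (MonoidHom.ofInjective δi).toEquiv)).le
  have YM : Y ≤ normalClosure (A : Set G) := fun a ha =>
    pf ((normalClosure (A : Set G)).subgroupOf Y) (fun a b => by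
      have h1 : δ a ∈ normalClosure (A : Set G) := le_normalClosure (δA a)
      have h2 := mul_mem h1 (normalClosure_normal.conj_mem _ (inv_mem h1) b)
      rw [hδ, mul_inv_rev, ← mul_assoc b.1, c b b.2 _ (inv_mem (cj_mem k a.2))] at h2
      rw [mem_subgroupOf]
      change a.1 * b * a.1⁻¹ * b.1⁻¹ ∈ _
      simpa only [mul_assoc, mul_inv_cancel_left] using h2) ⟨a, ha⟩
  have hM : normalClosure (A : Set G) = Ψ.range := by
    rw [rg]
    refine le_antisymm (normalClosure_le_normal ?_) (sup_le YM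
      (cj_le_of_mem_normalizer YM (by rw [normalizer_eq_top]; trivial)))
    rw [← rA, ← rg]
    rintro _ ⟨a, rfl⟩
    exact ⟨_, rfl⟩
  exact ⟨(MulEquiv.subgroupCongr hM).trans ((MonoidHom.ofInjective inj).symm.trans
    (MulEquiv.prodCongr i i))⟩

end Red1

open Red1 H36.SW.A in
theorem red1 (F : Fa D) (hO : Cfsg.oddCore G = ⊥) {A : Subgroup G} (hA : Cfsg.IsStandardSubgroup A) (e : A ≃* X) :
    A.Normal ∨ Nonempty (normalClosure (A : Set G) ≃* A × A) ∨ ∃ g k, H36.SW.A.Bad A g k := by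
  have st := St.of hA
  obtain ⟨k, hk, k2, k1⟩ := st.ev
  have CN : ∀ g, g * k = k * g → g ∈ 𝐍(A) := fun g h =>
    st.T g k hk (P2.of_sq k2) k1 (by rwa [h, mul_inv_cancel_right])
  rcases Cfsg.Agent.S1347.result A hA hO k (H9.orderOf_eq_two_of_mul_self k1 k2) hk with
    h | ⟨Y, hY, hY', ⟨i⟩, c, hi, hs, hC⟩ | ⟨AE, hE, -⟩
  · exact .inl h
  · exact .inr (.inl (two F e k2 CN hY hY' i c hi (hn := hs ▸ inferInstance) hC))
  by_contra hb
  rw [not_or, not_or] at hb
  obtain ⟨hn, -, hb⟩ := hb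
  rcases Cfsg.Agent.S1911.result 𝐂(A) hA.2.1 (fun g hg => (H9.odd_card_iff_forall_orderOf_ne_two _).2
      fun s hs s2 => hb (by
        obtain ⟨i, hi, rfl⟩ := mem_cj'.1 hs.1
        rw [H9.orderOf_conj] at s2
        rw [← hA.2.2.2] at hg hs
        exact ⟨g, i, hg, hi, H9.mul_self_of_orderOf_two s2, H9.ne_one_of_orderOf_two s2, hs.2⟩)) with h | h
  · exact hn (normalizer_eq_top_iff.1 (hA.2.2.2.trans (normalizer_eq_top_iff.2 h)))
  have KY : 𝐂(A) ≤ normalClosure (𝐂(A) : Set G) := le_normalClosure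
  have a1 : (e.symm D.z).1 ≠ 1 := fun h' => F.z1 (e.symm.injective
    ((Subtype.ext h').trans (map_one e.symm).symm))
  rcases (normalClosure_normal.subgroupOf (Cfsg.layer G)
    (H := normalClosure (𝐂(A) : Set G))).eq_bot_or_eq_top with h1 | h1
  · have h2 : Cfsg.layer G ≤ 𝐍(A) := fun g hg => CN g
      (commute_of_normal_of_disjoint _ _ inferInstance inferInstance (subgroupOf_eq_bot.1 h1) k g
        (KY hk) hg).eq.symm
    rcases ((normal_subgroupOf_iff_le_normalizer AE).2 h2).eq_bot_or_eq_top with h3 | h3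
    · rw [subgroupOf_eq_bot, disjoint_iff, inf_eq_left.2 AE] at h3
      exact a1 (mem_bot.1 (h3.le (e.symm D.z).2))
    · exact hn (le_antisymm AE (subgroupOf_eq_top.1 h3) ▸ inferInstance)
  · have LY := AE.trans (subgroupOf_eq_top.1 h1)
    have a2 : (e.symm D.z).1 * (e.symm D.z).1 = 1 := by
      rw [← coe_mul, ← map_mul, F.z2, map_one, coe_one]
    obtain ⟨u, u2, hu⟩ := H42.SE.exists_involution_not_mem h
    obtain ⟨d, hd, -, e'⟩ := H42.SE.exists_conj h (s := ⟨k, KY hk⟩) (t := ⟨_, LY (e.symm D.z).2⟩)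
      (H9.mul_self_of_orderOf_two u2) hu
      (H9.orderOf_eq_two_of_mul_self (fun e => k1 (congrArg Subtype.val e)) (Subtype.ext k2))
      (le_normalizer hk)
      (H9.orderOf_eq_two_of_mul_self (fun e => a1 (congrArg Subtype.val e)) (Subtype.ext a2))
      (normalizer_le_normalizer_centralizer A (le_normalizer (e.symm D.z).2))
    have h2 : (e.symm D.z).1 ∈ 𝐂(A) := by
      rw [← show (d : G) * k * (d : G)⁻¹ = (e.symm D.z).1 from congrArg Subtype.val e']
      exact conj_mem_of_mem_normalizer hd.1 hk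
    exact F.z1 (F.cen1 fun y => e.symm.injective (by
      rw [map_mul, map_mul]
      exact Subtype.ext (h2 _ (e.symm y).2)))

end H59.SJ
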